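import Mathlib

/-!
A fast code for square matrices of size 78 over a field of characteristic two containing a root of
x² + x + 1: a row is one number, the coefficients of 1 in bits 0..77 and those of the root in bits
78..155; a matrix is its rows packed into one number.
-/

set_option autoImplicit false
set_option exponentiation.threshold 13000

namespace Cfsg.Agent.Lib.E6Fi22

/-- The mask of one plane. -/
def mask : ℕ := 302231454903657293676543

theorem mask_eq : mask = 2 ^ 78 - 1 := by decide +kernel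

/-- A row times a coefficient. -/
def scl (c r : ℕ) : ℕ :=
  let lo := Nat.land r mask
  let hi := Nat.land (Nat.shiftRight r 78) mask
  if Nat.beq c 1 then Nat.xor lo (Nat.shiftLeft hi 78)
  else if Nat.beq c 2 then Nat.xor hi (Nat.shiftLeft (Nat.xor lo hi) 78)
  else if Nat.beq c 3 then Nat.xor (Nat.xor lo hi) (Nat.shiftLeft lo 78)
  else 0

/-- Rows packed into one number. -/
def packRows : List ℕ → ℕ
  | [] => 0
  | r :: rs => Nat.add r (Nat.shiftLeft (packRows rs) 156)

/-- A row of a packed matrix. -/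
def rowAt (M k : ℕ) : ℕ := Nat.mod (Nat.shiftRight M (Nat.mul 156 k)) (Nat.shiftLeft 1 156)

theorem rowAt_packRows : ∀ (l : List ℕ), (∀ r ∈ l, r < 2 ^ 156) → ∀ k,
    rowAt (packRows l) k = l.getD k 0
  | [], _, k => by
    show (0 >>> (156 * k)) % _ = _
    simp
  | r :: rs, h, k => by
    have hr := h r (by simp)
    have ih := rowAt_packRows rs fun r hr => h r (by simp [hr])
    have e : ∀ M k, rowAt M k = M / 2 ^ (156 * k) % 2 ^ 156 := by
      intro M k
      show M >>> (156 * k) % (1 <<< 156) = _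
      rw [Nat.shiftRight_eq_div_pow, Nat.one_shiftLeft]
    rw [e]
    show (r + packRows rs <<< 156) / 2 ^ (156 * k) % 2 ^ 156 = _
    rw [Nat.shiftLeft_eq, Nat.mul_comm (packRows rs)]
    cases k with
    | zero =>
      rw [Nat.mul_zero, pow_zero, Nat.div_one, List.getD_cons_zero, Nat.add_mul_mod_self_left,
        Nat.mod_eq_of_lt hr]
    | succ k =>
      have := ih k
      rw [e] at this
      rw [List.getD_cons_succ, ← this, show 156 * (k + 1) = 156 + 156 * k by ring, pow_add,
        ← Nat.div_div_eq_div_mul, Nat.add_mul_div_left _ _ (by positivity),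
        Nat.div_eq_of_lt hr, Nat.zero_add]

/-- A sparse row times a packed matrix. -/
def rowSum : List (ℕ × ℕ) → ℕ → ℕ
  | [], _ => 0
  | (k, c) :: l, M => Nat.xor (scl c (rowAt M k)) (rowSum l M)

/-- A sparse matrix times a packed matrix. -/
def step (g : List (List (ℕ × ℕ))) (M : ℕ) : ℕ := packRows (g.map fun row => rowSum row M)

/-- Side conditions on a sparse matrix. -/
def okGen (g : List (List (ℕ × ℕ))) : Bool :=
  Nat.beq g.length 78 && g.all fun row => row.all fun e => Nat.blt e.1 78 && Nat.blt e.2 4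

/-- The packed identity. -/
def oneN : ℕ := packRows ((List.range 78).map fun i => Nat.shiftLeft 1 i)

/-- Coded product of a word of sparse matrices. -/
def evalN (gs : List (List (List (ℕ × ℕ)))) : ℕ := gs.foldr (fun g M => step g M) oneN

/-- A check that two words of sparse matrices evaluate to the same matrix. -/
def sameWord (gs hs : List (List (List (ℕ × ℕ)))) : Bool :=
  gs.all okGen && hs.all okGen && Nat.beq (evalN gs) (evalN hs)

section Semantics

variable {K : Type*} [Field K] [CharP K 2] (ω : K)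

/-- The value of a coefficient code. -/
def cfv : ℕ → K
  | 1 => 1
  | 2 => ω
  | 3 => 1 + ω
  | _ => 0

/-- A Boolean as a scalar. -/
def bv (b : Bool) : K := if b then 1 else 0

omit [CharP K 2] in
theorem bv_false : bv (K := K) false = 0 := rfl

theorem bv_xor (a b : Bool) : bv (K := K) (a ^^ b) = bv a + bv b := by
  cases a <;> cases b <;> simp [bv, CharTwo.add_self_eq_zero]

/-- The entries of a coded row. -/
def rowVec (r : ℕ) (j : ℕ) : K := bv (r.testBit j) + ω * bv (r.testBit (78 + j))

omit [CharP K 2] in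
theorem rowVec_zero (j : ℕ) : rowVec ω 0 j = 0 := by simp [rowVec, bv]

theorem rowVec_xor (a b j : ℕ) : rowVec ω (Nat.xor a b) j = rowVec ω a j + rowVec ω b j := by
  show rowVec ω (a ^^^ b) j = _
  simp only [rowVec, Nat.testBit_xor, bv_xor]
  ring

theorem testBit_mask {i : ℕ} : mask.testBit i = decide (i < 78) := by
  rw [mask_eq, Nat.testBit_two_pow_sub_one]

theorem rowVec_scl (hω : ω * ω = ω + 1) (c r : ℕ) {j : ℕ} (hj : j < 78) :
    rowVec ω (scl c r) j = cfv ω c * rowVec ω r j := by
  have h1 : ¬ (78 + j < 78) := by omega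
  have h2 : ¬ (j ≥ 78) := by omega
  have h3 : 78 + j ≥ 78 := by omega
  match c with
  | 0 => simp [scl, cfv, rowVec_zero]
  | 1 =>
    show rowVec ω ((r &&& mask) ^^^ (((r >>> 78) &&& mask) <<< 78)) j = _
    simp [rowVec, cfv, Nat.testBit_xor, Nat.testBit_and, Nat.testBit_shiftLeft, Nat.testBit_shiftRight,
      testBit_mask, hj, h1, h2]
  | 2 =>
    show rowVec ω (((r >>> 78) &&& mask) ^^^ (((r &&& mask) ^^^ ((r >>> 78) &&& mask)) <<< 78)) j = _
    simp only [rowVec, cfv, Nat.testBit_xor, Nat.testBit_and, Nat.testBit_shiftLeft, Nat.testBit_shiftRight,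
      testBit_mask, hj, h1, h2, h3, decide_true, decide_false, Bool.and_true, Bool.and_false, bv_xor,
      bv_false, Nat.add_sub_cancel_left, Bool.false_and, Bool.true_and, add_zero, zero_add]
    linear_combination (norm := ring_nf) (-bv (r.testBit (78 + j))) * hω
  | 3 =>
    show rowVec ω (((r &&& mask) ^^^ ((r >>> 78) &&& mask)) ^^^ ((r &&& mask) <<< 78)) j = _
    simp only [rowVec, cfv, Nat.testBit_xor, Nat.testBit_and, Nat.testBit_shiftLeft, Nat.testBit_shiftRight,
      testBit_mask, hj, h1, h2, h3, decide_true, decide_false, Bool.and_true, Bool.and_false, bv_xor,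
      bv_false, Nat.add_sub_cancel_left, Bool.false_and, Bool.true_and, add_zero, zero_add]
    linear_combination (norm := ring_nf) (-bv (r.testBit (78 + j))) * hω +
      (-ω * bv (r.testBit (78 + j))) * CharTwo.two_eq_zero (R := K)
  | c + 4 => simp [scl, cfv, rowVec_zero]

theorem scl_lt (c r : ℕ) : scl c r < 2 ^ 156 := by
  have ha : ∀ x, x &&& mask < 2 ^ 78 := fun x =>
    lt_of_le_of_lt Nat.and_le_right (by rw [mask_eq]; norm_num)
  have hb : ∀ {x}, x < 2 ^ 78 → x < 2 ^ 156 := fun h =>
    lt_of_lt_of_le h (Nat.pow_le_pow_right (by norm_num) (by omega))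
  have hs : ∀ {x}, x < 2 ^ 78 → x <<< 78 < 2 ^ 156 := fun {x} h => by
    rw [Nat.shiftLeft_eq, show (156 : ℕ) = 78 + 78 from rfl, pow_add]
    exact Nat.mul_lt_mul_of_pos_right h (by positivity)
  have hx : ∀ {x y}, x < 2 ^ 78 → y < 2 ^ 78 → x ^^^ y < 2 ^ 78 := fun h h' => Nat.xor_lt_two_pow h h'
  match c with
  | 0 => simp [scl]
  | 1 => exact Nat.xor_lt_two_pow (hb (ha _)) (hs (ha _))
  | 2 => exact Nat.xor_lt_two_pow (hb (ha _)) (hs (hx (ha _) (ha _)))
  | 3 => exact Nat.xor_lt_two_pow (hb (hx (ha _) (ha _))) (hs (ha _))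
  | c + 4 => simp [scl]

theorem rowSum_lt (M : ℕ) : ∀ row : List (ℕ × ℕ), rowSum row M < 2 ^ 156
  | [] => by show 0 < _; positivity
  | (k, c) :: l => Nat.xor_lt_two_pow (scl_lt _ _) (rowSum_lt M l)

/-- The entry of a sparse row. -/
def rowVal (row : List (ℕ × ℕ)) (k : ℕ) : K :=
  ((row.filter fun e => decide (e.1 = k)).map fun e => cfv ω e.2).sum

/-- The matrix given by sparse data. -/
def genMat (g : List (List (ℕ × ℕ))) : Matrix (Fin 78) (Fin 78) K :=
  Matrix.of fun i k => rowVal ω (g.getD i.1 []) k.1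

/-- The matrix of a packed code. -/
def dec (M : ℕ) : Matrix (Fin 78) (Fin 78) K := Matrix.of fun i j => rowVec ω (rowAt M i.1) j.1

theorem rowSum_vec (hω : ω * ω = ω + 1) (M : ℕ) {j : ℕ} (hj : j < 78) :
    ∀ row : List (ℕ × ℕ), (∀ e ∈ row, e.1 < 78) →
      rowVec ω (rowSum row M) j = ∑ k : Fin 78, rowVal ω row k.1 * rowVec ω (rowAt M k.1) j
  | [], _ => by simp [rowSum, rowVec_zero, rowVal]
  | (k, c) :: l, h => by
    have hk : k < 78 := h (k, c) (by simp)
    have hval : ∀ m : ℕ, rowVal ω ((k, c) :: l) m = (if k = m then cfv ω c else 0) + rowVal ω l m := by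
      intro m
      by_cases h : k = m <;> simp [rowVal, h]
    simp_rw [hval, add_mul]
    rw [Finset.sum_add_distrib]
    show rowVec ω (Nat.xor _ _) j = _
    rw [rowVec_xor, rowVec_scl ω hω c _ hj, rowSum_vec hω M hj l fun e he => h e (by simp [he])]
    congr 1
    rw [Finset.sum_eq_single (⟨k, hk⟩ : Fin 78)]
    · rw [if_pos rfl]
    · intro m _ hm
      rw [if_neg (fun h => hm (Fin.ext h.symm)), zero_mul]
    · simp

theorem dec_step (hω : ω * ω = ω + 1) {g : List (List (ℕ × ℕ))} (hg : okGen g = true) (M : ℕ) :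
    dec ω (step g M) = genMat ω g * dec ω M := by
  simp only [okGen, Bool.and_eq_true, Nat.beq_eq, List.all_eq_true, Nat.blt_eq] at hg
  obtain ⟨hlen, hrows⟩ := hg
  ext i j
  rw [Matrix.mul_apply]
  show rowVec ω (rowAt (packRows (g.map fun row => rowSum row M)) i.1) j.1 = _
  rw [rowAt_packRows _ (fun r hr => by
    obtain ⟨row, -, rfl⟩ := List.mem_map.1 hr
    exact rowSum_lt M row)]
  have hi : i.1 < g.length := lt_of_lt_of_eq i.2 hlen.symm
  rw [List.getD_eq_getElem _ 0 (by simpa using hi), List.getElem_map,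
    rowSum_vec ω hω M j.2 _ fun e he => (hrows _ (List.getElem_mem hi) e he).1]
  refine Finset.sum_congr rfl fun k _ => ?_
  show _ = rowVal ω (g.getD i.1 []) k.1 * _
  rw [List.getD_eq_getElem g _ hi]
  rfl

omit [CharP K 2] in
theorem dec_one : dec ω oneN = 1 := by
  ext i j
  show rowVec ω (rowAt oneN i.1) j.1 = _
  rw [oneN, rowAt_packRows _ (fun r hr => by
    obtain ⟨k, hk, rfl⟩ := List.mem_map.1 hr
    show 1 <<< k < _
    rw [Nat.one_shiftLeft]
    exact Nat.pow_lt_pow_right (by norm_num) (by have := List.mem_range.1 hk; omega))]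
  rw [List.getD_eq_getElem _ 0 (by simp), List.getElem_map, List.getElem_range]
  show rowVec ω (1 <<< i.1) j.1 = _
  simp only [rowVec, Nat.one_shiftLeft, Nat.testBit_two_pow]
  have : ¬ i.1 = 78 + j.1 := by omega
  by_cases h : i = j
  · subst h; simp [bv]
  · simp [bv, h, this, Fin.val_inj]

theorem dec_evalN (hω : ω * ω = ω + 1) : ∀ gs : List (List (List (ℕ × ℕ))),
    (∀ g ∈ gs, okGen g = true) → dec ω (evalN gs) = (gs.map (genMat ω)).prod
  | [], _ => dec_one ω
  | g :: l, h => by
    show dec ω (step g (evalN l)) = _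
    rw [dec_step ω hω (h g (by simp)), dec_evalN hω l fun g hg => h g (by simp [hg]), List.map_cons,
      List.prod_cons]

theorem prod_eq_prod (hω : ω * ω = ω + 1) {gs hs : List (List (List (ℕ × ℕ)))}
    (h : sameWord gs hs = true) : (gs.map (genMat ω)).prod = (hs.map (genMat ω)).prod := by
  simp only [sameWord, Bool.and_eq_true, Nat.beq_eq, List.all_eq_true] at h
  rw [← dec_evalN ω hω gs h.1.1, ← dec_evalN ω hω hs h.1.2, h.2]

end Semantics

end Cfsg.Agent.Lib.E6Fi22
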