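import Cfsg.Agent.Lib.E6Fi22.Rep

/-!
A matrix commuting with the images of b, …, i is scalar: an element of their enveloping algebra has a
one dimensional kernel, whose translates span.
-/

set_option autoImplicit false
set_option maxRecDepth 100000
set_option linter.unusedSectionVars false

namespace Cfsg.Agent.Lib.E6Fi22

open scoped MatrixGroups

/-- The code of an entry of a coded row. -/
def entC (r j : ℕ) : ℕ := Nat.add (r.testBit j).toNat (Nat.mul 2 (r.testBit (78 + j)).toNat)

/-- The coded spanning matrix. -/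
def sN : ℕ := evalN [sMat]

theorem dat_ok : (okGen eMat && okGen lMat && okGen sMat && okGen tMat && Nat.blt fCol 78) = true := by
  decide +kernel

theorem imgs_ok : ((List.range 9).all fun k => okGen (imgN k)) = true := by decide +kernel

theorem words_ok : ((cw1 ++ cw2).all fun k => Nat.blt 0 k && Nat.blt k 9) = true := by decide +kernel

theorem e_ok : ((List.range 78).all fun i => Nat.beq (rowAt (evalN [eMat]) i)
    (Nat.xor (Nat.xor (rowAt (evalN (cw1.map imgN)) i) (scl 2 (rowAt (evalN (cw2.map imgN)) i)))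
      (scl 2 (rowAt oneN i)))) = true := by decide +kernel

theorem le_ok : ((List.range 78).all fun i => Nat.beq (rowAt (evalN [lMat, eMat]) i)
    (Nat.xor (rowAt oneN i) (scl (entC (rowAt sN i) 0) (rowAt oneN fCol)))) = true := by decide +kernel

theorem ev_ok : ((List.range 78).all fun i => Nat.beq (entC (rowAt (evalN [eMat, sMat]) i) 0) 0) = true := by
  decide +kernel

theorem steps_ok : ((List.range 77).all fun k =>
    Nat.blt 0 (stepList.getD k (0, 0)).1 && Nat.blt (stepList.getD k (0, 0)).1 9 &&
      Nat.ble (stepList.getD k (0, 0)).2 k && (List.range 78).all fun i =>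
        Nat.beq (entC (rowAt (evalN [imgN (stepList.getD k (0, 0)).1, sMat]) i) (stepList.getD k (0, 0)).2)
          (entC (rowAt sN i) (k + 1))) = true := by decide +kernel

theorem st_ok : sameWord [sMat, tMat] [] = true := by decide +kernel

variable {K : Type*} [Field K] [CharP K 2] (ω : K)

theorem rowVec_entC (r j : ℕ) : rowVec ω r j = cfv ω (entC r j) := by
  rw [rowVec, entC]
  cases r.testBit j <;> cases r.testBit (78 + j) <;> simp [bv, cfv]

theorem dec_congr {M N : ℕ} {i j k : Fin 78}
    (h : entC (rowAt M i.1) j.1 = entC (rowAt N i.1) k.1) : dec ω M i j = dec ω N i k := by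
  show rowVec ω _ _ = rowVec ω _ _
  rw [rowVec_entC, rowVec_entC, h]

/-- A matrix commuting with the eight images is a scalar. -/
theorem scalar_of_commute (hω : ω * ω = ω + 1) {M : Matrix (Fin 78) (Fin 78) K}
    (hM : ∀ k, 0 < k → k < 9 → Commute M (genMat ω (imgN k))) : ∃ c : K, M = c • 1 := by
  have hdat := dat_ok
  simp only [Bool.and_eq_true, Nat.blt_eq] at hdat
  obtain ⟨⟨⟨⟨hE, hL⟩, hS⟩, hT⟩, hf⟩ := hdat
  have hW := words_ok
  simp only [List.all_eq_true, Bool.and_eq_true, Nat.blt_eq] at hW
  have hword : ∀ l : List ℕ, (∀ k ∈ l, 0 < k ∧ k < 9) → (∀ g ∈ l.map imgN, okGen g = true) ∧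
      Commute M (dec ω (evalN (l.map imgN))) := by
    intro l hl
    have ho : ∀ g ∈ l.map imgN, okGen g = true := fun g hg => by
      obtain ⟨k, hk, rfl⟩ := List.mem_map.1 hg
      exact List.all_eq_true.1 imgs_ok k (List.mem_range.2 (hl k hk).2)
    refine ⟨ho, ?_⟩
    rw [dec_evalN ω hω _ ho]
    refine Commute.list_prod_right _ _ fun g hg => ?_
    obtain ⟨g', hg', rfl⟩ := List.mem_map.1 hg
    obtain ⟨k, hk, rfl⟩ := List.mem_map.1 hg'
    exact hM k (hl k hk).1 (hl k hk).2
  set S := dec ω sN with hSdef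
  have hSg : S = genMat ω sMat := by
    rw [hSdef, sN, dec_evalN ω hω _ (by simp [hS])]; simp
  have hgE : dec ω (evalN [eMat]) = genMat ω eMat := by
    rw [dec_evalN ω hω _ (by simp [hE])]; simp
  -- the singular element commutes with M
  have hcE : Commute M (genMat ω eMat) := by
    have e : genMat ω eMat = dec ω (evalN (cw1.map imgN)) + ω • dec ω (evalN (cw2.map imgN)) + ω • 1 := by
      rw [← hgE, ← dec_one ω]
      ext i j
      have h := List.all_eq_true.1 e_ok i.1 (List.mem_range.2 i.2)
      rw [Nat.beq_eq] at h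
      simp only [Matrix.add_apply, Matrix.smul_apply, smul_eq_mul, dec, Matrix.of_apply]
      rw [h, rowVec_xor, rowVec_xor, rowVec_scl ω hω _ _ j.2, rowVec_scl ω hω _ _ j.2]
      rfl
    rw [e]
    exact ((hword _ fun k hk => hW k (List.mem_append_left _ hk)).2.add_right
      ((hword _ fun k hk => hW k (List.mem_append_right _ hk)).2.smul_right ω)).add_right
      ((Commute.one_right M).smul_right ω)
  -- the kernel of the singular element
  set f : Fin 78 := ⟨fCol, hf⟩
  have hLE : ∀ i j, (genMat ω lMat * genMat ω eMat) i j = (1 : Matrix (Fin 78) (Fin 78) K) i j +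
      S i 0 * (1 : Matrix (Fin 78) (Fin 78) K) f j := by
    intro i j
    have e : genMat ω lMat * genMat ω eMat = dec ω (evalN [lMat, eMat]) := by
      rw [dec_evalN ω hω _ (by simp [hL, hE])]; simp
    have h := List.all_eq_true.1 le_ok i.1 (List.mem_range.2 i.2)
    rw [Nat.beq_eq] at h
    rw [e, hSdef, ← dec_one ω]
    show rowVec ω _ _ = rowVec ω _ _ + rowVec ω (rowAt sN i.1) 0 * rowVec ω _ _
    rw [h, rowVec_xor, rowVec_scl ω hω _ _ j.2, rowVec_entC ω (rowAt sN i.1) 0]
  have hES : ∀ i, (genMat ω eMat * S) i 0 = 0 := by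
    intro i
    have e : genMat ω eMat * S = dec ω (evalN [eMat, sMat]) := by
      rw [hSg, dec_evalN ω hω _ (by simp [hS, hE])]; simp
    have h := List.all_eq_true.1 ev_ok i.1 (List.mem_range.2 i.2)
    rw [Nat.beq_eq] at h
    rw [e]
    show rowVec ω _ _ = 0
    rw [rowVec_entC, show ((0 : Fin 78) : ℕ) = 0 from rfl, h]
    rfl
  set c := (M * S) f 0 with hc
  have key : ∀ k, ∀ hk : k < 78, ∀ i, (M * S) i ⟨k, hk⟩ = c * S i ⟨k, hk⟩ := by
    intro k
    induction k using Nat.strong_induction_on with
    | _ k ih =>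
      intro hk i
      rcases k with _ | k
      · have h0 : (genMat ω eMat * (M * S)) = M * (genMat ω eMat * S) := by
          rw [← mul_assoc, ← hcE.eq, mul_assoc]
        have h1 : (genMat ω lMat * genMat ω eMat * (M * S)) i 0 = 0 := by
          rw [mul_assoc, h0, Matrix.mul_apply]
          refine Finset.sum_eq_zero fun x _ => ?_
          rw [Matrix.mul_apply (M := M), Finset.sum_eq_zero (fun y _ => by rw [hES y, mul_zero]), mul_zero]
        rw [Matrix.mul_apply] at h1
        simp only [hLE, add_mul, Finset.sum_add_distrib, mul_assoc, ← Finset.mul_sum] at h1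
        rw [← Matrix.mul_apply, ← Matrix.mul_apply, one_mul, ← hc] at h1
        show (M * S) i 0 = c * S i 0
        linear_combination h1 - S i 0 * c * (CharTwo.two_eq_zero (R := K))
      · have h := List.all_eq_true.1 steps_ok k (List.mem_range.2 (by omega))
        simp only [Bool.and_eq_true, Nat.blt_eq, Nat.ble_eq, List.all_eq_true, List.mem_range, Nat.beq_eq] at h
        obtain ⟨⟨⟨h0, h9⟩, hle⟩, hcol⟩ := h
        set g := (stepList.getD k (0, 0)).1
        set p := (stepList.getD k (0, 0)).2
        have hp : p < 78 := by omega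
        have e : genMat ω (imgN g) * S = dec ω (evalN [imgN g, sMat]) := by
          rw [hSg, dec_evalN ω hω _ (by
            simp [hS, List.all_eq_true.1 imgs_ok g (List.mem_range.2 h9)])]
          simp
        have hcolS : ∀ x : Fin 78, S x ⟨k + 1, hk⟩ = (genMat ω (imgN g) * S) x ⟨p, hp⟩ := fun x => by
          rw [e]
          exact (dec_congr ω (hcol x.1 x.2)).symm
        calc (M * S) i ⟨k + 1, hk⟩ = (M * (genMat ω (imgN g) * S)) i ⟨p, hp⟩ := by
              simp only [Matrix.mul_apply (M := M), hcolS]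
          _ = (genMat ω (imgN g) * (M * S)) i ⟨p, hp⟩ := by rw [← mul_assoc, (hM g h0 h9).eq, mul_assoc]
          _ = c * (genMat ω (imgN g) * S) i ⟨p, hp⟩ := by
              simp only [Matrix.mul_apply (M := genMat ω (imgN g)), Finset.mul_sum]
              exact Finset.sum_congr rfl fun x _ => by rw [ih p (by omega) hp x]; ring
          _ = c * S i ⟨k + 1, hk⟩ := by rw [hcolS]
  refine ⟨c, ?_⟩
  have hST : S * genMat ω tMat = 1 := by
    have := prod_eq_prod ω hω st_ok
    simpa [hSg] using this
  have hMS : M * S = c • S := Matrix.ext fun i j => key j.1 j.2 i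
  calc M = M * S * genMat ω tMat := by rw [mul_assoc, hST, mul_one]
    _ = c • 1 := by rw [hMS, smul_mul_assoc, hST]

/-- An element commuting with the images of b, …, i is central. -/
theorem central_of_commute (hω : ω * ω = ω + 1) {z : GL Cfsg.Lie.chevE6.Idx K}
    (h : ∀ y : Cfsg.Spor.Fi22.Gen, y ≠ .a → Commute z (im ω y)) (x : GL Cfsg.Lie.chevE6.Idx K) :
    Commute z x := by
  obtain ⟨c, hc⟩ := scalar_of_commute ω hω (M := mat78 z) fun k h0 h9 => by
    have hk : ∃ y : Cfsg.Spor.Fi22.Gen, y ≠ .a ∧ num y = k := by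
      interval_cases k
      exacts [⟨.b, by decide, rfl⟩, ⟨.c, by decide, rfl⟩, ⟨.d, by decide, rfl⟩, ⟨.e, by decide, rfl⟩,
        ⟨.f, by decide, rfl⟩, ⟨.g, by decide, rfl⟩, ⟨.h, by decide, rfl⟩, ⟨.i, by decide, rfl⟩]
    obtain ⟨y, hy, rfl⟩ := hk
    show _ * _ = _ * _
    rw [← mat78_im ω hω y, ← mat78_mul, ← mat78_mul, (h y hy).eq]
  apply mat78_injective
  rw [mat78_mul, mat78_mul, hc, smul_mul_assoc, one_mul, mul_smul_comm, mul_one]

end Cfsg.Agent.Lib.E6Fi22
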