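import Mathlib

/-! Matrices of nine transpositions of Fi22 in the twisted group and a certificate on the commutant of eight of them. -/

set_option autoImplicit false
set_option maxRecDepth 100000

namespace Cfsg.Agent.Lib.E6Fi22

/-- An image of a generator. -/
def img0 : List (List (ℕ × ℕ)) := [
  [(0, 1), (6, 1)],
  [(1, 1)],
  [(2, 1)],
  [(3, 1), (6, 1)],
  [(4, 1)],
  [(5, 1), (6, 1)],
  [(6, 1)],
  [(7, 1)],
  [(8, 1)],
  [(9, 1)],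
  [(10, 1)],
  [(11, 1)],
  [(12, 1)],
  [(13, 1)],
  [(14, 1)],
  [(15, 1)],
  [(16, 1)],
  [(17, 1)],
  [(18, 1)],
  [(19, 1)],
  [(20, 1)],
  [(21, 1)],
  [(22, 1)],
  [(23, 1)],
  [(24, 1)],
  [(25, 1)],
  [(26, 1)],
  [(27, 1)],
  [(28, 1)],
  [(29, 1)],
  [(30, 1)],
  [(31, 1)],
  [(32, 1)],
  [(33, 1)],
  [(34, 1)],
  [(35, 1)],
  [(36, 1)],
  [(37, 1)],
  [(38, 1)],
  [(39, 1)],
  [(40, 1)],
  [(41, 1)],
  [(42, 1)],
  [(43, 1)],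
  [(44, 1)],
  [(45, 1)],
  [(46, 1)],
  [(47, 1)],
  [(48, 1)],
  [(49, 1)],
  [(50, 1)],
  [(51, 1)],
  [(7, 1), (52, 1)],
  [(8, 1), (53, 1)],
  [(9, 1), (54, 1)],
  [(10, 1), (55, 1)],
  [(11, 1), (56, 1)],
  [(12, 1), (57, 1)],
  [(13, 1), (58, 1)],
  [(14, 1), (59, 1)],
  [(15, 1), (60, 1)],
  [(16, 1), (61, 1)],
  [(62, 1)],
  [(63, 1)],
  [(64, 1)],
  [(65, 1)],
  [(66, 1)],
  [(22, 1), (67, 1)],
  [(23, 1), (68, 1)],
  [(24, 1), (69, 1)],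
  [(25, 1), (70, 1)],
  [(26, 1), (71, 1)],
  [(27, 1), (72, 1)],
  [(28, 1), (73, 1)],
  [(29, 1), (74, 1)],
  [(30, 1), (75, 1)],
  [(31, 1), (76, 1)],
  [(1, 1), (6, 1), (77, 1)]]

/-- An image of a generator. -/
def img1 : List (List (ℕ × ℕ)) := [
  [(0, 1), (77, 1)],
  [(1, 1)],
  [(2, 1)],
  [(3, 1), (77, 1)],
  [(4, 1)],
  [(5, 1), (77, 1)],
  [(1, 1), (6, 1), (77, 1)],
  [(7, 1), (52, 1)],
  [(8, 1), (53, 1)],
  [(9, 1), (54, 1)],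
  [(10, 1), (55, 1)],
  [(11, 1), (56, 1)],
  [(12, 1), (57, 1)],
  [(13, 1), (58, 1)],
  [(14, 1), (59, 1)],
  [(15, 1), (60, 1)],
  [(16, 1), (61, 1)],
  [(17, 1)],
  [(18, 1)],
  [(19, 1)],
  [(20, 1)],
  [(21, 1)],
  [(22, 1), (67, 1)],
  [(23, 1), (68, 1)],
  [(24, 1), (69, 1)],
  [(25, 1), (70, 1)],
  [(26, 1), (71, 1)],
  [(27, 1), (72, 1)],
  [(28, 1), (73, 1)],
  [(29, 1), (74, 1)],
  [(30, 1), (75, 1)],
  [(31, 1), (76, 1)],
  [(32, 1)],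
  [(33, 1)],
  [(34, 1)],
  [(35, 1)],
  [(36, 1)],
  [(37, 1)],
  [(38, 1)],
  [(39, 1)],
  [(40, 1)],
  [(41, 1)],
  [(42, 1)],
  [(43, 1)],
  [(44, 1)],
  [(45, 1)],
  [(46, 1)],
  [(47, 1)],
  [(48, 1)],
  [(49, 1)],
  [(50, 1)],
  [(51, 1)],
  [(52, 1)],
  [(53, 1)],
  [(54, 1)],
  [(55, 1)],
  [(56, 1)],
  [(57, 1)],
  [(58, 1)],
  [(59, 1)],
  [(60, 1)],
  [(61, 1)],
  [(62, 1)],
  [(63, 1)],
  [(64, 1)],
  [(65, 1)],
  [(66, 1)],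
  [(67, 1)],
  [(68, 1)],
  [(69, 1)],
  [(70, 1)],
  [(71, 1)],
  [(72, 1)],
  [(73, 1)],
  [(74, 1)],
  [(75, 1)],
  [(76, 1)],
  [(77, 1)]]

/-- An image of a generator. -/
def img2 : List (List (ℕ × ℕ)) := [
  [(0, 3), (2, 1), (3, 1), (4, 1), (5, 3), (22, 1), (23, 3), (24, 1), (25, 1), (26, 1), (27, 1), (28, 3), (29, 1), (30, 1), (31, 1), (32, 3), (33, 1), (34, 3), (35, 1), (36, 1), (37, 2), (38, 1), (39, 3), (40, 1), (41, 1), (42, 2), (43, 1), (44, 1), (45, 1), (46, 2), (47, 2), (48, 1), (49, 3), (50, 1), (51, 1)],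
  [(1, 1), (7, 1), (8, 1), (9, 1), (10, 1), (11, 1), (12, 1), (13, 2), (14, 1), (15, 1), (16, 2), (22, 1), (23, 3), (24, 1), (25, 1), (26, 1), (27, 1), (28, 3), (29, 1), (30, 1), (31, 1)],
  [(0, 3), (2, 3), (3, 2), (4, 2), (5, 1), (6, 2), (7, 2), (8, 2), (9, 2), (10, 2), (11, 3), (12, 3), (13, 1), (14, 3), (15, 3), (16, 1), (17, 3), (18, 1), (19, 3), (20, 1), (21, 2), (22, 3), (23, 2), (24, 3), (25, 3), (26, 3), (27, 3), (28, 1), (29, 2), (30, 2), (31, 2), (32, 2), (33, 3), (34, 2), (35, 3), (36, 2), (37, 3), (38, 2), (39, 1), (40, 2), (41, 2), (42, 3), (43, 2), (44, 2), (45, 2), (46, 3), (47, 3), (48, 3), (49, 2), (50, 3), (51, 3), (62, 1), (63, 3), (64, 2), (65, 3), (66, 3)],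
  [(3, 1), (6, 1), (7, 1), (14, 1), (15, 1), (16, 2), (17, 1), (18, 2), (19, 1), (25, 1), (26, 1), (27, 1), (28, 3), (29, 1), (30, 1), (32, 3), (33, 1), (34, 3), (36, 1), (37, 2), (38, 1), (45, 1), (46, 2), (47, 2), (49, 3), (50, 1), (51, 1), (64, 3), (65, 1), (66, 1)],
  [(0, 1), (2, 3), (3, 3), (4, 2), (5, 2), (6, 3), (7, 3), (8, 3), (9, 2), (10, 2), (11, 3), (12, 2), (13, 3), (14, 2), (15, 2), (16, 1), (17, 2), (18, 3), (19, 3), (20, 1), (21, 3), (22, 3), (23, 1), (24, 2), (25, 2), (26, 2), (27, 3), (28, 1), (29, 2), (30, 3), (31, 3), (32, 1), (33, 2), (34, 2), (35, 3), (36, 2), (37, 3), (38, 3), (39, 1), (40, 2), (41, 3), (42, 1), (43, 2), (44, 2), (45, 3), (46, 3), (47, 3), (48, 3), (49, 2), (50, 2), (51, 2), (62, 2), (63, 3), (64, 2), (65, 2), (66, 2)],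
  [(0, 2), (2, 1), (3, 1), (4, 1), (5, 2), (10, 1), (13, 2), (15, 1), (16, 2), (18, 2), (19, 1), (20, 2), (21, 1), (24, 1), (26, 1), (27, 1), (29, 1), (30, 1), (31, 1), (33, 1), (34, 3), (35, 1), (37, 2), (38, 1), (40, 1), (43, 1), (45, 1), (46, 2), (48, 1), (49, 3), (50, 1), (62, 3), (63, 1), (64, 3), (65, 1)],
  [(6, 1)],
  [(6, 1), (7, 1), (8, 1), (9, 2), (10, 2), (11, 3), (12, 1), (13, 1), (22, 3), (23, 1), (24, 1)],
  [(6, 1), (7, 1), (9, 1), (10, 1), (11, 1), (14, 1), (15, 1), (22, 1), (25, 1), (26, 1)],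
  [(6, 1), (7, 2), (8, 1), (9, 1), (10, 2), (12, 1), (14, 3), (16, 1), (23, 1), (25, 3), (27, 1)],
  [(6, 3), (7, 1), (8, 3), (9, 1), (10, 2), (13, 1), (15, 3), (16, 1), (24, 1), (26, 3), (27, 1)],
  [(6, 1), (7, 3), (8, 1), (11, 1), (12, 1), (13, 1), (14, 2), (15, 2), (22, 3), (28, 1), (29, 1)],
  [(6, 1), (7, 1), (9, 1), (11, 1), (13, 2), (14, 1), (16, 2), (23, 3), (28, 3), (30, 1)],
  [(6, 1), (7, 3), (10, 1), (11, 3), (12, 1), (13, 3), (15, 1), (16, 2), (24, 3), (29, 3), (30, 1)],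
  [(6, 1), (8, 1), (9, 3), (11, 2), (12, 1), (14, 1), (15, 2), (16, 1), (25, 3), (28, 1), (31, 1)],
  [(6, 3), (8, 3), (10, 3), (11, 1), (13, 1), (14, 1), (15, 2), (16, 1), (26, 3), (29, 1), (31, 1)],
  [(6, 1), (9, 3), (10, 1), (12, 1), (13, 2), (14, 3), (15, 1), (16, 3), (27, 3), (30, 1), (31, 3)],
  [(0, 3), (1, 1), (2, 1), (3, 1), (4, 1), (5, 2), (6, 1), (10, 1), (13, 2), (15, 1), (16, 2), (22, 1), (23, 3), (24, 1), (25, 1), (26, 1), (27, 1), (28, 3), (29, 1), (30, 1), (31, 1), (33, 1), (34, 3), (35, 1), (37, 2), (38, 1), (40, 1), (42, 2), (43, 1), (44, 1), (45, 1), (46, 2), (47, 2), (48, 1), (49, 3), (50, 1), (51, 1), (62, 3), (63, 1), (64, 3), (65, 1), (66, 1)],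
  [(0, 3), (1, 1), (2, 1), (3, 1), (5, 2), (6, 1), (7, 2), (9, 1), (11, 2), (12, 1), (13, 3), (14, 1), (16, 2), (22, 1), (23, 3), (24, 1), (25, 1), (26, 1), (27, 1), (28, 3), (29, 1), (30, 1), (31, 1), (32, 3), (33, 2), (34, 3), (35, 1), (36, 1), (37, 3), (38, 1), (39, 3), (40, 2), (41, 1), (42, 3), (43, 1), (44, 1), (45, 1), (46, 2), (47, 2), (48, 1), (49, 3), (50, 1), (51, 1), (62, 3), (63, 1), (64, 3), (65, 1), (66, 1)],
  [(0, 2), (1, 3), (2, 3), (5, 2), (6, 3), (7, 2), (8, 3), (9, 2), (10, 2), (11, 3), (14, 3), (15, 3), (22, 3), (23, 2), (24, 3), (25, 3), (26, 3), (27, 3), (28, 2), (29, 3), (30, 3), (31, 3), (32, 2), (33, 3), (34, 1), (35, 3), (36, 3), (37, 1), (38, 2), (39, 2), (40, 3), (41, 3), (42, 1), (43, 2), (44, 2), (45, 3), (46, 1), (47, 1), (48, 3), (49, 2), (50, 3), (51, 3), (62, 2), (63, 3), (64, 2), (65, 3), (66, 3)],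
  [(0, 3), (4, 1), (5, 3), (6, 1), (7, 1), (9, 2), (11, 1), (12, 1), (13, 2), (14, 2), (16, 3), (22, 1), (23, 3), (24, 1), (25, 1), (26, 1), (27, 1), (28, 3), (29, 1), (30, 1), (31, 1), (32, 3), (33, 1), (34, 3), (35, 2), (36, 1), (37, 2), (38, 1), (39, 3), (40, 1), (41, 1), (42, 2), (43, 1), (44, 1), (45, 2), (46, 3), (47, 3), (48, 1), (49, 3), (50, 1), (51, 1), (62, 3), (63, 1), (64, 3), (65, 1), (66, 1)],
  [(0, 1), (3, 3), (4, 3), (5, 2), (6, 3), (7, 3), (8, 3), (9, 3), (10, 3), (11, 2), (14, 2), (15, 2), (22, 3), (23, 2), (24, 3), (25, 3), (26, 3), (27, 3), (28, 2), (29, 3), (30, 3), (31, 3), (32, 2), (33, 3), (34, 2), (35, 3), (36, 3), (37, 1), (38, 3), (39, 2), (40, 3), (41, 3), (42, 1), (43, 3), (44, 3), (45, 3), (46, 1), (47, 1), (48, 2), (49, 1), (50, 2), (51, 2), (62, 2), (63, 3), (64, 2), (65, 3), (66, 3)],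
  [(6, 2), (7, 1), (8, 2), (11, 1), (22, 3), (23, 1), (24, 1), (25, 2), (26, 2), (28, 1), (29, 1)],
  [(6, 1), (7, 2), (9, 2), (12, 1), (22, 1), (23, 2), (24, 2), (25, 1), (27, 2), (28, 3), (30, 1)],
  [(6, 1), (7, 1), (10, 2), (13, 1), (22, 3), (23, 1), (24, 1), (26, 1), (27, 2), (29, 3), (30, 1)],
  [(6, 2), (8, 2), (9, 1), (14, 1), (22, 2), (23, 1), (25, 3), (26, 2), (27, 1), (28, 1), (31, 1)],
  [(6, 1), (8, 1), (10, 1), (15, 1), (22, 1), (24, 1), (25, 1), (27, 1), (29, 1), (31, 1)],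
  [(6, 1), (9, 1), (10, 2), (16, 1), (23, 1), (24, 2), (25, 3), (26, 1), (27, 1), (30, 1), (31, 3)],
  [(6, 1), (11, 2), (12, 1), (14, 2), (22, 1), (23, 3), (25, 1), (28, 2), (29, 2), (30, 1), (31, 2)],
  [(6, 1), (11, 1), (13, 1), (15, 2), (22, 3), (24, 3), (26, 1), (28, 1), (29, 1), (30, 1), (31, 2)],
  [(6, 1), (12, 1), (13, 2), (16, 2), (23, 3), (24, 1), (27, 1), (28, 3), (29, 1), (31, 1)],
  [(6, 1), (14, 1), (15, 2), (16, 1), (25, 3), (26, 1), (27, 3), (28, 1), (29, 2), (30, 1), (31, 1)],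
  [(0, 3), (1, 1), (3, 1), (4, 1), (5, 2), (6, 1), (7, 3), (9, 3), (10, 1), (11, 1), (12, 1), (13, 2), (14, 1), (15, 1), (16, 2), (18, 2), (19, 1), (20, 2), (21, 1), (23, 2), (24, 1), (26, 1), (27, 1), (28, 3), (29, 1), (30, 1), (31, 1), (33, 3), (34, 2), (35, 3), (37, 2), (38, 1), (40, 1), (42, 2), (43, 1), (44, 1), (45, 1), (46, 2), (47, 2), (48, 1), (49, 3), (50, 1), (51, 1), (62, 2), (63, 1), (64, 3), (65, 1), (66, 1)],
  [(0, 3), (1, 1), (3, 1), (5, 2), (6, 1), (9, 1), (10, 3), (11, 1), (12, 1), (13, 2), (14, 1), (15, 1), (16, 2), (17, 1), (18, 3), (19, 1), (20, 2), (21, 1), (22, 2), (23, 3), (25, 1), (27, 1), (28, 3), (29, 1), (30, 1), (31, 1), (32, 2), (33, 1), (34, 2), (35, 3), (36, 1), (37, 3), (38, 1), (39, 3), (40, 2), (41, 1), (42, 3), (43, 1), (44, 1), (45, 1), (46, 2), (47, 2), (48, 1), (49, 3), (50, 1), (51, 1), (62, 2), (63, 1), (64, 3), (65, 1), (66,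 1)],
  [(0, 2), (1, 3), (5, 2), (6, 3), (7, 2), (8, 3), (9, 2), (10, 2), (11, 3), (12, 3), (13, 1), (14, 3), (15, 3), (16, 1), (17, 3), (18, 1), (19, 2), (20, 1), (21, 3), (22, 3), (23, 1), (24, 2), (25, 3), (26, 3), (27, 2), (28, 2), (29, 3), (30, 3), (31, 3), (32, 1), (33, 2), (34, 3), (35, 2), (36, 3), (37, 1), (38, 2), (39, 2), (40, 3), (41, 3), (42, 1), (43, 2), (44, 2), (45, 3), (46, 1), (47, 1), (48, 3), (49, 2), (50, 3), (51, 3), (62, 1), (63, 3), (64, 2), (65, 3), (66, 3)],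
  [(0, 3), (2, 1), (4, 1), (5, 3), (6, 1), (7, 1), (10, 3), (11, 1), (12, 1), (13, 2), (14, 1), (15, 1), (16, 2), (17, 1), (18, 2), (19, 1), (20, 3), (21, 1), (22, 1), (23, 3), (24, 1), (25, 2), (28, 3), (29, 1), (30, 1), (31, 1), (32, 2), (33, 3), (34, 2), (35, 1), (36, 1), (37, 2), (38, 1), (39, 3), (40, 1), (41, 1), (42, 2), (43, 1), (44, 1), (45, 2), (46, 3), (47, 3), (48, 1), (49, 3), (50, 1), (51, 1), (62, 2), (63, 1), (64, 3), (65, 1), (66, 1)],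
  [(0, 3), (1, 2), (4, 2), (5, 3), (6, 2), (7, 3), (8, 2), (9, 2), (10, 2), (11, 3), (13, 3), (14, 2), (15, 2), (16, 3), (18, 3), (19, 2), (20, 3), (21, 2), (22, 3), (24, 2), (25, 2), (26, 2), (27, 2), (29, 2), (30, 2), (31, 2), (33, 2), (34, 1), (35, 2), (37, 1), (38, 3), (40, 2), (42, 3), (43, 2), (44, 2), (45, 2), (46, 3), (47, 3), (48, 3), (49, 1), (50, 2), (51, 2), (62, 1), (63, 3), (64, 1), (65, 2), (66, 2)],
  [(0, 3), (1, 2), (5, 3), (6, 2), (7, 3), (8, 2), (9, 2), (10, 2), (11, 3), (12, 2), (13, 1), (14, 2), (15, 2), (16, 3), (17, 2), (18, 1), (19, 2), (20, 3), (21, 2), (22, 3), (23, 1), (24, 3), (25, 2), (26, 2), (27, 2), (28, 1), (29, 3), (30, 2), (31, 2), (32, 1), (33, 3), (34, 1), (35, 2), (36, 3), (37, 2), (38, 3), (39, 1), (40, 3), (41, 2), (42, 1), (43, 2), (44, 2), (45, 2), (46, 3), (47, 3), (48, 3), (49, 1), (50, 2), (51, 2), (62, 1), (63, 3), (64, 1),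 (65, 2), (66, 2)],
  [(0, 2), (1, 1), (3, 1), (5, 3), (6, 1), (8, 1), (9, 1), (10, 1), (11, 1), (13, 3), (14, 1), (15, 1), (16, 2), (17, 1), (18, 2), (19, 3), (20, 2), (21, 1), (22, 1), (23, 2), (25, 1), (26, 1), (27, 1), (28, 3), (29, 1), (31, 1), (32, 3), (33, 1), (34, 2), (35, 1), (36, 2), (37, 3), (38, 1), (39, 3), (40, 1), (41, 1), (42, 2), (43, 3), (44, 3), (45, 1), (46, 2), (47, 2), (48, 2), (49, 3), (50, 1), (51, 1), (62, 3), (63, 2), (64, 3), (65, 1), (66, 1)],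
  [(0, 2), (2, 1), (5, 2), (6, 1), (7, 1), (9, 1), (10, 1), (11, 3), (12, 1), (13, 2), (14, 3), (15, 1), (16, 2), (18, 2), (19, 1), (20, 2), (21, 1), (23, 3), (24, 1), (26, 1), (27, 1), (28, 2), (29, 1), (30, 1), (31, 1), (33, 1), (34, 3), (35, 1), (37, 2), (38, 1), (40, 3), (42, 2), (43, 1), (44, 1), (45, 3), (46, 2), (47, 2), (48, 1), (49, 2), (50, 1), (51, 1), (62, 3), (63, 1), (64, 2), (65, 1), (66, 1)],
  [(0, 2), (2, 1), (4, 1), (5, 2), (6, 1), (7, 1), (9, 1), (10, 1), (12, 1), (13, 2), (14, 1), (15, 3), (16, 2), (17, 1), (18, 3), (19, 1), (20, 2), (21, 1), (22, 2), (23, 3), (24, 1), (25, 1), (27, 1), (28, 3), (30, 1), (31, 1), (32, 3), (33, 2), (34, 3), (35, 1), (36, 1), (37, 3), (38, 1), (39, 2), (40, 1), (41, 1), (42, 3), (43, 1), (44, 1), (45, 3), (46, 2), (47, 2), (48, 1), (49, 2), (50, 1), (51, 1), (62, 3), (63, 1), (64, 2), (65, 1), (66, 1)],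
  [(0, 3), (2, 2), (3, 2), (5, 1), (6, 2), (7, 2), (8, 2), (9, 3), (10, 2), (11, 2), (13, 3), (14, 3), (15, 2), (16, 3), (18, 3), (19, 2), (20, 3), (21, 2), (22, 2), (24, 2), (25, 3), (26, 2), (27, 2), (29, 2), (30, 2), (31, 2), (33, 2), (34, 1), (35, 2), (37, 3), (38, 2), (40, 2), (42, 3), (43, 3), (44, 2), (45, 2), (46, 1), (47, 3), (48, 2), (49, 1), (50, 3), (51, 2), (62, 1), (63, 2), (64, 1), (65, 3), (66, 2)],
  [(0, 2), (2, 1), (3, 1), (5, 3), (6, 1), (7, 1), (8, 1), (9, 1), (11, 1), (12, 1), (13, 3), (14, 1), (16, 2), (17, 1), (18, 3), (19, 1), (20, 2), (21, 1), (22, 1), (23, 3), (24, 2), (25, 1), (27, 1), (28, 3), (29, 2), (30, 1), (31, 1), (32, 3), (33, 2), (34, 3), (35, 1), (36, 1), (37, 3), (38, 1), (39, 3), (40, 2), (41, 1), (43, 1), (45, 1), (46, 2), (48, 1), (49, 3), (50, 1), (62, 3), (63, 1), (64, 3), (65, 1)],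
  [(0, 2), (2, 1), (4, 1), (5, 2), (6, 1), (7, 1), (8, 1), (10, 1), (11, 1), (13, 2), (14, 1), (15, 1), (16, 3), (17, 1), (18, 2), (19, 3), (20, 2), (21, 1), (22, 1), (23, 2), (24, 1), (25, 1), (26, 1), (28, 3), (29, 1), (31, 1), (32, 3), (33, 1), (34, 2), (35, 1), (36, 1), (37, 2), (38, 3), (39, 3), (40, 1), (41, 2), (42, 2), (43, 1), (44, 3), (45, 1), (46, 3), (47, 2), (48, 1), (49, 3), (50, 2), (51, 1), (62, 3), (63, 1), (64, 3), (65, 2), (66, 1)],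
  [(0, 1), (2, 3), (5, 1), (6, 3), (7, 3), (8, 3), (9, 3), (10, 2), (11, 3), (12, 3), (14, 3), (15, 3), (17, 3), (18, 1), (19, 2), (20, 1), (21, 3), (22, 3), (23, 2), (24, 2), (25, 3), (26, 3), (27, 2), (28, 2), (29, 3), (31, 3), (32, 2), (33, 3), (34, 1), (35, 3), (36, 3), (37, 1), (38, 2), (39, 2), (40, 3), (41, 3), (43, 2), (45, 3), (46, 1), (48, 3), (49, 2), (50, 3), (62, 2), (63, 3), (64, 2), (65, 3)],
  [(0, 2), (1, 1), (3, 1), (5, 3), (6, 1), (7, 1), (9, 1), (10, 1), (11, 1), (12, 1), (13, 2), (15, 3), (16, 2), (17, 1), (18, 2), (19, 1), (20, 3), (21, 1), (22, 1), (23, 3), (24, 1), (25, 2), (27, 1), (28, 3), (29, 1), (30, 1), (32, 3), (33, 1), (34, 3), (35, 2), (36, 1), (37, 2), (38, 1), (39, 2), (40, 3), (41, 1), (42, 2), (43, 1), (44, 1), (45, 1), (46, 3), (47, 3), (48, 1), (49, 2), (50, 1), (51, 1), (62, 3), (63, 1), (64, 2), (65, 1), (66, 1)],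
  [(0, 3), (1, 2), (5, 3), (6, 2), (7, 2), (8, 2), (9, 3), (10, 2), (11, 2), (12, 2), (13, 3), (14, 3), (15, 2), (16, 1), (17, 2), (18, 3), (19, 2), (20, 1), (21, 2), (22, 2), (23, 1), (24, 2), (25, 3), (26, 2), (27, 3), (28, 1), (29, 2), (30, 2), (31, 3), (32, 1), (33, 2), (34, 1), (35, 3), (36, 2), (37, 3), (38, 2), (39, 1), (40, 2), (41, 3), (42, 3), (43, 3), (44, 2), (45, 3), (46, 2), (47, 1), (48, 2), (49, 1), (50, 3), (51, 2), (62, 1), (63, 2), (64, 1), (65, 3), (66, 2)],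
  [(0, 2), (1, 1), (4, 1), (5, 2), (6, 1), (7, 1), (8, 1), (9, 1), (11, 1), (12, 1), (13, 2), (14, 1), (16, 3), (17, 1), (18, 2), (19, 1), (20, 3), (21, 1), (22, 1), (23, 3), (24, 1), (25, 1), (27, 2), (28, 3), (29, 1), (30, 1), (31, 2), (32, 3), (33, 1), (34, 3), (35, 2), (36, 1), (37, 2), (38, 1), (39, 3), (40, 1), (41, 1), (43, 1), (45, 2), (46, 3), (48, 1), (49, 3), (50, 1), (62, 3), (63, 1), (64, 3), (65, 1)],
  [(0, 3), (2, 1), (4, 1), (5, 3), (6, 1), (7, 1), (8, 1), (9, 1), (10, 1), (13, 3), (14, 1), (15, 1), (16, 2), (17, 1), (18, 2), (19, 1), (20, 2), (21, 3), (22, 1), (23, 3), (24, 1), (25, 1), (26, 1), (27, 1), (28, 2), (31, 1), (32, 3), (33, 1), (34, 3), (35, 1), (36, 2), (37, 3), (38, 2), (39, 3), (40, 1), (41, 1), (42, 2), (43, 1), (44, 1), (45, 1), (46, 2), (47, 2), (48, 1), (49, 2), (50, 3), (51, 3), (62, 3), (63, 2), (64, 3), (65, 1), (66, 1)],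
  [(0, 2), (1, 3), (5, 2), (6, 3), (7, 3), (8, 3), (9, 3), (10, 3), (11, 2), (12, 3), (13, 1), (14, 2), (15, 2), (16, 1), (17, 3), (18, 1), (19, 3), (20, 1), (21, 2), (22, 3), (23, 2), (24, 3), (25, 3), (26, 3), (27, 3), (28, 1), (29, 2), (30, 3), (31, 2), (32, 2), (33, 3), (34, 2), (35, 3), (36, 3), (37, 1), (38, 3), (39, 1), (40, 2), (41, 3), (42, 1), (43, 3), (44, 3), (45, 2), (46, 1), (47, 1), (48, 2), (49, 3), (50, 2), (51, 2), (62, 2), (63, 3), (64, 1), (65, 3), (66, 3)],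
  [(0, 3), (1, 1), (3, 1), (5, 2), (6, 1), (7, 1), (8, 1), (9, 1), (10, 1), (11, 1), (13, 2), (15, 1), (16, 3), (17, 1), (18, 2), (19, 1), (20, 2), (21, 3), (22, 1), (23, 3), (24, 1), (25, 1), (26, 1), (27, 1), (28, 2), (29, 1), (32, 3), (33, 1), (34, 3), (35, 1), (36, 1), (37, 2), (38, 1), (39, 3), (40, 1), (41, 2), (42, 2), (43, 2), (44, 1), (45, 1), (46, 3), (47, 2), (48, 3), (49, 2), (50, 1), (51, 3), (62, 3), (63, 1), (64, 3), (65, 2), (66, 1)],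
  [(0, 2), (1, 3), (3, 3), (4, 3), (5, 1), (6, 3), (7, 3), (8, 3), (9, 3), (10, 3), (11, 3), (12, 3), (14, 3), (15, 2), (17, 3), (18, 1), (19, 3), (20, 1), (21, 2), (22, 3), (23, 2), (24, 3), (25, 3), (26, 3), (27, 3), (28, 2), (29, 2), (31, 2), (32, 2), (33, 3), (34, 2), (35, 3), (36, 3), (37, 1), (38, 3), (39, 2), (40, 3), (41, 3), (43, 3), (45, 3), (46, 1), (48, 2), (49, 1), (50, 2), (62, 2), (63, 3), (64, 2), (65, 3)],
  [(0, 2), (2, 1), (4, 1), (5, 3), (6, 1), (8, 1), (9, 1), (10, 1), (11, 1), (12, 1), (13, 2), (14, 1), (15, 1), (16, 2), (18, 3), (19, 3), (20, 2), (21, 1), (22, 1), (23, 3), (24, 1), (25, 1), (26, 1), (27, 1), (28, 3), (29, 1), (30, 1), (31, 1), (32, 2), (34, 2), (35, 1), (36, 2), (37, 3), (39, 3), (40, 1), (41, 1), (42, 2), (43, 1), (44, 1), (45, 1), (46, 2), (47, 2), (48, 1), (49, 3), (50, 1), (51, 1), (52, 1), (53, 1), (54, 2), (55, 2), (56, 3),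 (57, 1), (58, 1), (62, 3), (63, 1), (64, 3), (65, 1), (66, 1), (67, 3), (68, 1), (69, 1)],
  [(0, 2), (1, 1), (5, 3), (6, 1), (7, 1), (9, 1), (10, 1), (11, 1), (12, 1), (13, 2), (14, 1), (15, 1), (16, 2), (19, 1), (21, 1), (22, 1), (23, 3), (24, 1), (25, 1), (26, 1), (27, 1), (28, 3), (29, 1), (30, 1), (31, 1), (34, 3), (36, 1), (37, 2), (38, 1), (41, 1), (42, 2), (43, 1), (44, 1), (46, 2), (47, 2), (48, 1), (49, 3), (50, 1), (51, 1), (52, 1), (54, 1), (55, 1), (56, 1), (59, 1), (60, 1), (62, 3), (63, 1), (64, 3), (65, 1), (66, 1), (67, 1), (70, 1), (71, 1)],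
  [(0, 2), (1, 1), (3, 1), (5, 2), (6, 1), (7, 1), (8, 1), (10, 1), (11, 1), (12, 1), (13, 2), (14, 1), (15, 1), (16, 2), (18, 2), (19, 3), (20, 3), (21, 1), (22, 1), (23, 3), (24, 1), (25, 1), (26, 1), (27, 1), (28, 3), (29, 1), (30, 1), (31, 1), (32, 2), (33, 1), (34, 2), (36, 1), (37, 2), (38, 1), (39, 3), (40, 1), (41, 2), (42, 2), (44, 1), (45, 1), (46, 3), (47, 2), (48, 1), (49, 3), (50, 1), (51, 1), (52, 2), (53, 1), (54, 1), (55, 2), (57, 1), (59, 3), (61, 1), (62, 3), (63, 1), (64, 3), (65, 1), (66, 1), (68, 1), (70, 3), (72, 1)],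
  [(0, 1), (1, 3), (3, 3), (4, 3), (5, 1), (6, 3), (7, 3), (8, 3), (9, 3), (10, 2), (11, 3), (12, 3), (13, 1), (14, 3), (15, 3), (16, 1), (17, 3), (19, 2), (21, 3), (22, 3), (23, 2), (24, 3), (25, 3), (26, 3), (27, 3), (28, 2), (29, 3), (30, 3), (31, 3), (32, 2), (33, 2), (34, 1), (35, 2), (36, 3), (37, 1), (38, 3), (39, 2), (40, 3), (41, 3), (43, 3), (44, 2), (45, 3), (46, 1), (48, 3), (49, 2), (50, 3), (51, 3), (52, 1), (53, 3), (54, 1), (55, 2), (58, 1), (60, 3), (61, 1), (62, 2), (63, 3), (64, 2), (65, 3), (66, 3), (69, 1), (71, 3), (72, 1)],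
  [(0, 3), (1, 1), (3, 1), (5, 3), (6, 1), (7, 1), (8, 1), (9, 1), (10, 1), (12, 1), (13, 2), (14, 1), (15, 1), (16, 2), (18, 3), (19, 1), (20, 2), (21, 3), (22, 1), (23, 3), (24, 1), (25, 1), (26, 1), (27, 1), (28, 3), (29, 1), (30, 1), (31, 1), (32, 3), (33, 1), (34, 3), (35, 1), (36, 2), (37, 3), (38, 1), (39, 2), (41, 1), (42, 2), (43, 1), (44, 1), (45, 1), (46, 2), (47, 2), (49, 2), (50, 1), (51, 1), (52, 3), (53, 1), (56, 1), (57, 1), (58, 1), (59, 2), (60, 2), (62, 3), (63, 1), (64, 3), (65, 1), (66, 1), (67, 3), (73, 1), (74, 1)],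
  [(0, 3), (1, 1), (5, 2), (6, 1), (7, 1), (8, 1), (9, 1), (10, 1), (11, 1), (13, 2), (14, 1), (15, 1), (16, 2), (18, 2), (20, 2), (22, 1), (23, 3), (24, 1), (25, 1), (26, 1), (27, 1), (28, 3), (29, 1), (30, 1), (31, 1), (32, 3), (33, 1), (34, 3), (35, 1), (37, 2), (39, 3), (40, 1), (42, 2), (44, 1), (45, 1), (46, 2), (47, 2), (49, 3), (51, 1), (52, 1), (54, 1), (56, 1), (58, 2), (59, 1), (61, 2), (62, 3), (63, 1), (64, 3), (65, 1), (66, 1), (68, 3), (73, 3), (75, 1)],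
  [(0, 3), (1, 1), (4, 1), (5, 2), (6, 1), (7, 1), (8, 1), (9, 1), (10, 1), (11, 1), (12, 1), (13, 3), (14, 1), (15, 1), (16, 2), (17, 1), (18, 3), (20, 2), (22, 1), (23, 3), (24, 1), (25, 1), (26, 1), (27, 1), (28, 3), (29, 1), (30, 1), (31, 1), (32, 3), (33, 1), (34, 3), (35, 1), (36, 1), (37, 3), (38, 2), (39, 3), (40, 1), (41, 1), (42, 3), (43, 1), (45, 1), (46, 2), (47, 2), (48, 2), (49, 3), (50, 1), (52, 3), (55, 1), (56, 3), (57, 1), (58, 3), (60, 1), (61, 2), (62, 3), (63, 1), (64, 3), (65, 1), (66, 1), (69, 3), (74, 3), (75, 1)],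
  [(0, 3), (2, 1), (4, 1), (5, 2), (6, 1), (7, 1), (8, 1), (9, 1), (10, 1), (11, 1), (12, 1), (13, 2), (15, 1), (16, 2), (18, 2), (19, 1), (20, 3), (21, 3), (22, 1), (23, 3), (24, 1), (25, 1), (26, 1), (27, 1), (28, 3), (29, 1), (30, 1), (31, 1), (32, 3), (33, 1), (34, 3), (35, 1), (36, 1), (37, 2), (38, 1), (39, 2), (40, 1), (41, 2), (42, 2), (43, 1), (44, 1), (46, 3), (47, 2), (48, 1), (49, 2), (51, 1), (53, 1), (54, 3), (56, 2), (57, 1), (59, 1), (60, 2), (61, 1), (62, 3), (63, 1), (64, 3), (65, 1), (66, 1), (70, 3), (73, 1), (76, 1)],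
  [(0, 2), (2, 3), (5, 1), (6, 3), (7, 3), (8, 3), (9, 3), (10, 3), (11, 3), (12, 3), (13, 1), (14, 3), (15, 2), (16, 1), (17, 3), (19, 3), (21, 2), (22, 3), (23, 2), (24, 3), (25, 3), (26, 3), (27, 3), (28, 2), (29, 3), (30, 3), (31, 3), (32, 2), (33, 3), (34, 2), (35, 3), (36, 3), (37, 1), (38, 3), (39, 2), (40, 2), (41, 3), (43, 3), (44, 3), (45, 2), (46, 1), (48, 3), (49, 1), (50, 3), (51, 2), (53, 3), (55, 3), (56, 1), (58, 1), (59, 1), (60, 2), (61, 1), (62, 2), (63, 3), (64, 2), (65, 3), (66, 3), (71, 3), (74, 1), (76, 1)],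
  [(0, 3), (2, 1), (3, 1), (5, 3), (6, 1), (7, 1), (8, 1), (9, 1), (10, 1), (11, 1), (12, 1), (13, 2), (14, 1), (15, 1), (16, 3), (17, 1), (18, 2), (20, 3), (22, 1), (23, 3), (24, 1), (25, 1), (26, 1), (27, 1), (28, 3), (29, 1), (30, 1), (31, 1), (32, 3), (33, 1), (34, 3), (35, 1), (36, 1), (37, 2), (38, 1), (39, 3), (40, 1), (41, 1), (42, 2), (43, 2), (45, 1), (46, 3), (47, 3), (48, 1), (49, 3), (50, 2), (54, 3), (55, 1), (57, 1), (58, 2), (59, 3), (60, 1), (61, 3), (62, 3), (63, 1), (64, 3), (65, 1), (66, 1), (72, 3), (75, 1), (76, 3)],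
  [(0, 2), (3, 1), (4, 1), (5, 3), (6, 1), (7, 1), (8, 1), (9, 1), (10, 1), (11, 1), (12, 1), (13, 2), (14, 1), (15, 1), (16, 2), (17, 1), (18, 2), (19, 1), (20, 2), (21, 1), (23, 2), (24, 3), (27, 3), (28, 3), (29, 1), (30, 1), (31, 1), (32, 2), (33, 3), (34, 2), (35, 3), (36, 1), (37, 2), (38, 1), (39, 3), (40, 1), (41, 1), (42, 2), (43, 1), (44, 1), (45, 1), (46, 2), (47, 2), (48, 1), (49, 3), (50, 1), (51, 1)],
  [(0, 1), (4, 2), (5, 1), (6, 2), (7, 2), (8, 2), (9, 2), (10, 2), (11, 2), (12, 2), (13, 3), (14, 2), (15, 2), (16, 3), (17, 2), (18, 3), (19, 2), (20, 3), (21, 2), (22, 3), (24, 3), (25, 2), (26, 2), (27, 2), (29, 3), (31, 2), (32, 1), (33, 2), (34, 1), (35, 2), (36, 3), (37, 1), (38, 3), (39, 1), (40, 2), (41, 2), (42, 3), (43, 2), (44, 2), (45, 2), (46, 3), (47, 3), (48, 3), (49, 1), (50, 2), (51, 2)],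
  [(0, 3), (1, 1), (2, 1), (5, 3), (6, 1), (7, 1), (8, 1), (9, 1), (10, 1), (11, 1), (12, 1), (13, 2), (14, 1), (15, 1), (16, 2), (17, 1), (18, 2), (19, 1), (20, 2), (21, 1), (23, 3), (24, 1), (27, 1), (28, 2), (29, 3), (30, 1), (31, 3), (32, 3), (33, 1), (34, 3), (35, 1), (36, 1), (37, 2), (38, 1), (39, 2), (40, 3), (41, 1), (42, 2), (43, 1), (44, 1), (45, 3), (46, 2), (47, 2), (48, 1), (49, 2), (50, 1), (51, 1)],
  [(0, 1), (1, 2), (2, 2), (3, 2), (5, 3), (6, 2), (7, 2), (8, 2), (9, 2), (10, 2), (11, 2), (12, 2), (13, 3), (14, 2), (15, 2), (16, 3), (17, 2), (18, 3), (19, 2), (20, 3), (21, 2), (22, 2), (24, 2), (25, 3), (26, 2), (27, 3), (29, 2), (31, 3), (32, 1), (33, 2), (34, 1), (35, 2), (36, 2), (37, 3), (38, 2), (39, 1), (40, 2), (41, 3), (42, 3), (43, 3), (44, 2), (45, 2), (46, 1), (47, 3), (48, 2), (49, 1), (50, 3), (51, 2)],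
  [(0, 3), (1, 1), (2, 1), (3, 1), (4, 1), (5, 2), (6, 1), (7, 1), (8, 1), (9, 1), (10, 1), (11, 1), (12, 1), (13, 2), (14, 1), (15, 1), (16, 2), (17, 1), (18, 2), (19, 1), (20, 2), (21, 1), (22, 1), (23, 3), (25, 1), (28, 3), (32, 3), (33, 1), (34, 3), (35, 1), (36, 1), (37, 2), (38, 1), (39, 3), (40, 1), (41, 1), (43, 1), (45, 1), (46, 2), (48, 1), (49, 3), (50, 1)],
  [(0, 1), (1, 2), (2, 2), (3, 2), (5, 1), (6, 2), (7, 2), (8, 2), (9, 2), (10, 2), (11, 2), (12, 2), (13, 3), (14, 2), (15, 2), (16, 3), (17, 2), (18, 3), (19, 2), (20, 3), (21, 2), (22, 3), (23, 1), (24, 2), (25, 2), (26, 2), (27, 2), (28, 1), (29, 2), (30, 2), (31, 2), (33, 3), (34, 1), (35, 2), (36, 3), (37, 1), (38, 2), (40, 3), (41, 2), (42, 3), (43, 2), (44, 2), (45, 2), (46, 3), (47, 3), (48, 2), (49, 1), (50, 2), (51, 2), (52, 1), (53, 2), (56, 1), (63, 3), (65, 2), (66, 2), (67, 3), (68, 1), (69,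 1), (70, 2), (71, 2), (73, 1), (74, 1)],
  [(0, 3), (1, 1), (2, 1), (5, 2), (6, 1), (7, 1), (8, 1), (9, 1), (10, 1), (11, 1), (12, 1), (13, 2), (14, 1), (15, 1), (16, 2), (17, 1), (18, 2), (19, 1), (20, 2), (21, 1), (22, 1), (23, 2), (24, 1), (25, 1), (26, 1), (27, 1), (28, 3), (29, 1), (30, 1), (31, 1), (32, 2), (33, 1), (34, 2), (35, 1), (37, 2), (38, 3), (39, 3), (40, 1), (42, 2), (43, 3), (44, 1), (45, 1), (46, 2), (47, 2), (48, 1), (49, 3), (50, 1), (51, 1), (52, 2), (54, 2), (57, 1), (62, 2), (64, 3), (66, 1), (67, 1), (68, 2), (69, 2), (70, 1), (72, 2), (73, 3), (75, 1)],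
  [(0, 3), (1, 1), (2, 1), (4, 1), (5, 2), (6, 1), (7, 1), (8, 1), (9, 1), (10, 1), (11, 1), (12, 1), (13, 2), (14, 1), (15, 1), (16, 2), (17, 1), (18, 2), (19, 1), (20, 2), (21, 1), (22, 1), (23, 3), (25, 1), (26, 1), (27, 1), (28, 3), (29, 1), (30, 1), (31, 1), (32, 3), (34, 2), (35, 1), (36, 1), (37, 3), (39, 3), (40, 1), (41, 1), (42, 3), (43, 1), (44, 3), (45, 1), (46, 2), (47, 2), (48, 1), (49, 3), (50, 1), (51, 1), (52, 1), (55, 2), (58, 1), (62, 2), (63, 2), (64, 3), (65, 1), (67, 3), (68, 1), (69, 1), (71, 1), (72, 2), (74, 3), (75, 1)],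
  [(0, 1), (4, 2), (5, 3), (6, 2), (7, 2), (8, 2), (9, 2), (10, 2), (11, 2), (12, 2), (13, 3), (14, 2), (15, 2), (16, 3), (17, 2), (18, 3), (19, 2), (20, 3), (21, 2), (22, 2), (23, 1), (24, 2), (25, 3), (26, 2), (27, 2), (28, 1), (29, 2), (30, 2), (31, 2), (33, 2), (34, 1), (35, 3), (36, 2), (37, 3), (38, 2), (40, 2), (41, 3), (42, 3), (43, 2), (44, 2), (45, 3), (46, 1), (47, 3), (48, 2), (49, 1), (50, 2), (51, 2), (53, 2), (54, 1), (59, 1), (63, 2), (65, 3), (66, 2), (67, 2), (68, 1), (70, 3), (71, 2), (72, 1), (73, 1), (76, 1)],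
  [(0, 3), (5, 2), (6, 1), (7, 1), (8, 1), (9, 1), (10, 1), (11, 1), (12, 1), (13, 2), (14, 1), (15, 1), (16, 2), (17, 1), (18, 2), (19, 1), (20, 2), (21, 1), (22, 1), (23, 3), (24, 1), (25, 1), (27, 1), (28, 3), (29, 1), (30, 1), (31, 1), (32, 3), (34, 3), (36, 1), (37, 2), (38, 1), (39, 3), (41, 1), (43, 1), (44, 1), (46, 2), (48, 1), (49, 3), (50, 1), (51, 1), (53, 1), (55, 1), (60, 1), (63, 1), (65, 1), (67, 1), (69, 1), (70, 1), (72, 1), (74, 1), (76, 1)],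
  [(0, 3), (3, 1), (5, 3), (6, 1), (7, 1), (8, 1), (9, 1), (10, 1), (11, 1), (12, 1), (13, 2), (14, 1), (15, 1), (16, 2), (17, 1), (18, 2), (19, 1), (20, 2), (21, 1), (22, 1), (23, 3), (24, 1), (25, 1), (26, 1), (28, 3), (29, 1), (30, 1), (31, 1), (32, 3), (33, 1), (34, 2), (36, 1), (37, 2), (38, 1), (39, 3), (40, 1), (41, 1), (42, 2), (44, 3), (45, 1), (46, 3), (47, 3), (48, 1), (49, 3), (50, 1), (51, 1), (54, 1), (55, 2), (61, 1), (62, 2), (63, 1), (64, 3), (65, 2), (68, 1), (69, 2), (70, 3), (71, 1), (72, 1), (75, 1), (76, 3)],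
  [(0, 2), (3, 1), (4, 1), (5, 2), (6, 1), (7, 1), (8, 1), (9, 1), (10, 1), (11, 1), (12, 1), (13, 2), (14, 1), (15, 1), (16, 2), (17, 1), (18, 2), (19, 1), (20, 2), (21, 1), (22, 1), (23, 3), (24, 1), (25, 1), (26, 1), (27, 1), (28, 2), (29, 1), (30, 1), (31, 1), (32, 3), (33, 1), (34, 3), (35, 1), (37, 2), (38, 1), (39, 2), (40, 1), (42, 2), (43, 1), (44, 1), (45, 1), (46, 2), (47, 2), (48, 3), (49, 2), (50, 3), (51, 1), (56, 2), (57, 1), (59, 2), (62, 3), (64, 2), (66, 1), (67, 1), (68, 3), (70, 1), (73, 2), (74, 2), (75, 1), (76, 2)],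
  [(0, 2), (3, 1), (5, 2), (6, 1), (7, 1), (8, 1), (9, 1), (10, 1), (11, 1), (12, 1), (13, 2), (14, 1), (15, 1), (16, 2), (17, 1), (18, 2), (19, 1), (20, 2), (21, 1), (22, 1), (23, 3), (24, 1), (25, 1), (26, 1), (27, 1), (28, 3), (30, 1), (31, 1), (32, 3), (33, 1), (34, 3), (35, 1), (36, 1), (37, 3), (38, 1), (39, 3), (41, 1), (42, 3), (43, 1), (44, 1), (45, 1), (46, 2), (47, 2), (49, 2), (50, 1), (51, 3), (56, 1), (58, 1), (60, 2), (62, 3), (63, 2), (64, 2), (65, 1), (67, 3), (69, 3), (71, 1), (73, 1), (74, 1), (75, 1), (76, 2)],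
  [(0, 2), (5, 3), (6, 1), (7, 1), (8, 1), (9, 1), (10, 1), (11, 1), (12, 1), (13, 2), (14, 1), (15, 1), (16, 2), (17, 1), (18, 2), (19, 1), (20, 2), (21, 1), (22, 1), (23, 3), (24, 1), (25, 1), (26, 1), (27, 1), (28, 3), (29, 1), (31, 1), (32, 3), (33, 1), (34, 3), (35, 1), (36, 1), (37, 2), (39, 3), (40, 1), (41, 1), (42, 2), (45, 1), (46, 2), (47, 2), (49, 3), (57, 1), (58, 2), (61, 2), (62, 3), (64, 3), (68, 3), (69, 1), (72, 1), (73, 3), (74, 1), (76, 1)],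
  [(0, 2), (1, 1), (2, 1), (4, 1), (5, 3), (6, 1), (7, 1), (8, 1), (9, 1), (10, 1), (11, 1), (12, 1), (13, 2), (14, 1), (15, 1), (16, 2), (17, 1), (18, 2), (19, 1), (20, 2), (21, 1), (22, 1), (23, 3), (24, 1), (25, 1), (26, 1), (27, 1), (28, 3), (29, 1), (30, 1), (32, 3), (33, 1), (34, 3), (35, 1), (36, 1), (37, 2), (38, 1), (39, 3), (40, 1), (41, 1), (42, 2), (43, 1), (44, 1), (46, 3), (47, 3), (48, 1), (49, 2), (51, 3), (59, 1), (60, 2), (61, 1), (62, 3), (63, 1), (64, 2), (65, 2), (70, 3), (71, 1), (72, 3), (73, 1), (74, 2), (75, 1), (76, 1)],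
  [(0, 2), (1, 1), (2, 1), (3, 1), (4, 1), (5, 3), (6, 1), (7, 1), (8, 1), (9, 1), (10, 1), (11, 1), (12, 1), (13, 2), (14, 1), (15, 1), (16, 2), (17, 1), (18, 2), (19, 1), (20, 2), (21, 1), (22, 1), (23, 3), (24, 1), (25, 1), (26, 1), (27, 1), (28, 3), (29, 1), (30, 1), (31, 1), (32, 3), (33, 1), (34, 3), (35, 1), (36, 1), (37, 2), (38, 1), (39, 3), (40, 1), (41, 1), (42, 2), (43, 1), (44, 1), (45, 1), (46, 2), (47, 2), (48, 1), (49, 3), (50, 1), (51, 1), (52, 1), (53, 1), (54, 1), (55, 1), (56, 1), (57, 1), (58, 2), (59, 1), (60, 1), (61, 2), (62, 3), (63, 1), (64, 3), (65, 1), (66, 1), (67, 1), (68, 3), (69, 1), (70, 1), (71, 1), (72, 1), (73, 3), (74, 1), (75, 1), (76, 1), (77, 1)]]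

/-- An image of a generator. -/
def img3 : List (List (ℕ × ℕ)) := [
  [(0, 1), (64, 1), (65, 3), (66, 1)],
  [(1, 1)],
  [(2, 1), (49, 2), (50, 1), (51, 2), (64, 1), (65, 3), (66, 1)],
  [(3, 1), (45, 1), (46, 3), (47, 1), (49, 2), (50, 1), (51, 2), (64, 1), (65, 3), (66, 1)],
  [(4, 1), (46, 3), (47, 1), (50, 1), (51, 2), (65, 3), (66, 1)],
  [(5, 1), (47, 1), (51, 2), (66, 1)],
  [(6, 1)],
  [(7, 1), (8, 1), (9, 3), (10, 1), (11, 2), (12, 1), (13, 2), (22, 1), (23, 3), (24, 1)],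
  [(8, 1), (14, 1), (15, 2), (25, 3), (26, 1)],
  [(9, 1), (14, 2), (16, 2), (25, 1), (27, 1)],
  [(10, 1), (15, 2), (16, 1), (26, 1), (27, 3)],
  [(11, 1), (14, 3), (15, 1), (28, 3), (29, 1)],
  [(12, 1), (14, 1), (16, 1), (28, 1), (30, 1)],
  [(13, 1), (15, 1), (16, 3), (29, 1), (30, 3)],
  [(14, 1), (31, 1)],
  [(15, 1), (31, 3)],
  [(16, 1), (31, 1)],
  [(0, 1), (1, 1), (5, 1), (17, 1), (20, 1), (21, 2), (39, 1), (41, 3), (45, 1), (46, 3), (47, 1), (49, 2), (50, 1), (51, 2), (64, 1), (65, 3), (66, 1)],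
  [(0, 3), (1, 3), (4, 3), (5, 3), (18, 1), (20, 3), (21, 1), (40, 1), (42, 1), (45, 3), (46, 2), (47, 3), (49, 1), (50, 3), (51, 1), (64, 3), (65, 2), (66, 3)],
  [(0, 1), (1, 1), (3, 1), (4, 1), (19, 1), (20, 1), (21, 2), (43, 3), (44, 1), (45, 1), (46, 3), (47, 1), (49, 2), (50, 1), (51, 2), (64, 1), (65, 3), (66, 1)],
  [(20, 1), (45, 1), (46, 3), (47, 1)],
  [(21, 1), (49, 1), (50, 3), (51, 1)],
  [(22, 1), (25, 3), (26, 1), (28, 1), (29, 2)],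
  [(23, 1), (25, 1), (27, 1), (28, 2), (30, 2)],
  [(24, 1), (26, 1), (27, 3), (29, 2), (30, 1)],
  [(25, 1), (31, 2)],
  [(26, 1), (31, 1)],
  [(27, 1), (31, 2)],
  [(28, 1), (31, 1)],
  [(29, 1), (31, 3)],
  [(30, 1), (31, 1)],
  [(31, 1)],
  [(0, 2), (1, 2), (2, 2), (5, 2), (32, 1), (35, 1), (39, 2), (41, 1), (45, 2), (46, 1), (47, 2), (49, 3), (50, 2), (51, 3), (62, 1), (64, 2), (65, 1), (66, 2)],
  [(0, 1), (1, 1), (2, 1), (4, 1), (5, 1), (33, 1), (35, 3), (40, 2), (42, 2), (45, 1), (46, 3), (47, 1), (49, 2), (50, 1), (51, 2), (62, 3), (64, 1), (65, 3), (66, 1)],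
  [(0, 2), (1, 2), (2, 2), (3, 2), (4, 2), (34, 1), (35, 1), (43, 1), (44, 2), (45, 2), (46, 1), (47, 2), (49, 3), (50, 2), (51, 3), (62, 1), (64, 2), (65, 1), (66, 2)],
  [(35, 1), (45, 2), (46, 1), (47, 2)],
  [(1, 1), (2, 1), (3, 1), (5, 1), (36, 1), (39, 1), (41, 3), (45, 1), (46, 3), (47, 1), (48, 2), (49, 2), (50, 1), (51, 2), (63, 1), (64, 1), (65, 3), (66, 1)],
  [(1, 3), (2, 3), (3, 3), (4, 3), (5, 3), (37, 1), (40, 1), (42, 1), (45, 3), (46, 2), (47, 3), (48, 1), (49, 1), (50, 3), (51, 1), (63, 3), (64, 3), (65, 2), (66, 3)],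
  [(1, 1), (2, 1), (4, 1), (38, 1), (43, 3), (44, 1), (45, 1), (46, 3), (47, 1), (48, 2), (49, 2), (50, 1), (51, 2), (63, 1), (64, 1), (65, 3), (66, 1)],
  [(39, 1), (45, 1), (49, 2), (64, 1)],
  [(40, 1), (45, 3), (49, 1), (64, 3)],
  [(41, 1), (46, 1), (50, 2), (65, 1)],
  [(42, 1), (47, 3), (51, 1), (66, 3)],
  [(43, 1), (46, 1), (50, 2), (65, 1)],
  [(44, 1), (47, 1), (51, 2), (66, 1)],
  [(45, 1)],
  [(46, 1)],
  [(47, 1)],
  [(48, 1), (49, 1), (50, 3), (51, 1)],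
  [(49, 1)],
  [(50, 1)],
  [(51, 1)],
  [(52, 1), (53, 1), (54, 3), (55, 1), (56, 2), (57, 1), (58, 2), (67, 1), (68, 3), (69, 1)],
  [(53, 1), (59, 1), (60, 2), (70, 3), (71, 1)],
  [(54, 1), (59, 2), (61, 2), (70, 1), (72, 1)],
  [(55, 1), (60, 2), (61, 1), (71, 1), (72, 3)],
  [(56, 1), (59, 3), (60, 1), (73, 3), (74, 1)],
  [(57, 1), (59, 1), (61, 1), (73, 1), (75, 1)],
  [(58, 1), (60, 1), (61, 3), (74, 1), (75, 3)],
  [(59, 1), (76, 1)],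
  [(60, 1), (76, 3)],
  [(61, 1), (76, 1)],
  [(62, 1), (64, 2), (65, 1), (66, 2)],
  [(63, 1), (64, 1), (65, 3), (66, 1)],
  [(64, 1)],
  [(65, 1)],
  [(66, 1)],
  [(67, 1), (70, 3), (71, 1), (73, 1), (74, 2)],
  [(68, 1), (70, 1), (72, 1), (73, 2), (75, 2)],
  [(69, 1), (71, 1), (72, 3), (74, 2), (75, 1)],
  [(70, 1), (76, 2)],
  [(71, 1), (76, 1)],
  [(72, 1), (76, 2)],
  [(73, 1), (76, 1)],
  [(74, 1), (76, 3)],
  [(75, 1), (76, 1)],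
  [(76, 1)],
  [(77, 1)]]

/-- An image of a generator. -/
def img4 : List (List (ℕ × ℕ)) := [
  [(0, 1)],
  [(1, 1)],
  [(0, 1), (2, 1), (5, 1), (37, 1), (38, 1), (40, 1), (43, 1), (45, 1), (46, 1)],
  [(3, 1), (33, 1), (34, 1), (37, 1), (38, 1), (45, 1), (46, 1), (49, 1), (50, 1)],
  [(0, 1), (4, 1), (5, 1), (34, 1), (35, 1), (38, 1), (45, 1), (48, 1), (49, 1)],
  [(5, 1)],
  [(6, 1)],
  [(7, 1), (8, 1), (9, 1), (11, 1), (12, 1)],
  [(7, 1), (8, 1), (9, 1), (11, 1), (14, 1)],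
  [(7, 1), (8, 1), (9, 1), (12, 1), (14, 1)],
  [(13, 1), (15, 1), (16, 1)],
  [(7, 1), (8, 1), (11, 1), (12, 1), (14, 1)],
  [(7, 1), (9, 1), (11, 1), (12, 1), (14, 1)],
  [(10, 1), (15, 1), (16, 1)],
  [(8, 1), (9, 1), (11, 1), (12, 1), (14, 1)],
  [(10, 1), (13, 1), (16, 1)],
  [(10, 1), (13, 1), (15, 1)],
  [(17, 1)],
  [(19, 1), (20, 1), (21, 1)],
  [(18, 1), (20, 1), (21, 1)],
  [(18, 1), (19, 1), (21, 1)],
  [(18, 1), (19, 1), (20, 1)],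
  [(23, 1), (25, 1), (28, 1)],
  [(22, 1), (25, 1), (28, 1)],
  [(24, 1), (26, 1), (27, 1), (29, 1), (30, 1)],
  [(22, 1), (23, 1), (28, 1)],
  [(24, 1), (26, 1), (27, 1), (29, 1), (31, 1)],
  [(24, 1), (26, 1), (27, 1), (30, 1), (31, 1)],
  [(22, 1), (23, 1), (25, 1)],
  [(24, 1), (26, 1), (29, 1), (30, 1), (31, 1)],
  [(24, 1), (27, 1), (29, 1), (30, 1), (31, 1)],
  [(26, 1), (27, 1), (29, 1), (30, 1), (31, 1)],
  [(36, 1), (39, 1), (41, 1)],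
  [(1, 1), (2, 1), (4, 1), (38, 1), (43, 1), (45, 1), (46, 1), (48, 1), (49, 1), (50, 1)],
  [(1, 1), (2, 1), (3, 1), (4, 1), (5, 1), (37, 1), (40, 1), (45, 1), (46, 1), (48, 1), (49, 1), (50, 1)],
  [(3, 1), (5, 1), (37, 1), (38, 1), (40, 1), (43, 1), (48, 1), (49, 1), (50, 1)],
  [(32, 1), (39, 1), (41, 1)],
  [(0, 1), (1, 1), (2, 1), (3, 1), (4, 1), (34, 1), (35, 1), (43, 1), (45, 1), (46, 1), (49, 1), (50, 1)],
  [(0, 1), (1, 1), (2, 1), (4, 1), (5, 1), (33, 1), (35, 1), (40, 1), (45, 1), (46, 1), (49, 1), (50, 1)],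
  [(32, 1), (36, 1), (41, 1)],
  [(0, 1), (3, 1), (34, 1), (35, 1), (38, 1), (43, 1), (46, 1), (48, 1), (50, 1)],
  [(32, 1), (36, 1), (39, 1)],
  [(44, 1), (47, 1), (51, 1)],
  [(0, 1), (3, 1), (33, 1), (35, 1), (37, 1), (40, 1), (45, 1), (48, 1), (49, 1)],
  [(42, 1), (47, 1), (51, 1)],
  [(0, 1), (1, 1), (2, 1), (4, 1), (5, 1), (33, 1), (34, 1), (37, 1), (38, 1), (43, 1), (48, 1), (50, 1)],
  [(0, 1), (1, 1), (2, 1), (3, 1), (4, 1), (33, 1), (34, 1), (37, 1), (38, 1), (40, 1), (48, 1), (49, 1)],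
  [(42, 1), (44, 1), (51, 1)],
  [(3, 1), (5, 1), (33, 1), (34, 1), (35, 1), (40, 1), (43, 1), (45, 1), (46, 1)],
  [(1, 1), (2, 1), (3, 1), (4, 1), (5, 1), (33, 1), (34, 1), (35, 1), (37, 1), (38, 1), (43, 1), (46, 1)],
  [(1, 1), (2, 1), (4, 1), (33, 1), (34, 1), (35, 1), (37, 1), (38, 1), (40, 1), (45, 1)],
  [(42, 1), (44, 1), (47, 1)],
  [(52, 1), (53, 1), (54, 1), (56, 1), (57, 1)],
  [(52, 1), (53, 1), (54, 1), (56, 1), (59, 1)],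
  [(52, 1), (53, 1), (54, 1), (57, 1), (59, 1)],
  [(58, 1), (60, 1), (61, 1)],
  [(52, 1), (53, 1), (56, 1), (57, 1), (59, 1)],
  [(52, 1), (54, 1), (56, 1), (57, 1), (59, 1)],
  [(55, 1), (60, 1), (61, 1)],
  [(53, 1), (54, 1), (56, 1), (57, 1), (59, 1)],
  [(55, 1), (58, 1), (61, 1)],
  [(55, 1), (58, 1), (60, 1)],
  [(63, 1), (64, 1), (65, 1)],
  [(62, 1), (64, 1), (65, 1)],
  [(62, 1), (63, 1), (65, 1)],
  [(62, 1), (63, 1), (64, 1)],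
  [(66, 1)],
  [(68, 1), (70, 1), (73, 1)],
  [(67, 1), (70, 1), (73, 1)],
  [(69, 1), (71, 1), (72, 1), (74, 1), (75, 1)],
  [(67, 1), (68, 1), (73, 1)],
  [(69, 1), (71, 1), (72, 1), (74, 1), (76, 1)],
  [(69, 1), (71, 1), (72, 1), (75, 1), (76, 1)],
  [(67, 1), (68, 1), (70, 1)],
  [(69, 1), (71, 1), (74, 1), (75, 1), (76, 1)],
  [(69, 1), (72, 1), (74, 1), (75, 1), (76, 1)],
  [(71, 1), (72, 1), (74, 1), (75, 1), (76, 1)],
  [(77, 1)]]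

/-- An image of a generator. -/
def img5 : List (List (ℕ × ℕ)) := [
  [(0, 3), (2, 2), (3, 3), (4, 1), (5, 1), (17, 2), (19, 2), (20, 1), (21, 1), (36, 3), (38, 3), (39, 1), (41, 1), (43, 1), (44, 1), (45, 3), (46, 3), (47, 3), (48, 2), (49, 3), (50, 3), (51, 3), (63, 1), (64, 2), (65, 2), (66, 2)],
  [(1, 1)],
  [(0, 2), (2, 3), (3, 3), (4, 1), (5, 1), (17, 2), (19, 2), (20, 1), (21, 2), (36, 3), (38, 3), (39, 1), (41, 1), (43, 1), (44, 1), (45, 3), (46, 3), (47, 3), (48, 1), (49, 2), (50, 2), (51, 2), (63, 1), (64, 2), (65, 2), (66, 2)],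
  [(3, 1), (17, 1), (19, 1), (36, 1), (38, 1), (45, 1), (46, 1), (47, 1), (49, 1), (50, 1), (51, 1), (64, 1), (65, 1), (66, 1)],
  [(0, 1), (2, 1), (3, 2), (4, 2), (5, 3), (17, 3), (19, 2), (20, 1), (21, 1), (36, 3), (38, 2), (39, 1), (41, 3), (43, 1), (44, 1), (45, 2), (46, 3), (47, 3), (48, 1), (49, 2), (50, 3), (51, 3), (63, 1), (64, 2), (65, 3), (66, 3)],
  [(0, 1), (2, 1), (3, 2), (4, 3), (5, 2), (17, 3), (19, 2), (20, 1), (21, 1), (36, 3), (38, 2), (39, 1), (41, 1), (43, 3), (44, 1), (45, 2), (46, 2), (47, 3), (48, 1), (49, 2), (50, 2), (51, 3), (63, 1), (64, 2), (65, 2), (66, 3)],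
  [(6, 1)],
  [(7, 1), (8, 1), (9, 1), (10, 1), (11, 1), (12, 1), (13, 1), (22, 1), (23, 1), (24, 1)],
  [(7, 1), (9, 2), (10, 2), (11, 3), (14, 1), (15, 1), (22, 3), (25, 1), (26, 1)],
  [(9, 2), (12, 3), (14, 1), (16, 1), (23, 3), (25, 1), (27, 1)],
  [(7, 1), (8, 2), (9, 2), (13, 3), (15, 1), (16, 1), (24, 3), (26, 1), (27, 1)],
  [(11, 3), (12, 2), (13, 2), (14, 1), (15, 1), (28, 1), (29, 1)],
  [(12, 1), (14, 1), (16, 1), (28, 1), (30, 1)],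
  [(11, 2), (12, 2), (13, 3), (15, 1), (16, 1), (29, 1), (30, 1)],
  [(12, 1), (16, 2), (28, 3), (31, 1)],
  [(11, 1), (13, 1), (14, 2), (15, 2), (16, 2), (29, 3), (31, 1)],
  [(12, 1), (14, 2), (30, 3), (31, 1)],
  [(0, 2), (1, 1), (2, 3), (3, 1), (4, 2), (5, 3), (17, 1), (19, 3), (20, 2), (21, 2), (36, 2), (38, 1), (39, 3), (41, 3), (43, 2), (44, 2), (45, 1), (46, 1), (47, 1), (48, 3), (49, 1), (50, 1), (51, 1), (63, 3), (64, 1), (65, 1), (66, 1)],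
  [(0, 2), (1, 1), (2, 3), (3, 1), (4, 3), (5, 3), (17, 3), (18, 2), (19, 3), (20, 2), (21, 2), (36, 1), (37, 3), (38, 1), (39, 2), (40, 1), (41, 2), (42, 1), (43, 2), (44, 2), (45, 1), (46, 1), (47, 1), (48, 3), (49, 1), (50, 1), (51, 1), (63, 3), (64, 1), (65, 1), (66, 1)],
  [(0, 2), (1, 1), (2, 3), (4, 3), (5, 2), (17, 3), (19, 1), (20, 2), (21, 2), (36, 1), (38, 2), (39, 2), (41, 2), (43, 3), (44, 3), (45, 1), (46, 1), (47, 1), (48, 3), (49, 1), (50, 1), (51, 1), (63, 3), (64, 1), (65, 1), (66, 1)],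
  [(0, 1), (2, 1), (4, 1), (5, 1), (17, 2), (19, 2), (20, 3), (21, 1), (36, 3), (38, 3), (39, 1), (41, 1), (43, 1), (44, 1), (45, 2), (46, 2), (47, 2), (48, 2), (49, 3), (50, 3), (51, 3), (63, 2), (64, 3), (65, 3), (66, 3)],
  [(21, 2), (48, 3), (49, 1), (50, 1), (51, 1)],
  [(7, 1), (8, 3), (11, 3), (23, 2), (24, 2), (25, 1), (26, 1), (28, 1), (29, 1)],
  [(9, 3), (12, 3), (23, 2), (25, 1), (27, 1), (28, 1), (30, 1)],
  [(7, 1), (10, 3), (13, 3), (22, 2), (23, 2), (26, 1), (27, 1), (29, 1), (30, 1)],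
  [(9, 1), (14, 3), (23, 1), (25, 3), (27, 2), (28, 3), (31, 1)],
  [(8, 1), (10, 1), (15, 3), (22, 1), (24, 1), (25, 2), (26, 1), (27, 2), (29, 3), (31, 1)],
  [(9, 1), (16, 3), (23, 1), (25, 2), (27, 3), (30, 3), (31, 1)],
  [(12, 1), (14, 3), (30, 2), (31, 1)],
  [(11, 1), (13, 1), (15, 3), (28, 2), (29, 2), (30, 2), (31, 1)],
  [(12, 1), (16, 3), (28, 2), (31, 1)],
  [(14, 1), (16, 1), (28, 1), (30, 1), (31, 1)],
  [(0, 2), (1, 1), (2, 2), (3, 1), (4, 2), (5, 3), (17, 2), (19, 1), (20, 3), (21, 3), (32, 3), (34, 2), (35, 1), (36, 2), (38, 1), (39, 3), (41, 3), (43, 2), (44, 2), (45, 1), (46, 1), (47, 1), (48, 3), (49, 1), (50, 1), (51, 1), (62, 1), (63, 3), (64, 1), (65, 1), (66, 1)],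
  [(0, 2), (1, 1), (2, 2), (3, 1), (4, 3), (5, 3), (17, 1), (18, 3), (19, 1), (20, 3), (21, 3), (32, 2), (33, 1), (34, 2), (35, 1), (36, 1), (37, 3), (38, 1), (39, 2), (40, 1), (41, 2), (42, 1), (43, 2), (44, 2), (45, 1), (46, 1), (47, 1), (48, 3), (49, 1), (50, 1), (51, 1), (62, 1), (63, 3), (64, 1), (65, 1), (66, 1)],
  [(0, 2), (1, 1), (2, 2), (4, 3), (5, 2), (17, 1), (19, 2), (20, 3), (21, 3), (32, 2), (34, 3), (35, 1), (36, 1), (38, 2), (39, 2), (41, 2), (43, 3), (44, 3), (45, 1), (46, 1), (47, 1), (48, 3), (49, 1), (50, 1), (51, 1), (62, 1), (63, 3), (64, 1), (65, 1), (66, 1)],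
  [(0, 1), (2, 2), (4, 1), (5, 1), (17, 3), (19, 3), (20, 1), (21, 2), (32, 1), (34, 1), (35, 2), (36, 3), (38, 3), (39, 1), (41, 1), (43, 1), (44, 1), (45, 2), (46, 2), (47, 2), (48, 2), (49, 3), (50, 3), (51, 3), (62, 3), (63, 2), (64, 3), (65, 3), (66, 3)],
  [(0, 3), (1, 1), (2, 2), (4, 2), (5, 3), (17, 2), (19, 1), (20, 3), (21, 3), (36, 1), (38, 3), (39, 3), (41, 3), (43, 2), (44, 2), (45, 1), (46, 1), (47, 1), (48, 2), (49, 1), (50, 1), (51, 1), (63, 2), (64, 1), (65, 1), (66, 1)],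
  [(0, 3), (1, 1), (2, 2), (4, 3), (5, 3), (17, 1), (18, 3), (19, 1), (20, 3), (21, 3), (36, 3), (37, 2), (38, 3), (39, 2), (40, 1), (41, 2), (42, 1), (43, 2), (44, 2), (45, 1), (46, 1), (47, 1), (48, 2), (49, 1), (50, 1), (51, 1), (63, 2), (64, 1), (65, 1), (66, 1)],
  [(0, 3), (1, 1), (2, 2), (3, 1), (4, 3), (5, 2), (17, 1), (19, 2), (20, 3), (21, 3), (36, 3), (38, 1), (39, 2), (41, 2), (43, 3), (44, 3), (45, 1), (46, 1), (47, 1), (48, 2), (49, 1), (50, 1), (51, 1), (63, 2), (64, 1), (65, 1), (66, 1)],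
  [(0, 1), (2, 1), (4, 1), (5, 1), (17, 3), (19, 2), (20, 1), (21, 1), (36, 3), (38, 2), (39, 2), (41, 1), (43, 3), (44, 3), (45, 3), (46, 2), (47, 2), (48, 1), (49, 3), (50, 2), (51, 2), (63, 1), (64, 3), (65, 2), (66, 2)],
  [(0, 1), (2, 1), (4, 3), (5, 1), (17, 2), (18, 1), (19, 2), (20, 1), (21, 1), (36, 2), (37, 1), (38, 2), (39, 1), (40, 3), (41, 3), (42, 2), (43, 3), (44, 3), (45, 3), (46, 2), (47, 2), (48, 1), (49, 3), (50, 2), (51, 2), (63, 1), (64, 3), (65, 2), (66, 2)],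
  [(41, 3), (43, 2), (46, 1), (50, 1), (65, 1)],
  [(0, 1), (2, 1), (3, 2), (4, 1), (5, 3), (17, 2), (18, 1), (19, 2), (20, 1), (21, 1), (36, 2), (37, 1), (38, 2), (39, 3), (40, 2), (41, 3), (42, 3), (43, 3), (44, 1), (45, 2), (46, 2), (47, 3), (48, 1), (49, 2), (50, 2), (51, 3), (63, 1), (64, 2), (65, 2), (66, 3)],
  [(41, 2), (43, 3), (46, 1), (50, 1), (65, 1)],
  [(0, 1), (2, 1), (4, 1), (5, 1), (17, 2), (19, 3), (20, 1), (21, 1), (36, 2), (38, 3), (39, 3), (41, 3), (43, 1), (44, 2), (45, 2), (46, 2), (47, 3), (48, 1), (49, 2), (50, 2), (51, 3), (63, 1), (64, 2), (65, 2), (66, 3)],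
  [(0, 3), (1, 1), (2, 2), (3, 1), (4, 3), (5, 2), (17, 1), (19, 1), (20, 2), (21, 3), (36, 1), (38, 1), (39, 3), (41, 2), (43, 2), (44, 2), (45, 1), (46, 3), (47, 3), (48, 3), (49, 2), (50, 1), (51, 1), (63, 3), (64, 2), (65, 1), (66, 1)],
  [(41, 1), (43, 1), (46, 2), (50, 3), (65, 3)],
  [(0, 3), (1, 1), (2, 2), (4, 2), (5, 3), (17, 1), (19, 1), (20, 2), (21, 3), (36, 1), (38, 1), (39, 2), (41, 2), (43, 2), (44, 3), (45, 3), (46, 3), (47, 1), (48, 3), (49, 1), (50, 1), (51, 2), (63, 3), (64, 1), (65, 1), (66, 2)],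
  [(21, 3), (48, 2), (49, 1), (50, 1), (51, 1)],
  [(21, 1), (48, 1), (49, 3), (50, 2), (51, 2)],
  [(50, 1)],
  [(21, 1), (48, 1), (49, 2), (50, 2), (51, 3)],
  [(52, 1), (53, 1), (54, 1), (55, 1), (56, 1), (57, 1), (58, 1), (67, 1), (68, 1), (69, 1)],
  [(52, 1), (54, 2), (55, 2), (56, 3), (59, 1), (60, 1), (67, 3), (70, 1), (71, 1)],
  [(54, 2), (57, 3), (59, 1), (61, 1), (68, 3), (70, 1), (72, 1)],
  [(52, 1), (53, 2), (54, 2), (58, 3), (60, 1), (61, 1), (69, 3), (71, 1), (72, 1)],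
  [(56, 3), (57, 2), (58, 2), (59, 1), (60, 1), (73, 1), (74, 1)],
  [(57, 1), (59, 1), (61, 1), (73, 1), (75, 1)],
  [(56, 2), (57, 2), (58, 3), (60, 1), (61, 1), (74, 1), (75, 1)],
  [(57, 1), (61, 2), (73, 3), (76, 1)],
  [(56, 1), (58, 1), (59, 2), (60, 2), (61, 2), (74, 3), (76, 1)],
  [(57, 1), (59, 2), (75, 3), (76, 1)],
  [(0, 2), (2, 1), (3, 3), (4, 1), (5, 1), (17, 3), (19, 3), (20, 2), (21, 2), (32, 1), (34, 1), (35, 3), (36, 3), (38, 3), (39, 1), (41, 1), (43, 1), (44, 1), (45, 3), (46, 3), (47, 3), (48, 2), (49, 3), (50, 3), (51, 3), (62, 2), (63, 1), (64, 2), (65, 2), (66, 2)],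
  [(0, 1), (2, 1), (4, 1), (5, 1), (17, 3), (19, 3), (20, 2), (21, 2), (36, 2), (38, 2), (39, 1), (41, 1), (43, 1), (44, 1), (45, 3), (46, 3), (47, 3), (48, 1), (49, 3), (50, 3), (51, 3), (63, 3), (64, 2), (65, 2), (66, 2)],
  [(0, 2), (1, 1), (2, 3), (4, 3), (5, 2), (17, 1), (19, 1), (20, 3), (21, 3), (36, 1), (38, 1), (39, 3), (41, 2), (43, 2), (44, 2), (45, 2), (46, 1), (47, 1), (48, 3), (49, 2), (50, 1), (51, 1), (63, 2), (64, 1), (65, 3), (66, 3)],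
  [(41, 1), (43, 1), (46, 3), (50, 3), (65, 2)],
  [(0, 2), (1, 1), (2, 3), (3, 1), (4, 2), (5, 3), (17, 1), (19, 1), (20, 3), (21, 3), (36, 1), (38, 1), (39, 2), (41, 2), (43, 2), (44, 3), (45, 1), (46, 1), (47, 2), (48, 3), (49, 1), (50, 1), (51, 2), (63, 2), (64, 3), (65, 3), (66, 1)],
  [(52, 1), (53, 3), (56, 3), (68, 2), (69, 2), (70, 1), (71, 1), (73, 1), (74, 1)],
  [(54, 3), (57, 3), (68, 2), (70, 1), (72, 1), (73, 1), (75, 1)],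
  [(52, 1), (55, 3), (58, 3), (67, 2), (68, 2), (71, 1), (72, 1), (74, 1), (75, 1)],
  [(54, 1), (59, 3), (68, 1), (70, 3), (72, 2), (73, 3), (76, 1)],
  [(53, 1), (55, 1), (60, 3), (67, 1), (69, 1), (70, 2), (71, 1), (72, 2), (74, 3), (76, 1)],
  [(54, 1), (61, 3), (68, 1), (70, 2), (72, 3), (75, 3), (76, 1)],
  [(57, 1), (59, 3), (75, 2), (76, 1)],
  [(56, 1), (58, 1), (60, 3), (73, 2), (74, 2), (75, 2), (76, 1)],
  [(57, 1), (61, 3), (73, 2), (76, 1)],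
  [(59, 1), (61, 1), (73, 1), (75, 1), (76, 1)],
  [(77, 1)]]

/-- An image of a generator. -/
def img6 : List (List (ℕ × ℕ)) := [
  [(0, 2), (2, 1), (3, 1), (4, 1), (5, 2), (32, 1), (33, 1), (34, 2), (35, 1), (36, 3), (37, 3), (38, 1), (39, 1), (40, 1), (41, 3), (42, 1), (43, 1), (44, 2), (45, 1), (46, 3), (47, 1), (48, 1), (49, 2), (50, 1), (51, 2)],
  [(1, 1)],
  [(0, 2), (2, 2), (3, 3), (4, 3), (5, 1), (17, 2), (18, 2), (19, 3), (20, 2), (21, 1), (32, 2), (33, 2), (34, 3), (35, 2), (36, 2), (37, 2), (38, 3), (39, 3), (40, 3), (41, 2), (42, 3), (43, 3), (44, 1), (45, 3), (46, 2), (47, 3), (48, 2), (49, 3), (50, 2), (51, 3), (62, 3), (63, 1), (64, 2), (65, 1), (66, 2)],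
  [(3, 1), (17, 1), (18, 1), (19, 2), (32, 1), (33, 1), (34, 2), (36, 3), (37, 3), (38, 1), (45, 1), (46, 3), (47, 1), (49, 2), (50, 1), (51, 2), (64, 1), (65, 3), (66, 1)],
  [(0, 1), (2, 2), (3, 2), (4, 3), (5, 3), (17, 3), (18, 3), (19, 3), (20, 2), (21, 3), (32, 3), (33, 3), (34, 3), (35, 2), (36, 2), (37, 2), (38, 2), (39, 3), (40, 3), (41, 1), (42, 2), (43, 3), (44, 1), (45, 2), (46, 2), (47, 3), (48, 2), (49, 3), (50, 3), (51, 1), (62, 2), (63, 1), (64, 2), (65, 2), (66, 3)],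
  [(0, 3), (2, 1), (3, 1), (4, 1), (5, 3), (18, 1), (19, 2), (20, 1), (21, 2), (33, 1), (34, 2), (35, 1), (37, 3), (38, 1), (40, 1), (43, 1), (45, 1), (46, 3), (48, 1), (49, 2), (50, 1), (62, 1), (63, 3), (64, 1), (65, 3)],
  [(6, 1)],
  [(7, 1), (8, 1), (9, 3), (10, 1), (11, 2), (12, 1), (13, 2), (22, 1), (23, 3), (24, 1)],
  [(7, 1), (9, 1), (10, 2), (11, 1), (14, 1), (15, 2), (22, 3), (25, 3), (26, 1)],
  [(7, 3), (8, 1), (9, 1), (10, 1), (12, 1), (14, 2), (16, 2), (23, 3), (25, 1), (27, 1)],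
  [(7, 3), (8, 1), (9, 3), (10, 3), (13, 1), (15, 2), (16, 1), (24, 3), (26, 1), (27, 3)],
  [(7, 2), (8, 1), (11, 1), (12, 1), (13, 2), (14, 3), (15, 1), (22, 1), (28, 3), (29, 1)],
  [(7, 1), (9, 1), (11, 1), (13, 1), (14, 1), (16, 1), (23, 1), (28, 1), (30, 1)],
  [(7, 1), (10, 1), (11, 1), (12, 3), (13, 2), (15, 1), (16, 3), (24, 1), (29, 1), (30, 3)],
  [(8, 1), (9, 2), (11, 3), (12, 1), (14, 1), (15, 1), (16, 2), (25, 1), (28, 3), (31, 1)],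
  [(8, 1), (10, 2), (11, 3), (13, 1), (14, 3), (15, 3), (16, 1), (26, 1), (29, 3), (31, 3)],
  [(9, 1), (10, 1), (12, 3), (13, 3), (14, 1), (15, 1), (16, 2), (27, 1), (30, 3), (31, 1)],
  [(0, 2), (1, 1), (2, 1), (3, 1), (4, 1), (5, 3), (33, 1), (34, 2), (35, 1), (37, 3), (38, 1), (40, 1), (42, 1), (43, 1), (44, 2), (45, 1), (46, 3), (47, 1), (48, 1), (49, 2), (50, 1), (51, 2), (62, 1), (63, 3), (64, 1), (65, 3), (66, 1)],
  [(0, 1), (1, 3), (2, 3), (3, 3), (5, 2), (32, 3), (33, 2), (34, 1), (35, 3), (36, 2), (37, 1), (38, 3), (39, 3), (40, 2), (41, 2), (42, 2), (43, 3), (44, 1), (45, 3), (46, 2), (47, 3), (48, 3), (49, 1), (50, 3), (51, 1), (62, 3), (63, 2), (64, 3), (65, 2), (66, 3)],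
  [(0, 2), (1, 1), (2, 1), (5, 2), (32, 1), (33, 1), (34, 3), (35, 1), (36, 3), (37, 3), (38, 2), (39, 1), (40, 1), (41, 3), (42, 1), (43, 2), (44, 3), (45, 1), (46, 3), (47, 1), (48, 1), (49, 2), (50, 1), (51, 2), (62, 1), (63, 3), (64, 1), (65, 3), (66, 1)],
  [(0, 1), (4, 3), (5, 1), (32, 3), (33, 3), (34, 1), (35, 2), (36, 2), (37, 2), (38, 3), (39, 3), (40, 3), (41, 2), (42, 3), (43, 3), (44, 1), (45, 2), (46, 1), (47, 2), (48, 3), (49, 1), (50, 3), (51, 1), (62, 3), (63, 2), (64, 3), (65, 2), (66, 3)],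
  [(0, 3), (3, 1), (4, 1), (5, 2), (32, 1), (33, 1), (34, 2), (35, 1), (36, 3), (37, 3), (38, 1), (39, 1), (40, 1), (41, 3), (42, 1), (43, 1), (44, 2), (45, 1), (46, 3), (47, 1), (48, 2), (49, 3), (50, 2), (51, 3), (62, 1), (63, 3), (64, 1), (65, 3), (66, 1)],
  [(7, 2), (8, 1), (11, 2), (22, 2), (23, 1), (24, 2), (25, 3), (26, 1), (28, 1), (29, 2)],
  [(7, 1), (9, 1), (12, 2), (22, 1), (23, 3), (24, 1), (25, 1), (27, 1), (28, 2), (30, 2)],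
  [(7, 1), (10, 1), (13, 2), (22, 1), (23, 3), (24, 1), (26, 1), (27, 3), (29, 2), (30, 1)],
  [(8, 1), (9, 2), (14, 2), (22, 3), (23, 1), (25, 2), (26, 1), (27, 2), (28, 1), (31, 2)],
  [(8, 1), (10, 2), (15, 2), (22, 3), (24, 1), (25, 3), (27, 1), (29, 1), (31, 1)],
  [(9, 1), (10, 1), (16, 2), (23, 3), (24, 3), (25, 1), (26, 1), (27, 1), (30, 1), (31, 2)],
  [(11, 1), (12, 2), (14, 1), (22, 1), (23, 2), (25, 1), (28, 3), (29, 1), (30, 2), (31, 1)],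
  [(11, 1), (13, 2), (15, 1), (22, 1), (24, 2), (26, 1), (28, 3), (29, 1), (30, 1), (31, 3)],
  [(12, 1), (13, 1), (16, 1), (23, 1), (24, 1), (27, 1), (28, 1), (29, 1), (31, 1)],
  [(14, 1), (15, 1), (16, 2), (25, 1), (26, 1), (27, 2), (28, 3), (29, 3), (30, 1), (31, 1)],
  [(0, 3), (1, 2), (3, 2), (4, 2), (5, 1), (18, 2), (19, 3), (20, 2), (21, 3), (33, 3), (34, 1), (35, 3), (37, 1), (38, 2), (40, 2), (42, 2), (43, 2), (44, 3), (45, 2), (46, 1), (47, 2), (48, 2), (49, 3), (50, 2), (51, 3), (62, 3), (63, 1), (64, 2), (65, 1), (66, 2)],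
  [(0, 2), (1, 1), (3, 1), (5, 3), (17, 1), (18, 3), (19, 2), (20, 1), (21, 2), (32, 2), (33, 1), (34, 3), (35, 2), (36, 3), (37, 2), (38, 1), (39, 1), (40, 3), (41, 3), (42, 3), (43, 1), (44, 2), (45, 1), (46, 3), (47, 1), (48, 1), (49, 2), (50, 1), (51, 2), (62, 2), (63, 3), (64, 1), (65, 3), (66, 1)],
  [(0, 3), (1, 2), (5, 3), (17, 2), (18, 2), (19, 1), (20, 2), (21, 3), (32, 3), (33, 3), (34, 2), (35, 3), (36, 1), (37, 1), (38, 3), (39, 2), (40, 2), (41, 1), (42, 2), (43, 3), (44, 1), (45, 2), (46, 1), (47, 2), (48, 2), (49, 3), (50, 2), (51, 3), (62, 3), (63, 1), (64, 2), (65, 1), (66, 2)],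
  [(0, 2), (2, 1), (4, 1), (5, 2), (17, 1), (18, 1), (19, 2), (20, 3), (21, 2), (32, 2), (33, 2), (34, 3), (35, 1), (36, 3), (37, 3), (38, 1), (39, 1), (40, 1), (41, 3), (42, 1), (43, 1), (44, 2), (45, 3), (46, 2), (47, 3), (48, 1), (49, 2), (50, 1), (51, 2), (62, 2), (63, 3), (64, 1), (65, 3), (66, 1)],
  [(0, 3), (1, 1), (4, 1), (5, 3), (18, 1), (19, 2), (20, 1), (21, 2), (33, 1), (34, 2), (35, 1), (37, 2), (38, 3), (40, 1), (42, 1), (43, 1), (44, 2), (45, 1), (46, 3), (47, 1), (48, 3), (49, 2), (50, 1), (51, 2), (62, 1), (63, 2), (64, 1), (65, 3), (66, 1)],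
  [(0, 2), (1, 3), (5, 2), (17, 3), (18, 2), (19, 1), (20, 3), (21, 1), (32, 3), (33, 2), (34, 1), (35, 3), (36, 1), (37, 3), (38, 2), (39, 3), (40, 2), (41, 2), (42, 2), (43, 3), (44, 1), (45, 3), (46, 2), (47, 3), (48, 2), (49, 1), (50, 3), (51, 1), (62, 3), (63, 1), (64, 3), (65, 2), (66, 3)],
  [(0, 3), (1, 1), (3, 1), (5, 2), (17, 1), (18, 1), (19, 3), (20, 1), (21, 2), (32, 1), (33, 1), (34, 3), (35, 1), (36, 2), (37, 2), (38, 1), (39, 1), (40, 1), (41, 3), (42, 1), (43, 2), (44, 3), (45, 1), (46, 3), (47, 1), (48, 3), (49, 2), (50, 1), (51, 2), (62, 1), (63, 2), (64, 1), (65, 3), (66, 1)],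
  [(0, 1), (2, 2), (5, 1), (18, 2), (19, 3), (20, 2), (21, 3), (33, 2), (34, 3), (35, 2), (37, 1), (38, 2), (40, 3), (42, 2), (43, 2), (44, 3), (45, 3), (46, 1), (47, 2), (48, 2), (49, 1), (50, 2), (51, 3), (62, 2), (63, 1), (64, 3), (65, 1), (66, 2)],
  [(0, 3), (2, 1), (4, 1), (5, 3), (17, 1), (18, 3), (19, 2), (20, 1), (21, 2), (32, 1), (33, 3), (34, 2), (35, 1), (36, 3), (37, 2), (38, 1), (39, 2), (40, 1), (41, 3), (42, 3), (43, 1), (44, 2), (45, 2), (46, 3), (47, 1), (48, 1), (49, 3), (50, 1), (51, 2), (62, 1), (63, 3), (64, 2), (65, 3), (66, 1)],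
  [(0, 3), (2, 1), (3, 1), (5, 2), (18, 1), (19, 2), (20, 1), (21, 2), (33, 1), (34, 2), (35, 1), (37, 3), (38, 1), (40, 1), (42, 1), (43, 3), (44, 2), (45, 1), (46, 2), (47, 1), (48, 1), (49, 2), (50, 3), (51, 2), (62, 1), (63, 3), (64, 1), (65, 2), (66, 1)],
  [(0, 2), (2, 3), (3, 3), (5, 1), (17, 3), (18, 2), (19, 1), (20, 3), (21, 1), (32, 3), (33, 2), (34, 1), (35, 3), (36, 2), (37, 1), (38, 3), (39, 3), (40, 2), (41, 2), (43, 3), (45, 3), (46, 2), (48, 3), (49, 1), (50, 3), (62, 3), (63, 2), (64, 3), (65, 2)],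
  [(0, 3), (2, 1), (4, 1), (5, 3), (17, 1), (18, 1), (19, 3), (20, 1), (21, 2), (32, 1), (33, 1), (34, 3), (35, 1), (36, 3), (37, 3), (38, 2), (39, 1), (40, 1), (41, 2), (42, 1), (43, 1), (44, 3), (45, 1), (46, 2), (47, 1), (48, 1), (49, 2), (50, 3), (51, 2), (62, 1), (63, 3), (64, 1), (65, 2), (66, 1)],
  [(0, 3), (2, 1), (5, 3), (17, 1), (18, 1), (19, 3), (20, 1), (21, 2), (32, 1), (33, 1), (34, 3), (35, 1), (36, 3), (37, 3), (38, 2), (39, 1), (40, 1), (41, 3), (43, 2), (45, 1), (46, 3), (48, 1), (49, 2), (50, 1), (62, 1), (63, 3), (64, 1), (65, 3)],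
  [(0, 3), (1, 1), (3, 1), (5, 2), (17, 1), (18, 1), (19, 2), (20, 3), (21, 2), (32, 1), (33, 1), (34, 2), (35, 3), (36, 3), (37, 3), (38, 1), (39, 2), (40, 2), (41, 3), (42, 1), (43, 1), (44, 2), (45, 1), (46, 2), (47, 3), (48, 1), (49, 3), (50, 1), (51, 2), (62, 1), (63, 3), (64, 2), (65, 3), (66, 1)],
  [(0, 2), (1, 3), (5, 2), (17, 3), (18, 3), (19, 1), (20, 2), (21, 1), (32, 3), (33, 3), (34, 1), (35, 2), (36, 2), (37, 2), (38, 3), (39, 3), (40, 3), (41, 1), (42, 3), (43, 2), (44, 1), (45, 2), (46, 3), (47, 2), (48, 3), (49, 1), (50, 2), (51, 1), (62, 3), (63, 2), (64, 3), (65, 1), (66, 3)],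
  [(0, 2), (1, 3), (4, 3), (5, 2), (17, 3), (18, 3), (19, 1), (20, 2), (21, 1), (32, 3), (33, 3), (34, 1), (35, 2), (36, 2), (37, 2), (38, 3), (39, 3), (40, 3), (41, 2), (43, 3), (45, 2), (46, 1), (48, 3), (49, 1), (50, 3), (62, 3), (63, 2), (64, 3), (65, 2)],
  [(0, 2), (2, 1), (4, 1), (5, 2), (17, 1), (18, 1), (19, 2), (20, 1), (21, 3), (32, 1), (33, 1), (34, 2), (35, 1), (36, 2), (37, 2), (38, 3), (39, 1), (40, 1), (41, 3), (42, 1), (43, 1), (44, 2), (45, 1), (46, 3), (47, 1), (48, 1), (49, 3), (50, 2), (51, 3), (62, 1), (63, 2), (64, 1), (65, 3), (66, 1)],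
  [(0, 3), (1, 2), (5, 3), (17, 2), (18, 2), (19, 3), (20, 2), (21, 1), (32, 2), (33, 2), (34, 3), (35, 2), (36, 1), (37, 1), (38, 2), (39, 3), (40, 3), (41, 1), (42, 2), (43, 2), (44, 3), (45, 3), (46, 1), (47, 2), (48, 3), (49, 2), (50, 3), (51, 1), (62, 2), (63, 1), (64, 3), (65, 1), (66, 2)],
  [(0, 2), (1, 1), (3, 1), (5, 3), (17, 1), (18, 1), (19, 2), (20, 1), (21, 3), (32, 1), (33, 1), (34, 2), (35, 1), (36, 3), (37, 3), (38, 1), (39, 1), (40, 1), (41, 2), (42, 1), (43, 3), (44, 2), (45, 1), (46, 2), (47, 1), (48, 2), (49, 3), (50, 1), (51, 3), (62, 1), (63, 3), (64, 1), (65, 2), (66, 1)],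
  [(0, 2), (1, 1), (3, 1), (4, 1), (5, 3), (17, 1), (18, 1), (19, 2), (20, 1), (21, 3), (32, 1), (33, 1), (34, 2), (35, 1), (36, 3), (37, 3), (38, 1), (39, 1), (40, 1), (41, 3), (43, 1), (45, 1), (46, 3), (48, 2), (49, 3), (50, 2), (62, 1), (63, 3), (64, 1), (65, 3)],
  [(52, 1), (53, 1), (54, 3), (55, 1), (56, 2), (57, 1), (58, 2), (67, 1), (68, 3), (69, 1)],
  [(52, 1), (54, 1), (55, 2), (56, 1), (59, 1), (60, 2), (67, 3), (70, 3), (71, 1)],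
  [(52, 3), (53, 1), (54, 1), (55, 1), (57, 1), (59, 2), (61, 2), (68, 3), (70, 1), (72, 1)],
  [(52, 3), (53, 1), (54, 3), (55, 3), (58, 1), (60, 2), (61, 1), (69, 3), (71, 1), (72, 3)],
  [(52, 2), (53, 1), (56, 1), (57, 1), (58, 2), (59, 3), (60, 1), (67, 1), (73, 3), (74, 1)],
  [(52, 1), (54, 1), (56, 1), (58, 1), (59, 1), (61, 1), (68, 1), (73, 1), (75, 1)],
  [(52, 1), (55, 1), (56, 1), (57, 3), (58, 2), (60, 1), (61, 3), (69, 1), (74, 1), (75, 3)],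
  [(53, 1), (54, 2), (56, 3), (57, 1), (59, 1), (60, 1), (61, 2), (70, 1), (73, 3), (76, 1)],
  [(53, 1), (55, 2), (56, 3), (58, 1), (59, 3), (60, 3), (61, 1), (71, 1), (74, 3), (76, 3)],
  [(54, 1), (55, 1), (57, 3), (58, 3), (59, 1), (60, 1), (61, 2), (72, 1), (75, 3), (76, 1)],
  [(0, 1), (3, 2), (4, 2), (5, 3), (17, 2), (18, 2), (19, 3), (20, 2), (21, 3), (32, 3), (33, 3), (34, 1), (35, 3), (36, 1), (37, 1), (38, 2), (39, 2), (40, 2), (41, 1), (42, 2), (43, 2), (44, 3), (45, 2), (46, 1), (47, 2), (48, 2), (49, 3), (50, 2), (51, 3)],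
  [(0, 2), (4, 1), (5, 2), (17, 1), (18, 1), (19, 2), (20, 1), (21, 2), (32, 1), (33, 1), (34, 2), (35, 1), (36, 2), (37, 2), (38, 3), (39, 1), (40, 1), (41, 3), (42, 1), (43, 1), (44, 2), (45, 1), (46, 3), (47, 1), (48, 3), (49, 2), (50, 1), (51, 2)],
  [(0, 3), (1, 2), (2, 2), (5, 3), (17, 2), (18, 2), (19, 3), (20, 2), (21, 3), (32, 2), (33, 2), (34, 3), (35, 2), (36, 1), (37, 1), (38, 2), (39, 3), (40, 3), (41, 1), (42, 2), (43, 2), (44, 3), (45, 3), (46, 1), (47, 2), (48, 2), (49, 1), (50, 2), (51, 3)],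
  [(0, 2), (1, 1), (2, 1), (3, 1), (5, 3), (17, 1), (18, 1), (19, 2), (20, 1), (21, 2), (32, 1), (33, 1), (34, 2), (35, 1), (36, 3), (37, 3), (38, 1), (39, 1), (40, 1), (41, 2), (42, 1), (43, 3), (44, 2), (45, 1), (46, 2), (47, 1), (48, 1), (49, 2), (50, 3), (51, 2)],
  [(0, 2), (1, 1), (2, 1), (3, 1), (4, 1), (5, 3), (17, 1), (18, 1), (19, 2), (20, 1), (21, 2), (32, 1), (33, 1), (34, 2), (35, 1), (36, 3), (37, 3), (38, 1), (39, 1), (40, 1), (41, 3), (43, 1), (45, 1), (46, 3), (48, 1), (49, 2), (50, 1)],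
  [(52, 2), (53, 1), (56, 2), (67, 2), (68, 1), (69, 2), (70, 3), (71, 1), (73, 1), (74, 2)],
  [(52, 1), (54, 1), (57, 2), (67, 1), (68, 3), (69, 1), (70, 1), (72, 1), (73, 2), (75, 2)],
  [(52, 1), (55, 1), (58, 2), (67, 1), (68, 3), (69, 1), (71, 1), (72, 3), (74, 2), (75, 1)],
  [(53, 1), (54, 2), (59, 2), (67, 3), (68, 1), (70, 2), (71, 1), (72, 2), (73, 1), (76, 2)],
  [(53, 1), (55, 2), (60, 2), (67, 3), (69, 1), (70, 3), (72, 1), (74, 1), (76, 1)],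
  [(54, 1), (55, 1), (61, 2), (68, 3), (69, 3), (70, 1), (71, 1), (72, 1), (75, 1), (76, 2)],
  [(56, 1), (57, 2), (59, 1), (67, 1), (68, 2), (70, 1), (73, 3), (74, 1), (75, 2), (76, 1)],
  [(56, 1), (58, 2), (60, 1), (67, 1), (69, 2), (71, 1), (73, 3), (74, 1), (75, 1), (76, 3)],
  [(57, 1), (58, 1), (61, 1), (68, 1), (69, 1), (72, 1), (73, 1), (74, 1), (76, 1)],
  [(59, 1), (60, 1), (61, 2), (70, 1), (71, 1), (72, 2), (73, 3), (74, 3), (75, 1), (76, 1)],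
  [(77, 1)]]

/-- An image of a generator. -/
def img7 : List (List (ℕ × ℕ)) := [
  [(0, 1), (62, 3), (63, 3), (64, 1), (65, 1), (66, 1)],
  [(1, 1)],
  [(0, 2), (2, 1), (3, 3), (5, 1), (33, 2), (34, 2), (35, 1), (37, 3), (38, 3), (40, 1), (42, 1), (43, 1), (44, 1), (45, 3), (46, 3), (47, 3), (48, 1), (49, 2), (50, 2), (51, 2), (62, 2), (63, 1), (64, 2), (65, 2), (66, 2)],
  [(3, 1), (33, 1), (34, 1), (37, 1), (38, 1), (45, 1), (46, 1), (47, 1), (49, 1), (50, 1), (51, 1), (64, 1), (65, 1), (66, 1)],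
  [(0, 1), (3, 2), (4, 1), (5, 3), (33, 3), (34, 2), (35, 1), (37, 3), (38, 2), (40, 1), (42, 3), (43, 1), (44, 1), (45, 2), (46, 3), (47, 3), (48, 1), (49, 2), (50, 3), (51, 3), (62, 1), (63, 1), (64, 2), (65, 3), (66, 3)],
  [(5, 1), (42, 2), (44, 2), (47, 1), (51, 1), (66, 1)],
  [(6, 1)],
  [(7, 1), (8, 1), (9, 1), (10, 1), (11, 1), (12, 1), (13, 1), (22, 1), (23, 1), (24, 1)],
  [(7, 1), (9, 2), (10, 2), (11, 3), (14, 1), (15, 1), (22, 3), (25, 1), (26, 1)],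
  [(7, 1), (8, 2), (10, 2), (12, 3), (14, 1), (16, 1), (23, 3), (25, 1), (27, 1)],
  [(10, 2), (13, 3), (15, 1), (16, 1), (24, 3), (26, 1), (27, 1)],
  [(7, 1), (8, 3), (12, 2), (13, 2), (14, 1), (15, 1), (22, 3), (28, 1), (29, 1)],
  [(7, 1), (9, 3), (11, 2), (13, 2), (14, 1), (16, 1), (23, 3), (28, 1), (30, 1)],
  [(10, 3), (13, 2), (15, 1), (16, 1), (24, 3), (29, 1), (30, 1)],
  [(8, 1), (9, 1), (11, 1), (12, 1), (14, 1), (15, 2), (16, 2), (25, 3), (28, 3), (31, 1)],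
  [(10, 1), (13, 1), (15, 3), (16, 2), (26, 3), (29, 3), (31, 1)],
  [(10, 1), (13, 1), (15, 2), (16, 3), (27, 3), (30, 3), (31, 1)],
  [(0, 2), (1, 1), (3, 1), (5, 3), (17, 1), (18, 2), (19, 2), (20, 1), (21, 1), (32, 3), (33, 1), (34, 1), (35, 3), (36, 3), (37, 1), (38, 1), (39, 1), (40, 2), (41, 1), (42, 2), (43, 2), (44, 2), (45, 1), (46, 1), (47, 1), (48, 3), (49, 1), (50, 1), (51, 1), (62, 3), (63, 3), (64, 1), (65, 1), (66, 1)],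
  [(0, 2), (1, 1), (3, 1), (4, 1), (5, 3), (18, 3), (19, 2), (20, 1), (21, 1), (33, 2), (34, 1), (35, 3), (37, 2), (38, 1), (40, 3), (42, 3), (43, 2), (44, 2), (45, 1), (46, 1), (47, 1), (48, 3), (49, 1), (50, 1), (51, 1), (62, 3), (63, 3), (64, 1), (65, 1), (66, 1)],
  [(0, 2), (1, 1), (4, 1), (5, 2), (18, 2), (19, 3), (20, 1), (21, 1), (33, 1), (34, 2), (35, 3), (37, 1), (38, 2), (40, 2), (42, 2), (43, 3), (44, 3), (45, 1), (46, 1), (47, 1), (48, 3), (49, 1), (50, 1), (51, 1), (62, 3), (63, 3), (64, 1), (65, 1), (66, 1)],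
  [(0, 1), (2, 3), (5, 1), (18, 1), (19, 1), (20, 2), (21, 3), (33, 3), (34, 3), (35, 1), (37, 3), (38, 3), (40, 1), (42, 1), (43, 1), (44, 1), (45, 2), (46, 2), (47, 2), (48, 2), (49, 3), (50, 3), (51, 3), (62, 2), (63, 2), (64, 3), (65, 3), (66, 3)],
  [(0, 2), (2, 3), (3, 3), (5, 1), (18, 1), (19, 1), (20, 3), (21, 2), (33, 3), (34, 3), (35, 2), (37, 3), (38, 3), (40, 1), (42, 1), (43, 1), (44, 1), (45, 3), (46, 3), (47, 3), (48, 1), (49, 2), (50, 2), (51, 2), (62, 2), (63, 2), (64, 3), (65, 3), (66, 3)],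
  [(22, 3), (23, 2), (24, 2), (25, 1), (26, 1), (28, 1), (29, 1)],
  [(22, 2), (23, 3), (24, 2), (25, 1), (27, 1), (28, 1), (30, 1)],
  [(24, 1), (26, 1), (27, 1), (29, 1), (30, 1)],
  [(22, 1), (23, 1), (25, 2), (26, 2), (27, 2), (28, 3), (31, 1)],
  [(24, 1), (27, 2), (29, 3), (31, 1)],
  [(24, 1), (26, 2), (30, 3), (31, 1)],
  [(22, 1), (23, 1), (25, 3), (28, 2), (29, 2), (30, 2), (31, 1)],
  [(24, 1), (26, 3), (30, 2), (31, 1)],
  [(24, 1), (27, 3), (29, 2), (31, 1)],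
  [(26, 1), (27, 1), (29, 1), (30, 1), (31, 1)],
  [(0, 2), (1, 1), (2, 1), (3, 1), (5, 3), (32, 2), (33, 3), (34, 3), (35, 2), (36, 3), (37, 1), (38, 1), (39, 1), (40, 2), (41, 1), (42, 2), (43, 2), (44, 2), (45, 1), (46, 1), (47, 1), (48, 3), (49, 1), (50, 1), (51, 1), (62, 2), (63, 3), (64, 1), (65, 1), (66, 1)],
  [(0, 2), (1, 1), (2, 1), (3, 1), (4, 1), (5, 3), (33, 1), (34, 3), (35, 2), (37, 2), (38, 1), (40, 3), (42, 3), (43, 2), (44, 2), (45, 1), (46, 1), (47, 1), (48, 3), (49, 1), (50, 1), (51, 1), (62, 2), (63, 3), (64, 1), (65, 1), (66, 1)],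
  [(0, 2), (1, 1), (2, 1), (4, 1), (5, 2), (33, 3), (34, 1), (35, 2), (37, 1), (38, 2), (40, 2), (42, 2), (43, 3), (44, 3), (45, 1), (46, 1), (47, 1), (48, 3), (49, 1), (50, 1), (51, 1), (62, 2), (63, 3), (64, 1), (65, 1), (66, 1)],
  [(0, 1), (5, 1), (33, 2), (34, 2), (35, 3), (37, 3), (38, 3), (40, 1), (42, 1), (43, 1), (44, 1), (45, 2), (46, 2), (47, 2), (48, 2), (49, 3), (50, 3), (51, 3), (62, 1), (63, 2), (64, 3), (65, 3), (66, 3)],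
  [(0, 3), (1, 1), (2, 1), (5, 3), (32, 3), (33, 1), (34, 1), (35, 3), (36, 2), (37, 3), (38, 3), (39, 1), (40, 2), (41, 1), (42, 2), (43, 2), (44, 2), (45, 1), (46, 1), (47, 1), (48, 2), (49, 1), (50, 1), (51, 1), (62, 3), (63, 2), (64, 1), (65, 1), (66, 1)],
  [(0, 3), (1, 1), (2, 1), (4, 1), (5, 3), (33, 2), (34, 1), (35, 3), (37, 1), (38, 3), (40, 3), (42, 3), (43, 2), (44, 2), (45, 1), (46, 1), (47, 1), (48, 2), (49, 1), (50, 1), (51, 1), (62, 3), (63, 2), (64, 1), (65, 1), (66, 1)],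
  [(0, 3), (1, 1), (2, 1), (3, 1), (4, 1), (5, 2), (33, 1), (34, 2), (35, 3), (37, 3), (38, 1), (40, 2), (42, 2), (43, 3), (44, 3), (45, 1), (46, 1), (47, 1), (48, 2), (49, 1), (50, 1), (51, 1), (62, 3), (63, 2), (64, 1), (65, 1), (66, 1)],
  [(0, 1), (4, 2), (5, 1), (32, 1), (33, 2), (34, 2), (35, 1), (36, 1), (37, 2), (38, 2), (39, 3), (40, 1), (41, 2), (42, 3), (43, 3), (44, 3), (45, 3), (46, 2), (47, 2), (48, 1), (49, 3), (50, 2), (51, 2), (62, 1), (63, 1), (64, 3), (65, 2), (66, 2)],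
  [(0, 1), (5, 1), (33, 3), (34, 2), (35, 1), (37, 3), (38, 2), (40, 2), (42, 1), (43, 3), (44, 3), (45, 3), (46, 2), (47, 2), (48, 1), (49, 3), (50, 2), (51, 2), (62, 1), (63, 1), (64, 3), (65, 2), (66, 2)],
  [(0, 1), (3, 2), (4, 2), (5, 3), (32, 1), (33, 2), (34, 2), (35, 1), (36, 1), (37, 2), (38, 2), (39, 2), (40, 3), (41, 3), (42, 3), (43, 1), (44, 3), (45, 2), (46, 3), (47, 2), (48, 1), (49, 2), (50, 3), (51, 2), (62, 1), (63, 1), (64, 2), (65, 3), (66, 2)],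
  [(42, 3), (44, 2), (47, 1), (51, 1), (66, 1)],
  [(0, 1), (5, 1), (33, 2), (34, 3), (35, 1), (37, 2), (38, 3), (40, 3), (42, 3), (43, 2), (44, 1), (45, 2), (46, 3), (47, 2), (48, 1), (49, 2), (50, 3), (51, 2), (62, 1), (63, 1), (64, 2), (65, 3), (66, 2)],
  [(42, 2), (44, 3), (47, 1), (51, 1), (66, 1)],
  [(0, 3), (1, 1), (2, 1), (3, 1), (4, 1), (5, 2), (33, 1), (34, 1), (35, 2), (37, 1), (38, 1), (40, 3), (42, 2), (43, 2), (44, 2), (45, 1), (46, 3), (47, 3), (48, 3), (49, 2), (50, 1), (51, 1), (62, 3), (63, 3), (64, 2), (65, 1), (66, 1)],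
  [(0, 3), (1, 1), (2, 1), (4, 1), (5, 3), (33, 1), (34, 1), (35, 2), (37, 1), (38, 1), (40, 2), (42, 2), (43, 3), (44, 2), (45, 3), (46, 1), (47, 3), (48, 3), (49, 1), (50, 2), (51, 1), (62, 3), (63, 3), (64, 1), (65, 2), (66, 1)],
  [(42, 1), (44, 1), (47, 2), (51, 3), (66, 3)],
  [(0, 1), (5, 1), (33, 3), (34, 3), (35, 2), (37, 2), (38, 2), (40, 1), (42, 1), (43, 1), (44, 1), (45, 3), (46, 3), (47, 3), (48, 3), (49, 2), (50, 2), (51, 2), (62, 2), (63, 1), (64, 3), (65, 3), (66, 3)],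
  [(0, 2), (1, 1), (2, 1), (4, 1), (5, 2), (33, 1), (34, 1), (35, 3), (37, 1), (38, 1), (40, 3), (42, 2), (43, 2), (44, 2), (45, 2), (46, 1), (47, 1), (48, 2), (49, 1), (50, 3), (51, 3), (62, 3), (63, 3), (64, 2), (65, 1), (66, 1)],
  [(0, 2), (1, 1), (2, 1), (3, 1), (4, 1), (5, 3), (33, 1), (34, 1), (35, 3), (37, 1), (38, 1), (40, 2), (42, 2), (43, 3), (44, 2), (45, 1), (46, 2), (47, 1), (48, 2), (49, 3), (50, 1), (51, 3), (62, 3), (63, 3), (64, 1), (65, 2), (66, 1)],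
  [(42, 1), (44, 1), (47, 3), (51, 2), (66, 3)],
  [(52, 1), (53, 1), (54, 1), (55, 1), (56, 1), (57, 1), (58, 1), (67, 1), (68, 1), (69, 1)],
  [(52, 1), (54, 2), (55, 2), (56, 3), (59, 1), (60, 1), (67, 3), (70, 1), (71, 1)],
  [(52, 1), (53, 2), (55, 2), (57, 3), (59, 1), (61, 1), (68, 3), (70, 1), (72, 1)],
  [(55, 2), (58, 3), (60, 1), (61, 1), (69, 3), (71, 1), (72, 1)],
  [(52, 1), (53, 3), (57, 2), (58, 2), (59, 1), (60, 1), (67, 3), (73, 1), (74, 1)],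
  [(52, 1), (54, 3), (56, 2), (58, 2), (59, 1), (61, 1), (68, 3), (73, 1), (75, 1)],
  [(55, 3), (58, 2), (60, 1), (61, 1), (69, 3), (74, 1), (75, 1)],
  [(53, 1), (54, 1), (56, 1), (57, 1), (59, 1), (60, 2), (61, 2), (70, 3), (73, 3), (76, 1)],
  [(55, 1), (58, 1), (60, 3), (61, 2), (71, 3), (74, 3), (76, 1)],
  [(55, 1), (58, 1), (60, 2), (61, 3), (72, 3), (75, 3), (76, 1)],
  [(62, 2), (63, 3), (64, 1), (65, 1), (66, 1)],
  [(62, 3), (63, 2), (64, 1), (65, 1), (66, 1)],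
  [(62, 1), (63, 1), (64, 3), (65, 2), (66, 2)],
  [(62, 1), (63, 1), (64, 2), (65, 3), (66, 2)],
  [(66, 1)],
  [(67, 3), (68, 2), (69, 2), (70, 1), (71, 1), (73, 1), (74, 1)],
  [(67, 2), (68, 3), (69, 2), (70, 1), (72, 1), (73, 1), (75, 1)],
  [(69, 1), (71, 1), (72, 1), (74, 1), (75, 1)],
  [(67, 1), (68, 1), (70, 2), (71, 2), (72, 2), (73, 3), (76, 1)],
  [(69, 1), (72, 2), (74, 3), (76, 1)],
  [(69, 1), (71, 2), (75, 3), (76, 1)],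
  [(67, 1), (68, 1), (70, 3), (73, 2), (74, 2), (75, 2), (76, 1)],
  [(69, 1), (71, 3), (75, 2), (76, 1)],
  [(69, 1), (72, 3), (74, 2), (76, 1)],
  [(71, 1), (72, 1), (74, 1), (75, 1), (76, 1)],
  [(77, 1)]]

/-- An image of a generator. -/
def img8 : List (List (ℕ × ℕ)) := [
  [(0, 1), (1, 1), (32, 2), (33, 1), (34, 1), (35, 1), (36, 2), (37, 1), (38, 1), (39, 2), (40, 1), (41, 2), (42, 3), (43, 1), (44, 3), (45, 1), (46, 1), (47, 3), (48, 1), (49, 1), (50, 1), (51, 3)],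
  [(1, 1)],
  [(2, 1), (17, 1), (18, 3), (19, 3), (20, 3), (32, 2), (33, 1), (34, 1), (35, 1), (48, 1), (49, 1), (50, 1), (51, 3), (63, 2), (64, 2), (65, 2), (66, 1)],
  [(1, 1), (3, 1), (20, 3), (21, 3), (35, 1), (39, 2), (40, 1), (41, 2), (42, 3), (43, 1), (44, 3), (48, 1), (62, 2), (63, 2)],
  [(4, 1), (17, 1), (18, 3), (32, 2), (33, 1), (36, 2), (37, 1), (39, 2), (40, 1), (43, 1), (44, 3), (46, 1), (47, 3), (50, 1), (51, 3), (65, 2), (66, 1)],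
  [(1, 1), (5, 1), (18, 3), (19, 3), (20, 3), (21, 3), (33, 1), (34, 1), (35, 1), (37, 1), (38, 1), (40, 1), (43, 1), (45, 1), (46, 1), (48, 1), (49, 1), (50, 1), (62, 2), (63, 2), (64, 2), (65, 2)],
  [(6, 1)],
  [(8, 1), (9, 1), (10, 3), (11, 1), (12, 1), (13, 3), (22, 2), (23, 2), (24, 1)],
  [(7, 1), (9, 1), (10, 3), (11, 1), (14, 1), (15, 3), (22, 2), (25, 2), (26, 1)],
  [(7, 1), (8, 1), (10, 3), (12, 1), (14, 1), (16, 3), (23, 2), (25, 2), (27, 1)],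
  [(7, 2), (8, 2), (9, 2), (13, 1), (15, 1), (16, 1), (24, 2), (26, 2), (27, 2)],
  [(7, 1), (8, 1), (12, 1), (13, 3), (14, 1), (15, 3), (22, 2), (28, 2), (29, 1)],
  [(7, 1), (9, 1), (11, 1), (13, 3), (14, 1), (16, 3), (23, 2), (28, 2), (30, 1)],
  [(7, 2), (10, 1), (11, 2), (12, 2), (15, 1), (16, 1), (24, 2), (29, 2), (30, 2)],
  [(8, 1), (9, 1), (11, 1), (12, 1), (15, 3), (16, 3), (25, 2), (28, 2), (31, 1)],
  [(8, 2), (10, 1), (11, 2), (13, 1), (14, 2), (16, 1), (26, 2), (29, 2), (31, 2)],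
  [(9, 2), (10, 1), (12, 2), (13, 1), (14, 2), (15, 1), (27, 2), (30, 2), (31, 2)],
  [(0, 1), (5, 1), (33, 1), (34, 1), (35, 1), (37, 1), (38, 1), (40, 1), (42, 3), (43, 1), (44, 3), (45, 1), (46, 1), (47, 3), (48, 1), (49, 1), (50, 1), (51, 3), (62, 2), (63, 2), (64, 2), (65, 2), (66, 1)],
  [(0, 2), (4, 2), (5, 2), (32, 3), (34, 2), (35, 2), (36, 3), (38, 2), (39, 3), (41, 3), (43, 2), (44, 1), (45, 2), (46, 2), (47, 1), (48, 2), (49, 2), (50, 2), (51, 1), (62, 3), (63, 3), (64, 3), (65, 3), (66, 2)],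
  [(0, 2), (3, 2), (4, 2), (32, 3), (33, 2), (35, 2), (36, 3), (37, 2), (39, 3), (40, 2), (41, 3), (42, 1), (45, 2), (46, 2), (47, 1), (48, 2), (49, 2), (50, 2), (51, 1), (62, 3), (63, 3), (64, 3), (65, 3), (66, 2)],
  [(0, 2), (1, 2), (2, 2), (3, 2), (32, 3), (33, 2), (34, 2), (36, 3), (37, 2), (38, 2), (39, 3), (40, 2), (41, 3), (42, 1), (43, 2), (44, 1), (48, 2), (49, 2), (50, 2), (51, 1), (62, 3), (63, 3), (64, 3), (65, 3), (66, 2)],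
  [(1, 2), (2, 2), (32, 3), (33, 2), (34, 2), (35, 2), (36, 3), (37, 2), (38, 2), (39, 3), (40, 2), (41, 3), (42, 1), (43, 2), (44, 1), (45, 2), (46, 2), (47, 1), (62, 3), (63, 3), (64, 3), (65, 3), (66, 2)],
  [(7, 3), (8, 3), (11, 3), (23, 1), (24, 3), (25, 1), (26, 3), (28, 1), (29, 3)],
  [(7, 3), (9, 3), (12, 3), (22, 1), (24, 3), (25, 1), (27, 3), (28, 1), (30, 3)],
  [(7, 1), (10, 3), (13, 3), (22, 2), (23, 2), (26, 1), (27, 1), (29, 1), (30, 1)],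
  [(8, 3), (9, 3), (14, 3), (22, 1), (23, 1), (26, 3), (27, 3), (28, 1), (31, 3)],
  [(8, 1), (10, 3), (15, 3), (22, 2), (24, 1), (25, 2), (27, 1), (29, 1), (31, 1)],
  [(9, 1), (10, 3), (16, 3), (23, 2), (24, 1), (25, 2), (26, 1), (30, 1), (31, 1)],
  [(11, 3), (12, 3), (14, 3), (22, 1), (23, 1), (25, 1), (29, 3), (30, 3), (31, 3)],
  [(11, 1), (13, 3), (15, 3), (22, 2), (24, 1), (26, 1), (28, 2), (30, 1), (31, 1)],
  [(12, 1), (13, 3), (16, 3), (23, 2), (24, 1), (27, 1), (28, 2), (29, 1), (31, 1)],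
  [(14, 1), (15, 3), (16, 3), (25, 2), (26, 1), (27, 1), (28, 2), (29, 1), (30, 1)],
  [(0, 3), (2, 3), (5, 3), (18, 2), (19, 2), (20, 2), (21, 2), (37, 3), (38, 3), (40, 3), (42, 2), (43, 3), (44, 2), (45, 3), (46, 3), (47, 2), (48, 3), (49, 3), (50, 3), (51, 2), (63, 1), (64, 1), (65, 1), (66, 3)],
  [(0, 1), (2, 1), (4, 1), (5, 1), (17, 1), (19, 3), (20, 3), (21, 3), (36, 2), (38, 1), (39, 2), (41, 2), (43, 1), (44, 3), (45, 1), (46, 1), (47, 3), (48, 1), (49, 1), (50, 1), (51, 3), (63, 2), (64, 2), (65, 2), (66, 1)],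
  [(0, 1), (2, 1), (3, 1), (4, 1), (17, 1), (18, 3), (20, 3), (21, 3), (36, 2), (37, 1), (39, 2), (40, 1), (41, 2), (42, 3), (45, 1), (46, 1), (47, 3), (48, 1), (49, 1), (50, 1), (51, 3), (63, 2), (64, 2), (65, 2), (66, 1)],
  [(0, 1), (1, 1), (3, 1), (17, 1), (18, 3), (19, 3), (21, 3), (36, 2), (37, 1), (38, 1), (39, 2), (40, 1), (41, 2), (42, 3), (43, 1), (44, 3), (48, 1), (49, 1), (50, 1), (51, 3), (63, 2), (64, 2), (65, 2), (66, 1)],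
  [(2, 3), (3, 3), (5, 3), (18, 2), (19, 2), (20, 2), (21, 2), (33, 3), (34, 3), (35, 3), (40, 3), (42, 2), (43, 3), (44, 2), (45, 3), (46, 3), (47, 2), (49, 3), (50, 3), (51, 2), (62, 1), (64, 1), (65, 1), (66, 3)],
  [(2, 1), (3, 1), (4, 1), (5, 1), (17, 1), (19, 3), (20, 3), (21, 3), (32, 2), (34, 1), (35, 1), (39, 2), (41, 2), (43, 1), (44, 3), (45, 1), (46, 1), (47, 3), (49, 1), (50, 1), (51, 3), (62, 2), (64, 2), (65, 2), (66, 1)],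
  [(2, 1), (4, 1), (17, 1), (18, 3), (20, 3), (21, 3), (32, 2), (33, 1), (35, 1), (39, 2), (40, 1), (41, 2), (42, 3), (45, 1), (46, 1), (47, 3), (49, 1), (50, 1), (51, 3), (62, 2), (64, 2), (65, 2), (66, 1)],
  [(1, 3), (3, 3), (4, 3), (5, 3), (18, 2), (19, 2), (20, 2), (21, 2), (33, 3), (34, 3), (35, 3), (37, 3), (38, 3), (42, 2), (43, 3), (44, 2), (46, 3), (47, 2), (48, 3), (50, 3), (51, 2), (62, 1), (63, 1), (65, 1), (66, 3)],
  [(1, 1), (3, 1), (5, 1), (17, 1), (19, 3), (20, 3), (21, 3), (32, 2), (34, 1), (35, 1), (36, 2), (38, 1), (41, 2), (43, 1), (44, 3), (46, 1), (47, 3), (48, 1), (50, 1), (51, 3), (62, 2), (63, 2), (65, 2), (66, 1)],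
  [(1, 3), (4, 3), (18, 2), (19, 2), (20, 2), (21, 2), (33, 3), (34, 3), (35, 3), (37, 3), (38, 3), (40, 3), (42, 2), (44, 2), (45, 3), (47, 2), (48, 3), (49, 3), (51, 2), (62, 1), (63, 1), (64, 1), (66, 3)],
  [(1, 2), (4, 2), (17, 2), (19, 1), (20, 1), (21, 1), (32, 3), (34, 2), (35, 2), (36, 3), (38, 2), (39, 3), (41, 3), (43, 2), (45, 2), (46, 2), (48, 2), (49, 2), (50, 2), (62, 3), (63, 3), (64, 3), (65, 3)],
  [(1, 1), (3, 1), (5, 1), (17, 1), (18, 3), (20, 3), (21, 3), (32, 2), (33, 1), (35, 1), (36, 2), (37, 1), (39, 2), (40, 1), (42, 3), (45, 1), (47, 3), (48, 1), (49, 1), (51, 3), (62, 2), (63, 2), (64, 2), (66, 1)],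
  [(1, 2), (3, 2), (4, 2), (5, 2), (17, 2), (18, 1), (20, 1), (21, 1), (32, 3), (33, 2), (35, 2), (36, 3), (37, 2), (39, 3), (40, 2), (41, 3), (45, 2), (46, 2), (48, 2), (49, 2), (50, 2), (62, 3), (63, 3), (64, 3), (65, 3)],
  [(2, 1), (4, 1), (17, 1), (18, 3), (19, 3), (21, 3), (32, 2), (33, 1), (34, 1), (36, 2), (37, 1), (38, 1), (41, 2), (42, 3), (43, 1), (44, 3), (48, 1), (50, 1), (51, 3), (62, 2), (63, 2), (65, 2), (66, 1)],
  [(2, 1), (3, 1), (4, 1), (5, 1), (17, 1), (18, 3), (19, 3), (21, 3), (32, 2), (33, 1), (34, 1), (36, 2), (37, 1), (38, 1), (39, 2), (40, 1), (42, 3), (44, 3), (48, 1), (49, 1), (51, 3), (62, 2), (63, 2), (64, 2), (66, 1)],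
  [(2, 2), (3, 2), (5, 2), (17, 2), (18, 1), (19, 1), (21, 1), (32, 3), (33, 2), (34, 2), (36, 3), (37, 2), (38, 2), (39, 3), (40, 2), (41, 3), (43, 2), (48, 2), (49, 2), (50, 2), (62, 3), (63, 3), (64, 3), (65, 3)],
  [(0, 1), (1, 1), (3, 1), (17, 1), (18, 3), (19, 3), (20, 3), (32, 2), (33, 1), (34, 1), (35, 1), (39, 2), (40, 1), (41, 2), (42, 3), (43, 1), (44, 3), (45, 1), (46, 1), (47, 3), (62, 2), (64, 2), (65, 2), (66, 1)],
  [(0, 1), (2, 1), (3, 1), (4, 1), (17, 1), (18, 3), (19, 3), (20, 3), (32, 2), (33, 1), (34, 1), (35, 1), (36, 2), (37, 1), (38, 1), (41, 2), (42, 3), (43, 1), (44, 3), (46, 1), (47, 3), (62, 2), (63, 2), (65, 2), (66, 1)],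
  [(0, 1), (2, 1), (4, 1), (5, 1), (17, 1), (18, 3), (19, 3), (20, 3), (32, 2), (33, 1), (34, 1), (35, 1), (36, 2), (37, 1), (38, 1), (39, 2), (40, 1), (42, 3), (44, 3), (45, 1), (47, 3), (62, 2), (63, 2), (64, 2), (66, 1)],
  [(0, 2), (2, 2), (5, 2), (17, 2), (18, 1), (19, 1), (20, 1), (32, 3), (33, 2), (34, 2), (35, 2), (36, 3), (37, 2), (38, 2), (39, 3), (40, 2), (41, 3), (43, 2), (45, 2), (46, 2), (62, 3), (63, 3), (64, 3), (65, 3)],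
  [(53, 1), (54, 1), (55, 3), (56, 1), (57, 1), (58, 3), (67, 2), (68, 2), (69, 1)],
  [(52, 1), (54, 1), (55, 3), (56, 1), (59, 1), (60, 3), (67, 2), (70, 2), (71, 1)],
  [(52, 1), (53, 1), (55, 3), (57, 1), (59, 1), (61, 3), (68, 2), (70, 2), (72, 1)],
  [(52, 2), (53, 2), (54, 2), (58, 1), (60, 1), (61, 1), (69, 2), (71, 2), (72, 2)],
  [(52, 1), (53, 1), (57, 1), (58, 3), (59, 1), (60, 3), (67, 2), (73, 2), (74, 1)],
  [(52, 1), (54, 1), (56, 1), (58, 3), (59, 1), (61, 3), (68, 2), (73, 2), (75, 1)],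
  [(52, 2), (55, 1), (56, 2), (57, 2), (60, 1), (61, 1), (69, 2), (74, 2), (75, 2)],
  [(53, 1), (54, 1), (56, 1), (57, 1), (60, 3), (61, 3), (70, 2), (73, 2), (76, 1)],
  [(53, 2), (55, 1), (56, 2), (58, 1), (59, 2), (61, 1), (71, 2), (74, 2), (76, 2)],
  [(54, 2), (55, 1), (57, 2), (58, 1), (59, 2), (60, 1), (72, 2), (75, 2), (76, 2)],
  [(1, 3), (2, 3), (17, 3), (18, 2), (19, 2), (20, 2), (21, 2), (36, 1), (37, 3), (38, 3), (39, 1), (40, 3), (41, 1), (42, 2), (43, 3), (44, 2), (45, 3), (46, 3), (47, 2), (48, 3), (49, 3), (50, 3), (51, 2)],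
  [(0, 3), (1, 3), (2, 3), (3, 3), (17, 3), (18, 2), (19, 2), (20, 2), (21, 2), (32, 1), (33, 3), (34, 3), (35, 3), (39, 1), (40, 3), (41, 1), (42, 2), (43, 3), (44, 2), (45, 3), (46, 3), (47, 2), (49, 3), (50, 3), (51, 2)],
  [(0, 3), (3, 3), (4, 3), (17, 3), (18, 2), (19, 2), (20, 2), (21, 2), (32, 1), (33, 3), (34, 3), (35, 3), (36, 1), (37, 3), (38, 3), (41, 1), (42, 2), (43, 3), (44, 2), (46, 3), (47, 2), (48, 3), (50, 3), (51, 2)],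
  [(0, 3), (4, 3), (5, 3), (17, 3), (18, 2), (19, 2), (20, 2), (21, 2), (32, 1), (33, 3), (34, 3), (35, 3), (36, 1), (37, 3), (38, 3), (39, 1), (40, 3), (42, 2), (44, 2), (45, 3), (47, 2), (48, 3), (49, 3), (51, 2)],
  [(0, 1), (5, 1), (17, 1), (18, 3), (19, 3), (20, 3), (21, 3), (32, 2), (33, 1), (34, 1), (35, 1), (36, 2), (37, 1), (38, 1), (39, 2), (40, 1), (41, 2), (43, 1), (45, 1), (46, 1), (48, 1), (49, 1), (50, 1)],
  [(52, 3), (53, 3), (56, 3), (68, 1), (69, 3), (70, 1), (71, 3), (73, 1), (74, 3)],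
  [(52, 3), (54, 3), (57, 3), (67, 1), (69, 3), (70, 1), (72, 3), (73, 1), (75, 3)],
  [(52, 1), (55, 3), (58, 3), (67, 2), (68, 2), (71, 1), (72, 1), (74, 1), (75, 1)],
  [(53, 3), (54, 3), (59, 3), (67, 1), (68, 1), (71, 3), (72, 3), (73, 1), (76, 3)],
  [(53, 1), (55, 3), (60, 3), (67, 2), (69, 1), (70, 2), (72, 1), (74, 1), (76, 1)],
  [(54, 1), (55, 3), (61, 3), (68, 2), (69, 1), (70, 2), (71, 1), (75, 1), (76, 1)],
  [(56, 3), (57, 3), (59, 3), (67, 1), (68, 1), (70, 1), (74, 3), (75, 3), (76, 3)],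
  [(56, 1), (58, 3), (60, 3), (67, 2), (69, 1), (71, 1), (73, 2), (75, 1), (76, 1)],
  [(57, 1), (58, 3), (61, 3), (68, 2), (69, 1), (72, 1), (73, 2), (74, 1), (76, 1)],
  [(59, 1), (60, 3), (61, 3), (70, 2), (71, 1), (72, 1), (73, 2), (74, 1), (75, 1)],
  [(77, 1)]]

/-- The images of the generators. -/
def imgList : List (List (List (ℕ × ℕ))) := [img0, img1, img2, img3, img4, img5, img6, img7, img8]

/-- The images as words in the generators of the twisted group. -/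
def twList : List (List ℕ) := [[8, 0, 9, 1, 13, 5, 9, 1, 10, 2, 13, 5, 9, 1, 0, 1, 9, 5, 13, 2, 10, 1, 9, 5, 13, 1, 9, 0, 8], [0, 8, 1, 9, 5, 13, 2, 10, 1, 9, 5, 13, 0, 8, 1, 9, 5, 13, 2, 10, 0, 8, 10, 2, 13, 5, 9, 1, 0, 1, 9, 5, 13, 2, 10, 8, 0, 10, 2, 13, 5, 9, 1, 8, 0, 13, 5, 9, 1, 10, 2, 13, 5, 9, 1, 8, 0], [10, 15, 1, 9, 14, 11, 8, 9, 5, 13, 9, 0, 9, 1, 13, 5, 9, 1, 10, 2, 13, 5, 9, 1, 0, 1, 9, 5, 13, 2, 10, 1, 9, 5, 13, 1, 9, 0, 9, 13, 5, 9, 8, 11, 14, 9, 1, 15, 10], [12, 14, 1, 9, 5, 13, 2, 10, 0, 8, 10, 2, 13, 5, 9, 1, 0, 1, 9, 5, 13, 2, 10, 8, 0, 10, 2, 13, 5, 9, 1, 14, 12], [13, 1, 9, 13, 2, 10, 0, 8, 10, 2, 13, 5, 9, 1, 0, 1, 9, 5, 13, 2, 10, 8, 0, 10, 2, 13, 9, 1, 13], [10, 13, 1, 9, 14, 10, 0, 8, 10, 2, 13, 5, 9, 1, 0, 1, 9, 5, 13, 2, 10, 8, 0, 10, 14, 9, 1, 13, 10], [12, 9, 15, 9, 13, 11, 0, 8, 10, 2, 13, 5, 9, 1, 0, 1, 9, 5, 13, 2, 10, 8, 0, 11, 13, 9,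 15, 9, 12], [10, 13, 1, 9, 14, 2, 10, 0, 8, 10, 2, 13, 5, 9, 1, 0, 1, 9, 5, 13, 2, 10, 8, 0, 10, 2, 14, 9, 1, 13, 10], [11, 7, 15, 9, 13, 10, 0, 8, 10, 2, 13, 5, 9, 1, 0, 1, 9, 5, 13, 2, 10, 8, 0, 10, 13, 9, 15, 7, 11]]

/-- A word. -/
def cw1 : List ℕ := [3, 6, 8, 2, 1, 8, 5, 4, 4, 8, 8, 7]

/-- A word. -/
def cw2 : List ℕ := [4, 3, 7, 1, 2, 3, 1, 5, 1]

/-- A singular element of the enveloping algebra. -/
def eMat : List (List (ℕ × ℕ)) := [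
  [(1, 2), (2, 3), (3, 3), (4, 1), (5, 2), (6, 1), (7, 1), (9, 2), (11, 2), (12, 1), (13, 3), (14, 1), (15, 3), (16, 1), (18, 1), (19, 3), (20, 3), (21, 3), (25, 3), (29, 2), (30, 3), (32, 1), (33, 1), (34, 1), (35, 3), (36, 3), (38, 1), (39, 3), (40, 1), (41, 3), (43, 3), (45, 2), (46, 2), (49, 2), (50, 2), (52, 2), (53, 3), (54, 1), (57, 1), (58, 3), (59, 1), (61, 3), (62, 3), (63, 1), (65, 3), (67, 2), (68, 1), (70, 1), (71, 2), (72, 1), (73, 1), (74, 1), (75, 1), (76, 2), (77, 2)],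
  [(1, 1), (7, 3), (8, 1), (9, 2), (10, 1), (12, 1), (13, 2), (14, 1), (15, 2), (22, 1), (23, 3), (24, 1), (26, 3), (28, 1), (29, 2), (30, 3), (31, 3), (52, 1), (53, 1), (54, 1), (55, 1), (56, 1), (57, 1), (58, 2), (59, 1), (60, 1), (61, 2), (67, 1), (68, 3), (69, 1), (70, 1), (71, 1), (72, 1), (73, 3), (74, 1), (75, 1), (76, 1)],
  [(0, 1), (1, 3), (2, 3), (4, 2), (5, 1), (6, 2), (8, 1), (9, 2), (10, 3), (11, 3), (12, 2), (13, 3), (14, 2), (15, 2), (16, 2), (17, 3), (18, 1), (19, 1), (21, 3), (24, 1), (25, 1), (26, 3), (28, 2), (29, 3), (30, 3), (32, 1), (33, 3), (34, 1), (35, 3), (36, 3), (37, 3), (38, 1), (39, 2), (40, 1), (41, 3), (42, 1), (43, 1), (44, 1), (45, 3), (48, 3), (49, 2), (50, 3), (51, 3), (53, 2), (55, 3), (56, 3), (57, 3), (58, 1), (59, 3), (60, 2), (61, 1), (62, 1), (63, 2), (64, 2), (65, 3), (67, 2), (69, 3), (70, 2), (71, 3), (72, 3), (73, 2), (74,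 2), (75, 3), (76, 2), (77, 2)],
  [(0, 3), (1, 3), (3, 2), (4, 2), (8, 1), (9, 2), (10, 2), (11, 1), (12, 2), (13, 2), (14, 2), (18, 2), (19, 3), (20, 3), (21, 3), (22, 2), (23, 3), (24, 2), (25, 2), (27, 3), (29, 1), (30, 1), (31, 3), (32, 3), (33, 1), (35, 1), (36, 2), (39, 1), (41, 1), (42, 1), (43, 2), (44, 2), (45, 2), (47, 1), (48, 1), (51, 3), (52, 2), (53, 1), (56, 3), (58, 2), (60, 2), (61, 2), (63, 1), (64, 3), (65, 1), (66, 2), (68, 3), (71, 2), (72, 1), (73, 2), (74, 3), (75, 3), (76, 3), (77, 3)],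
  [(0, 3), (1, 2), (2, 3), (3, 1), (5, 2), (6, 3), (8, 2), (9, 2), (10, 1), (11, 2), (12, 1), (14, 1), (15, 2), (16, 3), (17, 2), (18, 1), (19, 2), (20, 3), (21, 2), (22, 2), (23, 3), (25, 3), (26, 2), (29, 3), (30, 2), (31, 1), (32, 2), (33, 3), (34, 1), (35, 2), (36, 2), (38, 2), (39, 3), (40, 3), (41, 2), (43, 2), (46, 3), (48, 2), (49, 3), (50, 2), (53, 3), (54, 2), (55, 3), (57, 2), (59, 2), (60, 3), (61, 3), (63, 2), (64, 3), (65, 2), (66, 1), (67, 2), (68, 1), (69, 2), (70, 3), (71, 2), (72, 3), (73, 1), (74, 2), (75, 2), (76, 3), (77, 3)],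
  [(0, 2), (2, 3), (3, 3), (4, 3), (6, 1), (7, 3), (8, 3), (10, 1), (11, 3), (12, 1), (13, 2), (14, 1), (15, 1), (16, 3), (17, 1), (18, 3), (19, 3), (20, 1), (21, 1), (23, 2), (25, 2), (27, 3), (28, 1), (30, 2), (33, 3), (34, 1), (35, 3), (36, 3), (37, 3), (40, 1), (42, 1), (43, 2), (44, 3), (45, 2), (46, 2), (48, 1), (49, 2), (50, 2), (51, 1), (52, 2), (53, 2), (54, 2), (55, 3), (56, 2), (57, 1), (58, 1), (59, 1), (60, 3), (68, 2), (70, 3), (71, 2), (72, 2), (73, 3), (74, 3), (76, 2), (77, 2)],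
  [(0, 3), (1, 3), (2, 2), (3, 2), (4, 2), (5, 1), (6, 3), (17, 2), (18, 3), (19, 2), (20, 1), (21, 1), (32, 1), (33, 2), (34, 1), (35, 3), (36, 2), (37, 3), (38, 2), (39, 3), (40, 1), (41, 3), (43, 3), (45, 2), (46, 2), (48, 1), (49, 2), (50, 2), (52, 2), (54, 3), (56, 1), (60, 3), (61, 2), (70, 1), (71, 2), (72, 1), (73, 2), (74, 3), (75, 2), (76, 2), (77, 3)],
  [(0, 3), (1, 3), (2, 2), (3, 2), (4, 2), (5, 1), (6, 1), (7, 3), (8, 1), (9, 2), (10, 2), (11, 3), (12, 1), (13, 1), (17, 2), (18, 3), (19, 2), (20, 1), (21, 1), (22, 3), (23, 1), (24, 1), (32, 1), (33, 2), (34, 1), (35, 3), (36, 2), (37, 3), (38, 2), (39, 3), (40, 1), (41, 3), (43, 3), (45, 2), (46, 2), (48, 1), (49, 2), (50, 2), (52, 1), (53, 1), (54, 2), (55, 2), (56, 3), (57, 1), (58, 1), (59, 2), (60, 3), (61, 2), (67, 3), (68, 1), (69, 1), (70, 1), (71, 2), (72, 1), (73, 2), (74, 3), (75, 2), (76, 2),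 (77, 1)],
  [(0, 1), (1, 1), (2, 2), (4, 2), (5, 3), (6, 1), (7, 2), (8, 3), (9, 2), (10, 2), (12, 1), (13, 2), (14, 3), (16, 2), (17, 2), (19, 1), (21, 3), (22, 3), (23, 3), (24, 1), (28, 3), (30, 1), (33, 2), (34, 2), (35, 3), (36, 3), (37, 2), (40, 1), (41, 1), (45, 2), (46, 2), (49, 2), (53, 3), (54, 3), (55, 3), (56, 3), (57, 3), (58, 3), (59, 1), (60, 3), (61, 1), (69, 3), (70, 1), (71, 2), (72, 1), (73, 2), (74, 3), (75, 1), (76, 2), (77, 1)],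
  [(0, 3), (1, 2), (2, 1), (4, 1), (5, 2), (6, 2), (7, 1), (8, 3), (9, 2), (10, 1), (12, 2), (13, 1), (16, 2), (17, 3), (18, 3), (19, 1), (20, 1), (21, 3), (22, 2), (23, 1), (24, 3), (28, 3), (30, 1), (33, 1), (34, 1), (35, 2), (36, 2), (37, 1), (40, 3), (41, 3), (45, 1), (46, 1), (49, 1), (54, 1), (55, 3), (56, 1), (59, 3), (60, 2), (61, 1), (68, 3), (69, 2), (70, 3), (71, 1), (72, 3), (74, 2), (75, 1), (76, 1), (77, 2)],
  [(1, 1), (2, 1), (4, 1), (5, 1), (6, 1), (10, 3), (11, 1), (12, 1), (13, 2), (14, 2), (15, 2), (16, 2), (17, 3), (18, 3), (19, 1), (20, 1), (21, 3), (23, 1), (24, 3), (28, 2), (29, 1), (30, 1), (32, 1), (33, 3), (35, 1), (36, 3), (37, 3), (38, 1), (39, 3), (40, 2), (41, 1), (43, 2), (45, 3), (48, 3), (49, 3), (50, 1), (52, 1), (53, 1), (54, 3), (55, 2), (56, 2), (57, 1), (58, 2), (59, 3), (60, 3), (61, 3), (67, 1), (70, 3), (71, 3), (72, 1), (73,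 2), (76, 3), (77, 1)],
  [(0, 2), (1, 3), (2, 3), (4, 3), (5, 1), (6, 3), (7, 3), (8, 2), (9, 3), (10, 3), (11, 3), (12, 3), (13, 1), (14, 2), (16, 2), (17, 1), (19, 2), (21, 1), (22, 1), (23, 1), (24, 2), (28, 3), (30, 1), (32, 1), (33, 3), (34, 3), (35, 1), (36, 3), (37, 3), (39, 3), (40, 2), (41, 1), (45, 3), (46, 3), (49, 3), (53, 3), (55, 1), (56, 2), (57, 1), (58, 3), (59, 3), (60, 1), (61, 3), (67, 3), (68, 2), (69, 1), (70, 2), (71, 3), (72, 2), (73, 2), (74, 1), (75, 1), (76, 3), (77, 3)],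
  [(0, 2), (1, 3), (3, 2), (5, 2), (6, 1), (7, 3), (9, 2), (12, 2), (13, 2), (14, 3), (16, 2), (17, 2), (18, 2), (20, 3), (23, 3), (28, 3), (30, 1), (32, 2), (34, 3), (37, 1), (38, 2), (39, 1), (43, 3), (48, 1), (50, 2), (52, 1), (53, 2), (54, 2), (55, 3), (57, 2), (59, 3), (61, 1), (67, 1), (68, 1), (69, 2), (73, 2), (75, 3), (77, 1)],
  [(0, 1), (2, 1), (3, 3), (4, 1), (6, 3), (7, 2), (8, 2), (9, 3), (10, 1), (11, 2), (14, 1), (15, 2), (16, 2), (17, 3), (19, 1), (21, 3), (22, 1), (24, 3), (28, 2), (29, 1), (30, 1), (32, 3), (33, 2), (34, 2), (35, 3), (36, 3), (38, 1), (39, 2), (40, 1), (41, 1), (43, 2), (45, 2), (46, 3), (48, 3), (49, 2), (50, 1), (53, 1), (54, 1), (56, 3), (58, 2), (59, 3), (60, 1), (61, 3), (67, 2), (68, 1), (69, 2), (70, 2), (71, 2), (73, 2), (74, 2), (76, 2), (77, 3)],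
  [(0, 3), (1, 2), (5, 1), (7, 2), (8, 3), (9, 3), (10, 2), (11, 3), (12, 3), (13, 2), (14, 2), (17, 2), (18, 3), (19, 3), (22, 3), (23, 3), (24, 1), (32, 1), (34, 3), (35, 3), (36, 1), (37, 1), (38, 2), (40, 1), (43, 1), (45, 2), (46, 2), (48, 3), (49, 2), (50, 2), (52, 2), (53, 1), (54, 2), (55, 3), (57, 3), (58, 3), (59, 2), (60, 3), (61, 3), (69, 3), (70, 1), (71, 2), (72, 1), (73, 1), (74, 3), (76, 2)],
  [(0, 1), (1, 2), (2, 3), (3, 1), (4, 1), (5, 3), (7, 3), (8, 2), (9, 3), (10, 3), (13, 1), (14, 1), (15, 3), (16, 1), (17, 3), (18, 3), (20, 1), (21, 3), (22, 2), (23, 3), (24, 2), (25, 1), (28, 1), (29, 3), (30, 3), (33, 1), (34, 2), (35, 2), (36, 2), (38, 2), (39, 3), (40, 2), (41, 1), (43, 1), (45, 3), (48, 2), (49, 3), (50, 1), (52, 2), (53, 3), (54, 3), (55, 1), (56, 3), (57, 3), (58, 3), (62, 1), (63, 2), (65, 1), (68, 1), (69, 1), (70, 3), (71, 3), (72, 2),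 (74, 2), (75, 3), (76, 3)],
  [(0, 1), (1, 2), (3, 2), (4, 1), (7, 2), (9, 3), (10, 3), (11, 3), (12, 3), (13, 1), (14, 3), (15, 1), (16, 3), (18, 1), (19, 1), (20, 1), (22, 1), (23, 2), (24, 2), (25, 3), (28, 3), (29, 3), (30, 3), (32, 3), (33, 3), (34, 3), (35, 3), (36, 1), (37, 2), (38, 3), (39, 1), (40, 3), (43, 3), (45, 1), (46, 3), (48, 1), (49, 1), (52, 3), (53, 3), (54, 1), (55, 3), (58, 3), (60, 3), (61, 1), (62, 3), (63, 1), (65, 3), (67, 1), (68, 2), (69, 3), (70, 1), (71, 1), (74, 1), (75, 2), (76, 1)],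
  [(0, 2), (1, 2), (2, 2), (4, 2), (5, 2), (7, 1), (8, 3), (9, 2), (10, 2), (11, 1), (12, 2), (13, 3), (14, 3), (16, 2), (17, 1), (18, 3), (21, 3), (22, 3), (23, 2), (24, 1), (28, 3), (30, 1), (32, 1), (33, 2), (34, 1), (36, 1), (37, 3), (38, 3), (41, 1), (43, 1), (48, 3), (50, 2), (52, 1), (53, 1), (54, 3), (55, 2), (56, 2), (58, 3), (59, 1), (61, 2), (67, 3), (68, 2), (69, 1), (73, 3), (75, 1)],
  [(0, 1), (1, 2), (2, 2), (3, 3), (4, 2), (5, 2), (7, 3), (8, 1), (9, 2), (10, 3), (12, 3), (13, 2), (14, 1), (15, 2), (16, 1), (17, 3), (19, 1), (20, 2), (23, 3), (24, 2), (25, 1), (28, 3), (29, 1), (30, 3), (32, 1), (33, 2), (34, 1), (35, 3), (36, 1), (41, 1), (43, 1), (46, 3), (48, 3), (50, 1), (52, 3), (53, 1), (54, 2), (55, 3), (56, 1), (58, 2), (59, 3), (60, 2), (61, 1), (62, 1), (63, 3), (65, 1), (67, 3), (68, 1), (69, 2), (73, 2), (74, 1), (75, 3)],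
  [(0, 2), (1, 2), (2, 1), (4, 2), (5, 2), (7, 1), (8, 1), (10, 3), (11, 1), (12, 3), (13, 1), (16, 3), (19, 1), (20, 1), (22, 2), (23, 3), (24, 2), (25, 3), (28, 3), (30, 2), (32, 1), (33, 2), (34, 1), (35, 1), (36, 3), (37, 1), (38, 1), (41, 1), (43, 1), (46, 1), (48, 3), (50, 1), (52, 1), (54, 3), (55, 3), (58, 1), (61, 3), (62, 3), (65, 3), (68, 2), (69, 2), (75, 2)],
  [(0, 2), (2, 3), (3, 2), (7, 3), (8, 1), (9, 1), (11, 3), (12, 1), (13, 1), (14, 2), (15, 3), (16, 3), (17, 3), (19, 3), (20, 2), (21, 3), (22, 2), (23, 2), (29, 2), (30, 2), (32, 1), (34, 3), (35, 3), (36, 1), (41, 1), (43, 3), (46, 3), (48, 1), (50, 1), (52, 1), (53, 3), (54, 3), (58, 1), (60, 3), (61, 3), (63, 2), (67, 2), (68, 2), (74, 2), (75, 2)],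
  [(0, 1), (1, 1), (4, 1), (5, 1), (8, 2), (9, 3), (11, 1), (12, 2), (13, 3), (14, 2), (15, 2), (16, 2), (17, 1), (18, 3), (20, 2), (21, 3), (22, 2), (23, 3), (25, 1), (28, 1), (29, 1), (30, 1), (33, 1), (34, 2), (35, 2), (36, 3), (37, 1), (38, 1), (43, 2), (46, 2), (48, 3), (52, 3), (53, 2), (54, 2), (58, 3), (60, 2), (61, 2), (62, 1), (65, 1), (67, 1), (68, 1), (74, 1), (75, 1)],
  [(0, 3), (1, 1), (2, 3), (4, 3), (6, 1), (7, 2), (9, 2), (11, 1), (12, 1), (13, 1), (14, 1), (16, 3), (17, 1), (18, 3), (19, 1), (20, 1), (21, 3), (22, 3), (23, 3), (24, 2), (25, 3), (27, 1), (28, 3), (30, 1), (32, 1), (33, 1), (34, 1), (35, 2), (36, 3), (38, 3), (39, 3), (40, 3), (41, 1), (43, 1), (45, 1), (46, 1), (48, 2), (50, 3), (52, 1), (53, 3), (54, 3), (55, 3), (57, 1), (58, 2), (59, 2), (60, 1), (61, 3), (68, 3), (69, 3), (71, 1), (72, 2), (74, 3), (75, 2), (76, 1), (77, 1)],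
  [(1, 3), (2, 3), (3, 1), (4, 3), (5, 3), (6, 2), (7, 2), (8, 3), (9, 1), (10, 1), (11, 1), (16, 3), (17, 1), (18, 1), (19, 1), (20, 2), (21, 3), (22, 1), (23, 1), (24, 2), (25, 3), (27, 1), (28, 3), (30, 1), (33, 2), (35, 3), (36, 3), (37, 2), (38, 3), (40, 1), (41, 1), (43, 1), (45, 2), (46, 2), (48, 2), (49, 1), (50, 3), (53, 2), (54, 2), (56, 3), (58, 3), (59, 2), (60, 2), (61, 3), (67, 2), (68, 3), (69, 1), (70, 2), (71, 2), (75, 2), (76, 2), (77, 2)],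
  [(0, 3), (2, 2), (4, 2), (5, 1), (7, 2), (8, 1), (9, 3), (10, 3), (11, 1), (14, 3), (15, 3), (16, 3), (18, 3), (20, 1), (22, 2), (24, 3), (25, 2), (26, 1), (27, 1), (28, 2), (29, 1), (30, 1), (32, 1), (34, 1), (37, 3), (39, 3), (46, 1), (49, 3), (53, 3), (55, 1), (59, 1), (60, 1), (61, 3), (69, 3), (71, 1), (72, 3), (73, 2), (74, 3), (75, 1), (76, 2)],
  [(0, 1), (1, 2), (2, 3), (3, 3), (4, 1), (5, 3), (7, 1), (8, 3), (9, 3), (12, 3), (13, 3), (14, 3), (15, 3), (16, 3), (17, 1), (19, 2), (20, 1), (21, 3), (22, 2), (23, 1), (24, 3), (25, 3), (27, 2), (28, 1), (30, 2), (32, 1), (33, 3), (35, 2), (37, 2), (38, 2), (39, 3), (40, 2), (41, 1), (42, 3), (43, 2), (44, 2), (45, 1), (46, 1), (48, 3), (50, 3), (51, 3), (52, 2), (54, 2), (55, 2), (57, 2), (58, 1), (60, 1), (68, 3), (69, 2), (70, 2), (71, 1), (72, 1), (73, 2), (74, 2), (75, 2), (76, 1)],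
  [(0, 2), (2, 2), (4, 2), (5, 2), (7, 1), (8, 1), (9, 3), (10, 3), (11, 2), (12, 3), (13, 1), (15, 3), (16, 3), (19, 1), (22, 2), (23, 2), (24, 2), (25, 2), (26, 3), (27, 1), (29, 2), (30, 1), (31, 3), (34, 3), (36, 3), (37, 1), (42, 3), (43, 1), (44, 2), (47, 1), (48, 3), (51, 2), (52, 3), (53, 1), (54, 3), (55, 2), (56, 2), (57, 1), (60, 3), (61, 2), (62, 1), (63, 2), (64, 3), (65, 2), (66, 2), (67, 1), (68, 1), (69, 2), (70, 2), (71, 3), (72, 3), (73, 3), (75, 3), (76, 1)],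
  [(0, 3), (2, 1), (4, 2), (6, 3), (7, 3), (8, 3), (9, 1), (10, 2), (11, 2), (12, 2), (13, 3), (14, 2), (15, 1), (16, 3), (18, 1), (19, 1), (20, 1), (22, 1), (24, 3), (25, 1), (26, 3), (28, 2), (29, 2), (30, 3), (32, 1), (33, 1), (36, 3), (39, 3), (40, 3), (42, 3), (43, 1), (44, 2), (46, 1), (47, 2), (48, 3), (49, 3), (51, 2), (52, 2), (53, 1), (54, 2), (55, 1), (58, 2), (60, 1), (61, 2), (62, 3), (63, 1), (64, 2), (65, 1), (66, 1), (68, 1), (69, 1), (70, 3), (75, 1), (76, 3), (77, 3)],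
  [(1, 2), (2, 3), (3, 2), (5, 3), (8, 2), (9, 1), (11, 3), (12, 1), (13, 1), (14, 1), (15, 1), (16, 1), (18, 1), (19, 3), (20, 3), (22, 2), (23, 1), (24, 3), (25, 1), (27, 2), (28, 3), (30, 2), (32, 3), (33, 1), (34, 2), (35, 1), (36, 3), (37, 1), (38, 1), (39, 3), (40, 1), (42, 1), (43, 3), (44, 3), (45, 3), (46, 3), (48, 1), (49, 1), (51, 1), (52, 3), (53, 3), (56, 1), (58, 1), (60, 3), (67, 2), (68, 3), (70, 3), (71, 3), (73, 1), (75, 1), (76, 3)],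
  [(1, 3), (2, 2), (4, 3), (5, 1), (6, 2), (7, 1), (8, 2), (9, 2), (10, 1), (11, 2), (12, 2), (13, 3), (14, 2), (15, 1), (16, 2), (18, 3), (19, 1), (20, 1), (23, 1), (26, 2), (30, 2), (31, 2), (32, 3), (33, 3), (35, 1), (36, 3), (39, 3), (42, 1), (43, 1), (44, 3), (46, 1), (47, 2), (48, 3), (49, 3), (51, 3), (52, 2), (55, 2), (56, 3), (60, 3), (62, 1), (63, 2), (64, 2), (65, 2), (66, 3), (67, 1), (68, 2), (69, 2), (71, 3), (72, 2), (73, 3), (76, 3), (77, 2)],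
  [(0, 2), (1, 2), (2, 3), (4, 1), (5, 2), (8, 3), (9, 2), (10, 2), (11, 2), (12, 2), (13, 1), (14, 2), (15, 2), (16, 2), (18, 1), (19, 1), (20, 1), (22, 1), (23, 3), (24, 3), (28, 2), (29, 3), (30, 2), (31, 3), (32, 3), (34, 2), (35, 2), (36, 3), (37, 2), (39, 3), (40, 2), (42, 1), (43, 1), (44, 3), (46, 1), (47, 3), (48, 3), (49, 3), (51, 3), (52, 2), (53, 3), (55, 3), (58, 2), (60, 3), (62, 3), (63, 1), (64, 1), (65, 1), (66, 2), (67, 2), (68, 2), (69, 3), (70, 3), (71, 2), (72, 3), (74, 2), (75, 2), (76, 3)],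
  [(0, 2), (1, 3), (2, 3), (4, 1), (5, 2), (6, 1), (7, 3), (9, 2), (10, 3), (11, 2), (12, 2), (13, 1), (14, 2), (15, 2), (16, 2), (18, 1), (19, 1), (20, 1), (22, 3), (23, 1), (24, 3), (25, 2), (26, 3), (27, 3), (28, 2), (29, 3), (30, 3), (31, 2), (32, 3), (33, 2), (34, 1), (35, 1), (36, 3), (37, 3), (39, 3), (40, 3), (42, 2), (43, 1), (44, 1), (46, 1), (47, 1), (48, 3), (49, 3), (51, 3), (52, 3), (53, 2), (55, 1), (58, 3), (60, 2), (62, 2), (63, 3), (64, 3), (65, 1), (66, 2), (67, 1), (68, 3), (69, 1), (70, 2), (71, 1), (72, 1), (74, 1), (75, 3), (76, 2), (77, 1)],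
  [(0, 2), (1, 2), (2, 2), (4, 3), (5, 2), (7, 2), (8, 1), (9, 2), (10, 3), (11, 3), (12, 1), (13, 3), (15, 3), (17, 3), (18, 3), (21, 3), (22, 2), (23, 3), (24, 3), (25, 3), (27, 1), (28, 1), (30, 2), (32, 2), (33, 2), (34, 3), (37, 3), (38, 1), (39, 1), (40, 1), (41, 1), (42, 3), (43, 3), (44, 3), (48, 3), (49, 1), (50, 3), (51, 3), (52, 2), (53, 1), (54, 1), (55, 2), (56, 3), (58, 1), (59, 2), (61, 3), (67, 2), (68, 3), (69, 3), (70, 3), (72, 1), (73, 1), (75, 2)],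
  [(0, 3), (1, 2), (2, 3), (3, 2), (4, 2), (5, 1), (6, 1), (7, 1), (9, 2), (10, 1), (11, 3), (12, 3), (13, 2), (15, 2), (16, 1), (17, 3), (18, 2), (19, 1), (20, 2), (22, 1), (24, 2), (25, 3), (27, 1), (28, 3), (29, 2), (31, 3), (33, 1), (34, 2), (37, 1), (38, 3), (39, 1), (40, 3), (41, 1), (45, 3), (46, 3), (47, 3), (48, 1), (50, 3), (51, 3), (52, 1), (54, 2), (55, 1), (56, 3), (57, 1), (58, 1), (60, 2), (62, 3), (63, 1), (65, 3), (66, 3), (67, 1), (68, 1), (70, 3), (72, 2), (74, 3), (76, 1), (77, 1)],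
  [(1, 2), (3, 2), (5, 2), (6, 1), (7, 1), (8, 1), (10, 1), (11, 1), (12, 3), (13, 3), (15, 3), (16, 2), (19, 3), (20, 1), (22, 1), (23, 2), (24, 1), (25, 1), (26, 1), (27, 1), (28, 1), (29, 2), (30, 2), (32, 3), (33, 1), (34, 2), (35, 2), (36, 1), (37, 2), (41, 3), (42, 1), (43, 1), (44, 1), (45, 2), (48, 1), (50, 3), (51, 3), (52, 1), (53, 1), (54, 2), (55, 2), (56, 1), (57, 1), (59, 1), (60, 1), (61, 3), (62, 1), (63, 2), (64, 1), (67, 1), (68, 1), (70, 1), (71, 1), (72, 3), (73, 3), (74, 1), (75, 2), (76, 1), (77, 1)],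
  [(0, 3), (1, 3), (2, 3), (3, 2), (4, 1), (5, 1), (6, 3), (8, 1), (9, 2), (10, 1), (11, 2), (13, 2), (14, 3), (15, 1), (16, 2), (17, 3), (19, 3), (21, 3), (22, 2), (23, 1), (24, 2), (25, 3), (26, 1), (27, 1), (28, 2), (31, 3), (34, 1), (38, 2), (39, 1), (41, 1), (46, 2), (47, 2), (49, 1), (50, 1), (51, 1), (52, 2), (53, 1), (54, 2), (56, 3), (57, 3), (58, 3), (59, 3), (60, 2), (62, 3), (63, 1), (64, 1), (65, 2), (66, 2), (67, 2), (68, 1), (69, 2), (70, 3), (71, 1), (72, 1), (73, 2), (76, 3), (77, 3)],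
  [(0, 2), (1, 2), (2, 2), (3, 1), (4, 2), (5, 3), (7, 1), (8, 3), (9, 3), (10, 2), (11, 3), (12, 1), (15, 1), (16, 1), (17, 1), (18, 3), (19, 3), (21, 3), (22, 2), (23, 1), (24, 3), (28, 2), (30, 3), (32, 3), (33, 2), (34, 2), (36, 1), (37, 3), (40, 3), (41, 1), (42, 1), (43, 3), (44, 2), (48, 3), (49, 3), (50, 3), (51, 1), (52, 1), (56, 2), (58, 3), (67, 2), (68, 1), (69, 3), (73, 2), (75, 3)],
  [(0, 1), (1, 2), (3, 1), (4, 3), (6, 1), (7, 1), (8, 1), (9, 1), (10, 1), (11, 1), (12, 3), (14, 2), (15, 1), (17, 1), (20, 3), (21, 3), (22, 2), (23, 1), (24, 3), (25, 3), (26, 1), (28, 1), (30, 3), (31, 2), (32, 3), (35, 2), (36, 3), (38, 1), (40, 1), (41, 1), (42, 2), (44, 1), (46, 3), (49, 1), (50, 3), (51, 2), (52, 1), (53, 1), (54, 1), (55, 1), (56, 3), (57, 1), (58, 1), (59, 1), (60, 1), (61, 2), (62, 2), (64, 1), (65, 3), (66, 2), (67, 3), (70, 1), (71, 1), (72, 1),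 (73, 2), (74, 2), (75, 3), (76, 1), (77, 1)],
  [(0, 2), (1, 2), (2, 3), (3, 1), (4, 1), (5, 3), (6, 1), (8, 3), (9, 3), (11, 3), (12, 2), (13, 2), (14, 3), (15, 2), (17, 3), (18, 1), (19, 1), (21, 3), (22, 2), (23, 1), (24, 2), (26, 1), (27, 2), (28, 1), (31, 3), (32, 2), (33, 3), (34, 3), (38, 1), (39, 1), (40, 2), (41, 3), (42, 3), (43, 1), (45, 3), (47, 1), (49, 1), (50, 3), (51, 2), (53, 1), (54, 1), (55, 1), (56, 1), (58, 3), (59, 1), (60, 1), (61, 2), (63, 3), (64, 2), (66, 3), (67, 1), (68, 2), (70, 1), (71, 1), (72, 1), (73, 3), (74, 1), (76, 1), (77, 1)],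
  [(3, 1), (4, 2), (5, 1), (7, 3), (9, 1), (10, 3), (12, 3), (13, 3), (14, 2), (17, 3), (18, 3), (21, 3), (23, 1), (25, 2), (27, 3), (28, 2), (30, 3), (37, 1), (38, 2), (40, 1), (41, 3), (44, 3), (48, 1), (49, 1), (50, 3), (52, 1), (53, 2), (55, 3), (56, 2), (58, 3), (68, 1), (70, 2), (72, 3), (73, 2), (75, 3)],
  [(1, 2), (4, 2), (6, 2), (7, 1), (8, 1), (9, 1), (10, 3), (11, 3), (12, 3), (13, 1), (14, 2), (15, 2), (16, 3), (17, 3), (18, 2), (19, 1), (20, 2), (22, 3), (23, 1), (24, 3), (25, 2), (26, 1), (28, 2), (29, 1), (31, 2), (37, 2), (38, 1), (39, 2), (40, 2), (41, 3), (42, 2), (43, 1), (44, 1), (45, 1), (46, 2), (47, 1), (48, 2), (49, 1), (51, 3), (52, 3), (53, 1), (54, 2), (55, 3), (56, 3), (57, 2), (58, 1), (59, 2), (60, 2), (61, 3), (63, 2), (64, 1), (66, 3), (68, 2), (69, 3), (70, 3), (71, 1), (74, 1), (76, 2), (77, 2)],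
  [(0, 3), (1, 3), (2, 3), (3, 3), (4, 3), (7, 3), (8, 3), (9, 3), (12, 2), (13, 3), (14, 2), (15, 3), (16, 3), (17, 1), (19, 2), (23, 2), (25, 3), (27, 1), (28, 3), (30, 1), (32, 3), (33, 3), (36, 3), (37, 2), (38, 2), (40, 2), (41, 3), (42, 3), (43, 2), (44, 1), (48, 2), (49, 2), (51, 3), (52, 2), (53, 3), (55, 1), (56, 3), (58, 1), (68, 2), (70, 3), (72, 1), (73, 3), (75, 1)],
  [(0, 1), (2, 3), (3, 1), (4, 1), (6, 2), (8, 1), (9, 3), (10, 1), (11, 1), (12, 1), (13, 1), (14, 1), (17, 3), (18, 3), (19, 2), (20, 2), (21, 1), (22, 2), (24, 1), (26, 1), (27, 1), (28, 2), (29, 2), (30, 3), (31, 1), (32, 1), (33, 3), (34, 2), (35, 3), (36, 1), (37, 1), (38, 3), (39, 3), (40, 3), (41, 3), (42, 3), (43, 2), (44, 3), (45, 2), (46, 2), (47, 2), (48, 2), (49, 1), (50, 1), (51, 3), (52, 1), (53, 1), (54, 1), (55, 1), (56, 1), (57, 1), (59, 1), (61, 2), (63, 2), (64, 1), (65, 1),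 (66, 3), (69, 2), (70, 3), (71, 1), (73, 2), (75, 3), (76, 2), (77, 2)],
  [(0, 2), (1, 1), (4, 3), (5, 2), (6, 3), (8, 3), (9, 2), (10, 2), (12, 3), (15, 1), (17, 2), (18, 3), (19, 1), (20, 3), (21, 2), (22, 3), (23, 1), (24, 2), (25, 3), (26, 3), (27, 3), (28, 1), (30, 1), (31, 2), (34, 3), (35, 1), (36, 2), (37, 3), (38, 3), (39, 3), (40, 1), (41, 2), (42, 2), (43, 3), (45, 2), (46, 3), (47, 3), (48, 2), (49, 3), (50, 2), (51, 1), (52, 1), (53, 3), (54, 3), (55, 1), (56, 3), (58, 3), (59, 3), (60, 3), (61, 1), (62, 3), (64, 1), (65, 2), (66, 2), (67, 3), (69, 3), (70, 3), (71, 3), (72, 1), (73, 2), (74, 3), (75, 1), (76, 3), (77, 3)],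
  [(0, 1), (2, 3), (4, 1), (5, 1), (6, 2), (7, 1), (8, 1), (9, 3), (10, 2), (11, 2), (14, 2), (15, 1), (16, 2), (17, 1), (18, 2), (19, 3), (20, 2), (21, 1), (22, 3), (23, 2), (26, 2), (28, 1), (29, 3), (30, 1), (34, 1), (35, 2), (36, 2), (37, 3), (38, 1), (39, 1), (40, 2), (41, 1), (42, 1), (43, 3), (44, 1), (45, 2), (46, 2), (47, 3), (48, 2), (49, 1), (50, 1), (51, 3), (53, 2), (54, 1), (55, 3), (56, 2), (58, 1), (59, 2), (60, 2), (62, 1), (63, 2), (64, 1), (65, 1), (66, 2), (67, 2), (68, 2), (69, 2), (70, 2), (71, 2), (72, 3), (73, 1), (74, 2), (75, 1), (76, 2), (77, 2)],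
  [(0, 3), (1, 3), (2, 1), (3, 1), (5, 2), (6, 3), (7, 3), (8, 1), (9, 2), (10, 2), (12, 1), (13, 2), (14, 1), (15, 3), (16, 1), (17, 3), (19, 3), (21, 3), (22, 1), (23, 1), (24, 2), (25, 1), (26, 3), (28, 2), (29, 2), (31, 2), (38, 3), (39, 2), (41, 3), (43, 3), (44, 3), (45, 1), (47, 2), (49, 2), (50, 3), (51, 2), (52, 1), (53, 1), (54, 1), (55, 3), (56, 1), (57, 1), (58, 3), (59, 1), (61, 2), (63, 2), (64, 3), (65, 3), (66, 1), (67, 2), (68, 2), (71, 1), (72, 1), (73, 3), (74, 1), (77, 1)],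
  [(1, 3), (2, 2), (4, 1), (6, 3), (8, 3), (10, 1), (11, 3), (12, 2), (13, 2), (14, 2), (15, 1), (16, 3), (17, 1), (19, 2), (20, 1), (21, 1), (23, 3), (24, 3), (25, 3), (26, 3), (27, 1), (30, 3), (31, 1), (32, 3), (34, 3), (36, 3), (41, 1), (43, 2), (44, 2), (45, 2), (46, 3), (47, 3), (48, 3), (50, 1), (52, 2), (54, 1), (55, 2), (57, 1), (58, 2), (59, 1), (61, 2), (62, 3), (63, 1), (64, 3), (65, 3), (66, 1), (67, 2), (68, 1), (69, 2), (71, 2), (72, 2), (73, 3), (74, 2), (75, 3), (77, 2)],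
  [(0, 3), (1, 3), (4, 1), (5, 3), (7, 2), (8, 1), (9, 1), (10, 3), (12, 3), (13, 2), (14, 3), (15, 1), (16, 3), (17, 3), (19, 1), (20, 3), (21, 3), (22, 3), (23, 2), (25, 3), (26, 2), (28, 2), (29, 3), (30, 3), (31, 3), (32, 1), (34, 1), (36, 1), (38, 2), (39, 3), (41, 3), (43, 1), (44, 2), (45, 3), (46, 3), (48, 1), (49, 3), (50, 3), (51, 3), (53, 1), (54, 3), (55, 2), (57, 3), (59, 3), (60, 1), (61, 1), (62, 1), (63, 3), (64, 2), (65, 2), (67, 2), (68, 3), (69, 3), (71, 1), (72, 1), (73, 2), (74, 2), (75, 2), (77, 1)],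
  [(0, 2), (1, 2), (4, 3), (5, 2), (6, 2), (7, 2), (8, 2), (9, 3), (10, 2), (11, 1), (12, 1), (13, 3), (14, 3), (15, 2), (16, 2), (17, 3), (18, 1), (19, 1), (21, 3), (23, 3), (24, 1), (26, 2), (27, 3), (28, 2), (29, 3), (30, 1), (31, 1), (32, 2), (33, 3), (34, 3), (36, 1), (37, 3), (39, 2), (41, 3), (43, 1), (44, 3), (45, 1), (47, 2), (48, 3), (49, 2), (50, 3), (51, 3), (52, 1), (53, 2), (54, 2), (55, 2), (56, 2), (59, 2), (60, 2), (61, 3), (63, 1), (64, 3), (66, 1), (67, 1), (68, 2), (69, 2), (70, 2), (71, 2), (72, 2), (73, 1), (74, 1), (75, 1), (76, 2), (77, 2)],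
  [(0, 1), (2, 2), (4, 1), (5, 1), (7, 1), (8, 1), (9, 1), (10, 1), (11, 2), (13, 3), (15, 1), (16, 3), (17, 1), (18, 3), (20, 2), (21, 1), (22, 2), (23, 3), (25, 3), (27, 1), (29, 2), (30, 2), (31, 3), (36, 3), (38, 3), (39, 1), (40, 2), (41, 1), (42, 2), (44, 1), (46, 2), (47, 2), (48, 3), (49, 3), (50, 1), (51, 2), (52, 3), (55, 3), (56, 1), (57, 1), (58, 1), (59, 1), (61, 2), (63, 1), (65, 1), (66, 1), (67, 3), (68, 3), (69, 3), (71, 3), (72, 3), (73, 3), (74, 3), (75, 2), (77, 3)],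
  [(0, 2), (1, 3), (2, 1), (3, 1), (5, 3), (6, 3), (7, 2), (8, 2), (9, 1), (10, 2), (11, 1), (13, 3), (14, 1), (16, 2), (17, 1), (18, 1), (19, 3), (20, 1), (21, 1), (23, 2), (24, 1), (26, 1), (27, 2), (28, 3), (30, 2), (31, 2), (32, 1), (33, 3), (35, 2), (36, 2), (37, 3), (38, 3), (39, 1), (41, 1), (43, 3), (44, 2), (45, 3), (46, 1), (47, 1), (48, 2), (49, 1), (50, 3), (51, 2), (54, 1), (55, 1), (56, 1), (58, 3), (59, 1), (61, 2), (62, 1), (64, 2), (65, 3), (66, 3), (67, 1), (68, 2), (69, 1), (71, 1), (72, 1), (73, 3), (74, 1), (77, 1)],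
  [(1, 2), (2, 3), (3, 3), (4, 1), (5, 3), (6, 1), (7, 2), (8, 3), (9, 2), (10, 2), (11, 3), (14, 3), (15, 3), (17, 3), (18, 3), (19, 2), (20, 3), (21, 3), (22, 2), (23, 3), (24, 1), (25, 1), (26, 1), (27, 2), (28, 2), (29, 2), (30, 2), (31, 1), (32, 2), (33, 1), (35, 3), (36, 1), (37, 1), (38, 3), (39, 3), (40, 3), (41, 3), (42, 3), (43, 2), (44, 1), (45, 3), (46, 3), (47, 1), (48, 1), (49, 3), (50, 3), (51, 2), (52, 1), (54, 2), (55, 3), (56, 3), (58, 3), (59, 3), (62, 2), (63, 3), (64, 2), (65, 2), (66, 3), (67, 3), (68, 2), (69, 3), (71, 3), (72, 3), (73, 2), (74, 3), (75, 3), (77, 3)],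
  [(0, 1), (1, 3), (2, 3), (3, 2), (4, 3), (5, 2), (6, 1), (8, 1), (9, 1), (10, 1), (11, 1), (12, 1), (13, 2), (14, 3), (15, 2), (17, 2), (19, 1), (20, 3), (22, 1), (23, 3), (24, 1), (26, 3), (28, 1), (29, 2), (30, 3), (31, 3), (32, 3), (33, 2), (34, 3), (35, 2), (38, 2), (41, 2), (42, 2), (43, 2), (44, 1), (45, 3), (47, 2), (49, 1), (50, 3), (51, 1), (52, 3), (54, 3), (55, 3), (56, 2), (58, 3), (59, 3), (60, 2), (62, 3), (63, 1), (64, 3), (65, 1), (66, 1), (67, 2), (68, 2), (71, 3), (73, 1), (74, 2), (75, 3), (76, 3)],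
  [(0, 3), (1, 1), (2, 3), (4, 3), (6, 3), (7, 2), (8, 2), (10, 2), (11, 2), (12, 3), (13, 3), (14, 3), (15, 2), (16, 1), (17, 3), (18, 3), (20, 2), (21, 2), (22, 1), (24, 2), (26, 3), (28, 2), (29, 2), (30, 1), (31, 3), (32, 2), (33, 3), (35, 1), (36, 2), (37, 1), (38, 1), (39, 3), (40, 2), (42, 1), (43, 1), (44, 1), (45, 2), (48, 1), (49, 1), (50, 1), (51, 1), (53, 1), (54, 2), (56, 2), (57, 2), (58, 1), (60, 2), (61, 3), (62, 1), (63, 1), (65, 1), (67, 2), (68, 3), (69, 3), (71, 3), (73, 1), (74, 2), (76, 3)],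
  [(0, 1), (1, 1), (2, 1), (3, 2), (6, 3), (7, 2), (8, 1), (9, 1), (11, 3), (13, 2), (14, 1), (17, 2), (18, 1), (19, 2), (21, 1), (23, 2), (24, 3), (25, 1), (26, 3), (27, 1), (28, 2), (30, 2), (31, 3), (32, 3), (33, 2), (34, 2), (35, 2), (36, 2), (37, 3), (38, 1), (39, 1), (40, 1), (41, 1), (42, 3), (43, 2), (44, 2), (45, 3), (47, 3), (48, 2), (50, 2), (51, 2), (52, 3), (53, 2), (54, 3), (55, 1), (56, 3), (57, 2), (58, 3), (59, 1), (61, 2), (63, 3), (64, 1), (65, 3), (66, 2), (67, 2), (68, 3), (70, 1), (71, 3), (72, 1), (73, 1), (75, 3), (76, 3)],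
  [(0, 3), (1, 3), (2, 3), (3, 3), (4, 2), (7, 3), (9, 3), (10, 1), (11, 2), (12, 1), (13, 2), (16, 3), (18, 1), (20, 1), (21, 2), (23, 1), (25, 2), (26, 2), (28, 3), (31, 2), (32, 3), (34, 2), (35, 2), (36, 3), (40, 3), (42, 3), (43, 3), (44, 1), (45, 2), (46, 3), (47, 1), (48, 2), (51, 1), (52, 3), (54, 3), (55, 2), (56, 3), (59, 2), (60, 2), (61, 1), (62, 2), (63, 3), (64, 3), (65, 2), (66, 3), (69, 3), (70, 2), (71, 2), (73, 1), (74, 1), (75, 1), (76, 2)],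
  [(0, 1), (1, 1), (2, 2), (3, 3), (4, 3), (5, 2), (7, 1), (8, 2), (10, 1), (11, 3), (12, 1), (13, 2), (14, 2), (15, 2), (18, 2), (19, 2), (20, 1), (21, 2), (22, 1), (23, 1), (25, 1), (27, 1), (28, 3), (29, 2), (30, 3), (32, 2), (33, 1), (35, 2), (36, 1), (37, 1), (38, 1), (39, 2), (40, 2), (41, 2), (43, 3), (44, 2), (46, 2), (47, 1), (48, 3), (49, 2), (50, 3), (51, 2), (52, 2), (54, 3), (55, 2), (57, 2), (58, 3), (60, 2), (61, 2), (62, 2), (63, 3), (64, 2), (65, 3), (66, 3), (69, 2), (70, 1), (72, 1), (74, 2), (75, 2)],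
  [(0, 1), (1, 2), (3, 2), (6, 3), (7, 3), (8, 3), (9, 1), (10, 2), (11, 1), (12, 2), (14, 1), (15, 1), (16, 1), (17, 2), (20, 1), (23, 1), (24, 3), (25, 1), (26, 1), (27, 1), (28, 2), (29, 1), (30, 3), (31, 1), (32, 1), (33, 1), (35, 1), (37, 3), (38, 2), (39, 2), (40, 1), (42, 2), (43, 3), (44, 1), (45, 1), (46, 2), (47, 2), (48, 1), (49, 3), (50, 2), (51, 1), (53, 3), (54, 3), (55, 2), (56, 1), (58, 2), (59, 2), (60, 1), (61, 3), (62, 3), (63, 1), (64, 3), (65, 1), (66, 1), (68, 2), (69, 3), (70, 1), (71, 1), (72, 1), (73, 1), (74, 1), (75, 2), (76, 1)],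
  [(0, 1), (1, 1), (2, 3), (3, 3), (4, 1), (5, 3), (6, 1), (7, 3), (9, 1), (10, 2), (11, 2), (13, 3), (14, 1), (17, 1), (18, 1), (20, 1), (21, 1), (23, 3), (24, 2), (25, 1), (26, 1), (27, 3), (28, 2), (30, 2), (31, 1), (32, 3), (33, 3), (34, 2), (36, 2), (37, 1), (38, 2), (40, 2), (41, 1), (42, 3), (43, 2), (44, 1), (45, 1), (46, 2), (47, 1), (48, 2), (50, 1), (51, 1), (52, 1), (53, 2), (54, 2), (55, 3), (58, 3), (60, 2), (61, 2), (62, 2), (63, 3), (64, 2), (65, 3), (66, 3), (67, 1), (68, 3), (69, 1), (70, 1), (71, 1), (72, 3), (74, 1), (75, 3), (76, 1)],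
  [(0, 2), (1, 2), (2, 3), (4, 2), (6, 2), (7, 1), (8, 2), (9, 3), (10, 1), (12, 1), (14, 3), (15, 3), (16, 1), (17, 2), (20, 1), (21, 1), (22, 3), (23, 2), (24, 2), (25, 1), (26, 2), (27, 1), (28, 2), (29, 3), (30, 1), (31, 2), (32, 3), (33, 1), (34, 1), (35, 1), (36, 3), (37, 2), (38, 2), (39, 1), (40, 2), (41, 1), (42, 1), (44, 2), (45, 3), (46, 3), (47, 2), (48, 2), (49, 3), (50, 3), (51, 2), (52, 3), (53, 1), (55, 3), (56, 3), (57, 2), (58, 2), (59, 1), (60, 3), (61, 1), (62, 1), (63, 3), (64, 3), (65, 3), (66, 1), (68, 1), (69, 3), (70, 1), (71, 2), (72, 1), (73, 2), (74, 3), (75, 1), (76, 2)],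
  [(0, 3), (3, 2), (5, 2), (6, 3), (8, 3), (9, 1), (10, 2), (11, 1), (13, 3), (14, 2), (15, 3), (17, 3), (19, 3), (20, 3), (22, 3), (23, 1), (24, 3), (25, 2), (26, 3), (27, 2), (28, 3), (30, 3), (31, 3), (32, 3), (33, 3), (34, 1), (35, 1), (36, 3), (37, 1), (38, 1), (41, 2), (42, 2), (43, 2), (44, 3), (46, 3), (47, 3), (48, 1), (50, 2), (51, 3), (52, 3), (53, 1), (54, 2), (55, 1), (56, 1), (58, 2), (59, 3), (61, 1), (62, 3), (63, 2), (64, 2), (65, 3), (66, 2), (67, 1), (68, 2), (69, 1), (70, 3), (71, 3), (72, 2), (73, 2), (74, 3), (76, 3)],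
  [(0, 2), (1, 1), (2, 3), (3, 2), (4, 1), (5, 3), (6, 3), (7, 3), (8, 3), (9, 1), (11, 3), (12, 3), (14, 3), (15, 2), (16, 3), (17, 1), (18, 1), (19, 2), (20, 1), (21, 1), (23, 2), (24, 1), (25, 2), (26, 1), (28, 3), (29, 2), (30, 3), (31, 1), (33, 1), (36, 2), (37, 2), (38, 1), (39, 1), (40, 3), (42, 2), (43, 3), (44, 3), (45, 1), (46, 3), (47, 3), (48, 2), (49, 1), (51, 3), (52, 1), (53, 3), (54, 2), (55, 3), (58, 1), (60, 3), (62, 1), (63, 1), (65, 3), (66, 2), (67, 1), (69, 3), (70, 1), (71, 1), (74, 1), (76, 1)],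
  [(0, 3), (1, 3), (2, 1), (3, 1), (4, 1), (5, 2), (6, 3), (7, 2), (8, 1), (9, 1), (10, 2), (11, 3), (12, 1), (14, 1), (15, 3), (16, 3), (17, 2), (18, 2), (19, 1), (20, 2), (21, 2), (22, 1), (23, 3), (24, 2), (26, 1), (27, 2), (28, 1), (29, 3), (30, 2), (31, 2), (32, 2), (34, 1), (35, 2), (36, 3), (38, 2), (39, 3), (40, 3), (41, 1), (42, 3), (43, 3), (44, 3), (45, 3), (46, 1), (47, 1), (48, 3), (49, 3), (50, 1), (51, 1), (52, 1), (53, 1), (54, 1), (56, 1), (57, 1), (59, 1), (60, 2), (61, 3), (62, 1), (63, 1), (64, 2), (65, 1), (66, 1), (67, 1), (69, 3), (71, 1), (73, 3), (75, 2), (76, 3), (77, 3)],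
  [(0, 2), (1, 3), (2, 1), (4, 1), (5, 2), (6, 3), (7, 3), (8, 2), (9, 3), (11, 3), (13, 3), (14, 3), (15, 1), (16, 1), (17, 1), (18, 3), (19, 3), (20, 1), (21, 1), (22, 1), (23, 2), (24, 1), (25, 2), (26, 3), (28, 2), (29, 3), (30, 1), (31, 1), (32, 3), (33, 2), (34, 2), (35, 3), (36, 2), (37, 2), (38, 1), (39, 3), (41, 1), (43, 3), (44, 3), (45, 3), (46, 1), (47, 1), (48, 2), (49, 3), (50, 1), (51, 1), (53, 3), (54, 3), (55, 3), (56, 1), (58, 3), (59, 3), (60, 3), (61, 1), (62, 3), (63, 3), (64, 1), (65, 1), (66, 2), (67, 2), (68, 1), (69, 3), (70, 3), (71, 3), (72, 3), (74, 2), (75, 1), (76, 3), (77, 3)],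
  [(0, 1), (1, 1), (2, 1), (4, 3), (5, 1), (6, 2), (7, 2), (8, 1), (12, 2), (13, 1), (14, 2), (15, 1), (16, 3), (17, 2), (18, 2), (19, 1), (20, 2), (21, 2), (23, 2), (24, 3), (25, 1), (28, 3), (29, 2), (31, 1), (36, 1), (38, 3), (39, 2), (40, 1), (41, 2), (42, 1), (43, 1), (44, 2), (45, 2), (46, 2), (47, 3), (48, 1), (49, 2), (50, 2), (51, 3), (53, 1), (55, 3), (56, 2), (57, 2), (58, 2), (59, 2), (61, 3), (63, 2), (65, 1), (67, 3), (69, 2), (70, 1), (71, 1), (72, 3), (73, 1), (74, 1), (75, 3), (77, 1)],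
  [(0, 2), (1, 3), (2, 1), (3, 2), (4, 2), (8, 1), (9, 2), (10, 1), (11, 3), (14, 2), (15, 3), (16, 3), (17, 2), (18, 3), (19, 1), (20, 2), (21, 2), (22, 1), (23, 3), (25, 1), (27, 1), (29, 1), (30, 1), (31, 3), (32, 2), (33, 2), (34, 1), (35, 2), (36, 3), (37, 2), (38, 2), (39, 2), (41, 2), (43, 1), (44, 2), (45, 2), (46, 2), (47, 3), (48, 3), (49, 2), (50, 2), (51, 3), (52, 1), (54, 2), (55, 2), (56, 3), (58, 3), (59, 2), (61, 3), (62, 1), (63, 3), (64, 3), (65, 2), (66, 1), (67, 2), (68, 2), (69, 2), (71, 2), (72, 2), (74, 2), (75, 2), (77, 2)],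
  [(0, 3), (2, 1), (3, 1), (4, 1), (5, 2), (6, 3), (8, 1), (9, 3), (10, 3), (11, 2), (13, 1), (14, 1), (15, 1), (17, 1), (18, 2), (19, 3), (20, 1), (21, 1), (23, 1), (25, 1), (26, 1), (27, 3), (30, 1), (31, 1), (32, 3), (33, 3), (34, 2), (35, 3), (36, 2), (37, 3), (38, 1), (39, 1), (40, 2), (41, 1), (42, 2), (43, 3), (45, 1), (46, 1), (48, 2), (49, 1), (50, 1), (53, 1), (54, 3), (55, 2), (56, 2), (58, 1), (59, 1), (60, 1), (62, 2), (67, 3), (68, 1), (70, 1), (71, 1), (72, 2), (74, 3), (75, 1), (76, 1), (77, 1)],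
  [(0, 2), (1, 2), (2, 1), (3, 2), (5, 2), (6, 2), (8, 2), (10, 2), (11, 1), (12, 1), (13, 3), (14, 2), (16, 2), (17, 3), (19, 1), (20, 3), (21, 2), (22, 2), (23, 3), (24, 3), (25, 2), (27, 2), (29, 2), (30, 2), (32, 2), (33, 3), (34, 3), (35, 3), (36, 2), (37, 3), (38, 2), (39, 3), (40, 1), (42, 3), (44, 2), (46, 3), (47, 2), (48, 3), (49, 2), (50, 2), (51, 3), (52, 2), (53, 2), (54, 2), (55, 2), (58, 2), (59, 3), (61, 1), (62, 2), (63, 1), (64, 1), (65, 1), (66, 2), (67, 1), (69, 1), (70, 1), (72, 3), (73, 3), (74, 2), (75, 3)],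
  [(0, 2), (1, 2), (2, 3), (3, 1), (5, 3), (7, 3), (8, 3), (9, 1), (10, 3), (16, 3), (17, 2), (18, 1), (20, 1), (21, 3), (22, 1), (23, 2), (24, 1), (25, 3), (27, 3), (28, 2), (29, 2), (30, 1), (32, 1), (33, 3), (34, 1), (35, 1), (36, 2), (37, 2), (38, 1), (39, 1), (40, 3), (41, 2), (42, 3), (44, 2), (46, 1), (47, 3), (48, 2), (50, 3), (51, 2), (52, 1), (55, 2), (56, 1), (62, 2), (63, 1), (64, 1), (65, 1), (66, 2), (68, 3), (69, 3), (72, 2), (73, 1), (74, 2)],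
  [(0, 2), (1, 1), (4, 1), (6, 2), (7, 3), (8, 2), (9, 3), (10, 2), (11, 1), (12, 1), (13, 3), (14, 2), (15, 2), (18, 1), (20, 1), (21, 2), (22, 2), (23, 2), (24, 3), (25, 2), (27, 2), (29, 2), (31, 2), (32, 2), (34, 3), (39, 3), (41, 3), (42, 2), (43, 2), (44, 1), (46, 1), (48, 3), (49, 3), (50, 1), (51, 3), (52, 1), (53, 3), (55, 1), (57, 1), (58, 3), (59, 1), (60, 1), (61, 3), (62, 3), (63, 1), (65, 2), (66, 1), (68, 2), (71, 1), (72, 3), (73, 2), (74, 3), (75, 1), (76, 2)],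
  [(1, 1), (2, 2), (3, 1), (4, 3), (6, 1), (7, 2), (9, 2), (10, 3), (11, 1), (12, 3), (14, 1), (15, 2), (17, 1), (18, 2), (19, 3), (20, 3), (21, 1), (22, 2), (23, 3), (24, 1), (26, 1), (27, 2), (28, 2), (29, 2), (30, 2), (31, 1), (32, 3), (34, 1), (35, 1), (36, 2), (41, 3), (44, 2), (45, 3), (46, 3), (47, 3), (48, 1), (49, 2), (50, 1), (52, 3), (53, 3), (54, 1), (55, 3), (56, 1), (58, 3), (59, 2), (60, 1), (61, 3), (62, 3), (63, 2), (64, 2), (65, 2), (66, 3), (68, 2), (69, 2), (70, 3), (71, 1), (73, 3), (74, 2), (76, 1)],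
  [(0, 3), (2, 2), (4, 2), (5, 3), (7, 2), (8, 1), (9, 2), (10, 2), (11, 3), (12, 3), (13, 3), (14, 1), (15, 3), (16, 3), (18, 3), (20, 3), (21, 1), (22, 1), (24, 1), (25, 2), (26, 3), (27, 1), (30, 3), (31, 2), (32, 2), (34, 2), (36, 2), (38, 1), (39, 2), (41, 1), (44, 3), (46, 1), (47, 2), (48, 2), (49, 1), (50, 1), (51, 3), (52, 3), (54, 1), (55, 1), (56, 1), (58, 2), (59, 1), (62, 3), (63, 3), (64, 1), (65, 3), (66, 2), (67, 3), (68, 2), (69, 3), (74, 2), (75, 2), (76, 1)],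
  [(0, 1), (3, 3), (4, 3), (5, 2), (7, 1), (8, 1), (9, 1), (10, 2), (11, 1), (12, 1), (13, 3), (14, 1), (15, 3), (16, 1), (17, 1), (18, 2), (19, 1), (20, 2), (21, 1), (22, 2), (24, 1), (25, 1), (27, 3), (29, 1), (30, 2), (32, 2), (33, 3), (35, 2), (36, 1), (37, 1), (39, 1), (41, 3), (42, 3), (44, 1), (45, 3), (46, 2), (47, 2), (48, 1), (49, 1), (50, 3), (52, 2), (53, 2), (56, 3), (57, 3), (59, 3), (60, 2), (61, 2), (63, 2), (65, 3), (66, 3), (67, 3), (69, 2), (71, 3), (72, 3), (73, 2), (74, 3), (75, 1)],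
  [(0, 2), (2, 3), (3, 2), (4, 2), (5, 1), (6, 1), (8, 1), (9, 1), (12, 1), (13, 3), (14, 1), (15, 2), (16, 1), (17, 1), (18, 3), (19, 1), (20, 3), (23, 1), (24, 3), (25, 2), (26, 3), (27, 2), (28, 2), (31, 3), (32, 3), (33, 2), (34, 2), (35, 1), (36, 1), (37, 3), (38, 2), (39, 3), (40, 3), (41, 1), (42, 2), (43, 1), (44, 3), (45, 3), (46, 3), (48, 1), (49, 1), (51, 1), (53, 3), (56, 3), (58, 2), (60, 3), (62, 3), (63, 2), (64, 2), (65, 2), (66, 3), (67, 2), (70, 3), (71, 3), (73, 1), (75, 2), (76, 3)],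
  [(0, 3), (1, 3), (2, 3), (3, 2), (4, 2), (5, 2), (6, 3), (7, 3), (10, 1), (11, 2), (13, 2), (16, 1), (17, 1), (18, 1), (19, 2), (20, 2), (21, 2), (25, 2), (26, 3), (28, 3), (29, 3), (30, 2), (31, 3), (32, 1), (34, 1), (35, 3), (36, 3), (39, 1), (40, 3), (41, 1), (42, 3), (43, 2), (44, 1), (45, 2), (46, 2), (47, 1), (48, 2), (49, 1), (50, 2), (52, 2), (53, 2), (54, 2), (57, 2), (58, 1), (59, 2), (60, 1), (61, 3), (62, 1), (64, 2), (65, 1), (68, 1), (70, 2), (71, 1), (73, 3), (74, 3), (76, 1)],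
  [(0, 2), (1, 2), (2, 3), (4, 1), (5, 2), (7, 3), (9, 2), (10, 1), (11, 2), (12, 2), (13, 2), (14, 2), (15, 1), (16, 2), (17, 1), (18, 1), (19, 2), (20, 1), (21, 1), (22, 3), (25, 3), (26, 2), (27, 3), (28, 2), (29, 1), (30, 3), (32, 3), (33, 1), (34, 2), (35, 2), (36, 1), (37, 2), (38, 1), (39, 3), (40, 2), (41, 1), (43, 2), (44, 3), (46, 1), (47, 3), (48, 1), (49, 3), (50, 1), (51, 3), (52, 3), (53, 3), (55, 3), (58, 3), (60, 3), (62, 2), (63, 1), (64, 1), (65, 1), (66, 3), (67, 2), (68, 3), (69, 3), (70, 3), (71, 2), (72, 3), (74, 2), (75, 1), (76, 3)],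
  [(0, 1), (1, 3), (2, 1), (4, 2), (6, 1), (8, 2), (9, 3), (10, 3), (11, 3), (12, 3), (13, 1), (14, 3), (17, 1), (19, 3), (21, 1), (22, 3), (24, 3), (26, 3), (27, 3), (28, 1), (29, 3), (31, 2), (32, 2), (33, 3), (34, 2), (37, 1), (39, 2), (40, 2), (41, 1), (43, 3), (45, 1), (47, 3), (49, 2), (50, 1), (51, 1), (52, 3), (53, 2), (54, 1), (56, 1), (57, 1), (59, 1), (60, 2), (61, 2), (62, 1), (63, 2), (65, 2), (66, 3), (68, 1), (70, 2), (73, 3), (75, 3)],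
  [(0, 1), (2, 3), (3, 3), (4, 3), (5, 2), (6, 3), (7, 3), (8, 1), (9, 2), (10, 1), (12, 1), (13, 2), (14, 1), (15, 2), (17, 3), (18, 1), (19, 3), (20, 3), (22, 1), (23, 3), (24, 1), (26, 3), (28, 1), (29, 2), (30, 3), (31, 3), (32, 2), (33, 3), (34, 2), (35, 2), (36, 3), (37, 1), (38, 3), (41, 2), (42, 2), (43, 2), (44, 1), (45, 3), (47, 2), (49, 1), (50, 3), (51, 1), (52, 2), (54, 3), (56, 1), (60, 3), (61, 2), (62, 3), (63, 1), (64, 3), (65, 1), (66, 1), (70, 1), (71, 2), (72, 1), (73, 2), (74, 3), (75, 2), (76, 2)]]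

/-- A left pseudo-inverse. -/
def lMat : List (List (ℕ × ℕ)) := [
  [(0, 3), (1, 2), (2, 3), (3, 1), (4, 1), (5, 3), (7, 3), (8, 1), (9, 2), (11, 1), (13, 3), (19, 3), (20, 2), (22, 2), (24, 1), (25, 2), (26, 1), (27, 1), (28, 1), (29, 2), (30, 3), (31, 1), (32, 2), (34, 2), (35, 2), (36, 1), (37, 3), (38, 2), (39, 2), (40, 1), (41, 1), (42, 3), (43, 2), (44, 2), (45, 2), (46, 1), (47, 1), (48, 3), (50, 2), (51, 2), (52, 3), (53, 3), (55, 3), (56, 3), (57, 2), (58, 2), (59, 1), (60, 2), (61, 3), (62, 3), (63, 1), (64, 1), (65, 1), (67, 1), (68, 1), (69, 3), (70, 3), (71, 3), (72, 1), (73, 1), (75, 1), (76, 1), (77, 3)],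
  [(1, 1), (2, 3), (3, 1), (4, 3), (5, 1), (6, 2), (9, 3), (10, 1), (11, 1), (13, 3), (14, 2), (15, 3), (16, 3), (17, 3), (18, 2), (19, 3), (20, 3), (22, 2), (23, 2), (24, 1), (25, 2), (26, 3), (29, 1), (30, 2), (31, 2), (32, 1), (33, 2), (34, 3), (35, 2), (37, 3), (38, 3), (39, 1), (40, 2), (41, 3), (42, 2), (43, 3), (46, 2), (47, 1), (48, 1), (49, 2), (51, 3), (52, 2), (53, 2), (54, 3), (55, 3), (59, 3), (60, 1), (63, 2), (64, 3), (65, 2), (66, 3), (68, 2), (70, 1), (71, 3), (72, 2), (73, 2), (75, 2), (77, 1)],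
  [(1, 3), (2, 2), (3, 3), (4, 3), (5, 1), (6, 1), (7, 1), (8, 2), (9, 2), (10, 3), (12, 1), (13, 2), (14, 1), (16, 2), (17, 2), (18, 1), (19, 3), (21, 3), (24, 1), (26, 2), (27, 3), (28, 3), (29, 3), (30, 1), (31, 3), (32, 2), (33, 1), (34, 2), (35, 2), (36, 1), (37, 1), (39, 2), (40, 1), (43, 2), (44, 1), (45, 3), (46, 3), (49, 2), (50, 1), (51, 1), (52, 2), (54, 1), (55, 3), (57, 3), (58, 1), (59, 2), (60, 3), (61, 1), (62, 1), (63, 1), (64, 2), (65, 1), (66, 2), (67, 2), (69, 2), (71, 3), (72, 3), (75, 1), (76, 2)],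
  [(0, 1), (1, 1), (3, 1), (5, 2), (6, 3), (7, 3), (8, 1), (10, 2), (13, 1), (14, 1), (15, 1), (16, 1), (17, 1), (18, 3), (19, 3), (21, 3), (22, 3), (23, 2), (24, 2), (25, 1), (26, 3), (27, 2), (28, 2), (29, 3), (31, 1), (32, 1), (33, 3), (34, 1), (35, 3), (36, 2), (37, 3), (40, 1), (41, 3), (42, 3), (43, 1), (44, 1), (47, 2), (48, 3), (49, 3), (50, 2), (51, 2), (52, 1), (53, 1), (54, 2), (55, 1), (56, 2), (57, 3), (60, 1), (62, 2), (63, 2), (64, 1), (65, 1), (66, 2), (69, 3), (70, 3), (71, 2), (72, 2), (73, 2), (75, 2), (76, 2), (77, 1)],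
  [(0, 2), (1, 3), (2, 2), (3, 1), (4, 1), (6, 1), (7, 1), (9, 1), (11, 2), (12, 2), (13, 3), (14, 3), (15, 1), (16, 1), (17, 1), (19, 1), (20, 2), (21, 1), (22, 3), (23, 3), (24, 3), (25, 2), (26, 2), (27, 1), (29, 1), (30, 3), (32, 2), (33, 1), (35, 2), (36, 1), (37, 1), (38, 1), (39, 1), (40, 1), (41, 2), (42, 3), (43, 1), (45, 1), (46, 3), (47, 3), (48, 1), (51, 1), (52, 1), (53, 3), (54, 3), (57, 3), (58, 3), (59, 2), (60, 2), (61, 1), (63, 2), (64, 3), (65, 2), (66, 1), (67, 3), (69, 3), (70, 1), (72, 2), (73, 3), (75, 3), (76, 1), (77, 1)],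
  [(0, 2), (1, 1), (2, 3), (3, 2), (6, 2), (7, 3), (11, 1), (12, 3), (14, 3), (15, 2), (16, 3), (17, 1), (18, 2), (19, 1), (20, 2), (23, 3), (25, 3), (26, 2), (27, 2), (28, 2), (29, 2), (30, 2), (31, 1), (34, 2), (35, 3), (36, 3), (37, 1), (38, 3), (39, 1), (41, 1), (42, 3), (44, 3), (46, 3), (47, 2), (48, 1), (50, 3), (52, 3), (53, 2), (54, 3), (55, 2), (56, 2), (57, 1), (60, 1), (61, 1), (64, 1), (65, 3), (66, 3), (67, 3), (69, 1), (70, 2), (71, 1), (72, 3), (73, 2), (75, 1), (76, 2), (77, 2)],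
  [(0, 2), (1, 3), (2, 2), (3, 3), (4, 3), (7, 3), (9, 2), (10, 1), (14, 1), (15, 2), (16, 2), (17, 2), (19, 3), (20, 2), (21, 3), (22, 3), (23, 2), (24, 1), (25, 2), (26, 1), (28, 3), (30, 1), (31, 2), (32, 3), (33, 2), (34, 3), (35, 3), (36, 2), (37, 1), (38, 3), (40, 2), (41, 1), (42, 1), (43, 2), (44, 2), (45, 3), (46, 1), (47, 2), (48, 3), (49, 2), (51, 1), (52, 2), (53, 2), (55, 3), (56, 3), (57, 1), (59, 2), (61, 3), (62, 2), (63, 1), (64, 2), (65, 1), (66, 3), (67, 3), (68, 1), (70, 3), (71, 1), (75, 1), (76, 1), (77, 1)],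
  [(0, 3), (1, 3), (2, 2), (3, 1), (4, 1), (5, 3), (6, 3), (7, 3), (8, 3), (9, 1), (11, 3), (12, 1), (13, 2), (16, 1), (17, 1), (18, 1), (19, 3), (20, 3), (21, 1), (22, 2), (23, 1), (25, 2), (26, 2), (27, 1), (28, 1), (29, 2), (32, 3), (33, 3), (34, 1), (35, 2), (36, 3), (37, 2), (39, 2), (40, 1), (41, 2), (42, 1), (43, 1), (44, 2), (45, 2), (46, 2), (49, 1), (51, 3), (52, 3), (53, 2), (54, 2), (55, 1), (57, 3), (59, 2), (60, 3), (61, 1), (63, 2), (64, 1), (65, 2), (66, 3), (67, 1), (69, 3), (70, 2), (72, 2), (73, 1), (75, 3), (76, 3), (77, 2)],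
  [(0, 1), (4, 1), (5, 2), (7, 2), (8, 2), (9, 1), (11, 3), (13, 3), (15, 1), (17, 2), (18, 3), (19, 2), (20, 2), (21, 1), (22, 3), (25, 3), (26, 1), (27, 3), (28, 3), (29, 3), (30, 1), (31, 3), (32, 2), (33, 3), (34, 2), (37, 2), (39, 3), (40, 2), (42, 3), (43, 1), (44, 2), (45, 1), (46, 1), (48, 1), (49, 1), (50, 3), (53, 3), (54, 1), (55, 1), (56, 3), (57, 3), (59, 3), (60, 1), (61, 2), (63, 2), (64, 3), (65, 2), (66, 2), (67, 2), (71, 2), (72, 3), (73, 2), (75, 1), (76, 3), (77, 1)],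
  [(0, 2), (1, 3), (2, 2), (3, 3), (5, 3), (6, 2), (7, 1), (8, 2), (9, 3), (10, 3), (12, 2), (13, 2), (14, 2), (15, 1), (16, 2), (17, 1), (18, 1), (19, 3), (24, 3), (27, 3), (29, 1), (30, 3), (33, 1), (34, 3), (35, 2), (36, 2), (37, 1), (38, 1), (39, 1), (40, 2), (41, 3), (42, 2), (45, 3), (46, 2), (47, 2), (48, 1), (51, 1), (52, 1), (53, 1), (54, 1), (55, 3), (56, 3), (57, 1), (59, 1), (61, 3), (62, 2), (63, 1), (64, 1), (66, 3), (67, 1), (68, 1), (69, 2), (70, 2), (71, 2), (72, 1), (73, 3), (75, 3), (77, 3)],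
  [(3, 3), (4, 3), (5, 1), (6, 1), (7, 3), (8, 3), (9, 1), (10, 1), (11, 3), (12, 3), (13, 2), (14, 3), (15, 3), (16, 3), (18, 1), (19, 3), (21, 3), (22, 3), (23, 1), (24, 2), (25, 3), (29, 2), (30, 3), (32, 2), (33, 1), (34, 1), (36, 1), (37, 1), (38, 3), (40, 1), (42, 2), (43, 3), (45, 2), (46, 1), (47, 3), (48, 3), (50, 1), (53, 3), (54, 2), (55, 3), (57, 1), (58, 1), (59, 2), (60, 3), (61, 1), (62, 3), (63, 3), (64, 3), (65, 3), (67, 1), (68, 2), (69, 2), (70, 3), (71, 2), (72, 3), (73, 2), (75, 1), (76, 3), (77, 2)],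
  [(0, 3), (1, 2), (2, 2), (4, 2), (5, 2), (6, 2), (8, 1), (9, 1), (10, 3), (11, 3), (12, 3), (14, 1), (15, 2), (16, 1), (17, 3), (18, 3), (19, 1), (20, 3), (22, 2), (23, 1), (25, 1), (26, 2), (27, 3), (30, 2), (31, 2), (32, 2), (34, 3), (35, 1), (37, 1), (38, 1), (39, 3), (40, 2), (41, 1), (43, 2), (44, 3), (45, 2), (47, 3), (48, 1), (49, 1), (50, 3), (52, 3), (54, 2), (55, 2), (56, 1), (58, 1), (59, 1), (60, 2), (64, 3), (65, 3), (66, 2), (67, 3), (69, 1), (70, 3), (71, 3), (73, 1), (75, 2), (76, 3), (77, 1)],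
  [(1, 3), (2, 3), (3, 2), (5, 1), (6, 3), (7, 3), (8, 3), (9, 2), (11, 3), (12, 1), (13, 1), (14, 1), (15, 1), (18, 3), (19, 1), (20, 2), (21, 1), (22, 2), (24, 3), (25, 3), (26, 3), (28, 1), (29, 1), (30, 1), (31, 3), (32, 1), (33, 3), (34, 1), (35, 3), (36, 1), (37, 2), (38, 3), (39, 1), (40, 1), (45, 3), (46, 1), (47, 1), (48, 3), (49, 3), (50, 1), (51, 1), (52, 3), (53, 2), (54, 1), (55, 2), (57, 3), (58, 1), (59, 2), (60, 1), (61, 1), (62, 1), (63, 3), (64, 3), (65, 3), (66, 1), (67, 2), (68, 1), (69, 3), (70, 2), (71, 2), (72, 3), (75, 2), (76, 1)],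
  [(0, 2), (1, 3), (2, 2), (3, 2), (4, 2), (6, 3), (7, 3), (8, 1), (9, 3), (11, 2), (12, 3), (13, 1), (14, 2), (17, 1), (18, 2), (19, 1), (20, 1), (21, 2), (23, 1), (25, 3), (26, 1), (27, 3), (28, 3), (29, 1), (30, 1), (31, 3), (32, 2), (33, 3), (35, 1), (36, 3), (38, 2), (39, 2), (40, 3), (41, 3), (42, 3), (43, 1), (44, 2), (45, 2), (46, 2), (48, 3), (49, 1), (51, 1), (52, 3), (53, 1), (55, 2), (56, 1), (57, 3), (58, 1), (59, 1), (61, 3), (62, 3), (63, 1), (64, 2), (68, 2), (70, 2), (71, 2)],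
  [(0, 1), (1, 3), (2, 3), (3, 2), (4, 1), (6, 1), (7, 3), (8, 3), (9, 2), (10, 2), (11, 3), (13, 2), (14, 3), (15, 2), (16, 1), (18, 2), (20, 2), (21, 3), (22, 1), (23, 1), (25, 1), (26, 2), (27, 3), (29, 2), (30, 2), (33, 3), (34, 2), (36, 3), (37, 3), (38, 2), (39, 2), (40, 1), (42, 2), (45, 1), (48, 1), (49, 3), (50, 1), (51, 1), (52, 2), (54, 3), (55, 3), (56, 3), (57, 1), (58, 2), (59, 2), (60, 1), (61, 2), (62, 2), (63, 1), (65, 2), (66, 1), (67, 2), (68, 2), (69, 2), (70, 2), (71, 2), (72, 1), (73, 2), (75, 3), (77, 1)],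
  [(1, 3), (2, 2), (3, 3), (4, 2), (5, 1), (6, 2), (7, 3), (9, 2), (11, 3), (12, 3), (14, 1), (17, 3), (19, 1), (20, 3), (21, 2), (22, 3), (23, 1), (24, 1), (26, 1), (27, 2), (28, 3), (31, 1), (33, 2), (34, 3), (36, 3), (37, 2), (38, 1), (39, 2), (41, 2), (42, 1), (43, 2), (44, 3), (45, 3), (46, 3), (48, 2), (51, 2), (53, 3), (54, 3), (55, 3), (57, 3), (58, 1), (59, 1), (60, 3), (61, 2), (63, 3), (65, 2), (66, 2), (68, 1), (69, 1), (70, 1), (71, 1), (72, 3), (73, 3), (75, 1), (76, 3), (77, 2)],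
  [(0, 1), (1, 2), (2, 2), (3, 3), (4, 2), (5, 1), (6, 2), (7, 1), (8, 3), (10, 1), (11, 1), (13, 2), (14, 2), (15, 1), (16, 2), (18, 2), (19, 1), (20, 1), (22, 3), (23, 3), (25, 3), (26, 2), (27, 3), (29, 2), (30, 3), (31, 3), (33, 3), (34, 3), (35, 2), (36, 1), (38, 1), (40, 3), (41, 1), (43, 3), (44, 2), (45, 1), (46, 1), (47, 3), (48, 1), (49, 1), (50, 2), (51, 3), (52, 3), (53, 3), (54, 1), (57, 3), (59, 2), (60, 1), (61, 2), (63, 2), (65, 3), (66, 1), (67, 3), (68, 3), (69, 3), (70, 1), (72, 3), (73, 1), (75, 3), (76, 3), (77, 3)],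
  [(0, 2), (1, 1), (2, 3), (3, 1), (4, 2), (5, 3), (8, 3), (9, 1), (10, 2), (11, 1), (12, 2), (13, 3), (15, 3), (16, 3), (18, 1), (19, 2), (21, 2), (22, 2), (23, 1), (24, 1), (27, 1), (28, 3), (29, 3), (30, 3), (33, 3), (34, 2), (35, 1), (36, 3), (37, 1), (38, 1), (39, 3), (40, 3), (41, 2), (43, 3), (44, 1), (45, 2), (47, 3), (48, 2), (49, 1), (50, 1), (52, 1), (53, 3), (54, 1), (55, 1), (56, 1), (57, 3), (58, 1), (60, 1), (61, 3), (62, 1), (63, 2), (64, 3), (65, 1), (66, 3), (67, 1), (69, 2), (70, 2), (71, 3), (73, 3), (75, 2), (76, 3), (77, 2)],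
  [(0, 3), (1, 1), (2, 3), (3, 2), (4, 1), (5, 3), (7, 3), (8, 1), (9, 3), (10, 1), (12, 2), (16, 2), (17, 2), (18, 3), (19, 2), (20, 1), (21, 2), (22, 3), (23, 1), (25, 1), (26, 2), (27, 3), (28, 2), (29, 1), (30, 1), (31, 1), (32, 2), (33, 3), (34, 2), (35, 1), (39, 2), (40, 3), (41, 1), (42, 2), (43, 3), (44, 3), (45, 2), (46, 3), (47, 2), (48, 1), (49, 1), (50, 3), (51, 3), (52, 3), (54, 2), (55, 2), (56, 1), (57, 3), (59, 3), (61, 3), (62, 1), (63, 3), (64, 1), (65, 3), (67, 3), (68, 1), (69, 1), (70, 2), (71, 1), (72, 1), (73, 3), (75, 1), (76, 1), (77, 3)],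
  [(0, 1), (1, 2), (2, 2), (3, 2), (5, 2), (6, 3), (7, 2), (8, 2), (11, 2), (12, 3), (14, 3), (15, 3), (17, 2), (18, 1), (19, 2), (20, 2), (21, 3), (22, 1), (23, 2), (24, 2), (25, 3), (26, 3), (27, 2), (28, 1), (30, 3), (31, 3), (32, 2), (34, 2), (35, 3), (36, 1), (37, 1), (38, 1), (39, 1), (41, 3), (42, 1), (43, 2), (44, 1), (46, 3), (47, 2), (48, 1), (50, 2), (52, 2), (53, 3), (54, 3), (55, 2), (56, 1), (57, 3), (58, 3), (59, 3), (61, 3), (62, 1), (63, 2), (64, 3), (65, 3), (66, 1), (67, 2), (68, 3), (69, 3), (70, 3), (71, 2), (72, 2), (75, 2), (77, 2)],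
  [(0, 3), (1, 3), (3, 2), (4, 1), (7, 3), (8, 2), (10, 1), (12, 3), (13, 1), (15, 2), (16, 3), (17, 1), (18, 2), (19, 2), (20, 3), (21, 2), (22, 2), (23, 2), (24, 1), (25, 2), (26, 1), (27, 1), (30, 1), (31, 3), (32, 1), (33, 1), (34, 3), (35, 2), (36, 3), (37, 1), (38, 2), (40, 2), (41, 3), (43, 2), (44, 3), (45, 1), (47, 3), (48, 2), (49, 2), (50, 2), (51, 1), (52, 1), (53, 2), (55, 3), (56, 1), (57, 1), (58, 1), (60, 2), (61, 1), (63, 3), (64, 2), (68, 2), (70, 1), (75, 1), (76, 3), (77, 2)],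
  [(0, 2), (2, 2), (3, 3), (4, 1), (6, 2), (7, 3), (8, 2), (9, 1), (10, 2), (11, 1), (12, 3), (13, 3), (14, 2), (15, 2), (16, 1), (17, 1), (18, 2), (19, 3), (20, 1), (21, 3), (22, 3), (24, 1), (25, 3), (27, 3), (28, 3), (30, 1), (31, 3), (32, 3), (33, 3), (34, 3), (35, 2), (36, 1), (37, 1), (38, 3), (40, 3), (41, 1), (42, 1), (43, 1), (44, 2), (45, 1), (46, 2), (48, 2), (49, 2), (50, 2), (51, 3), (53, 1), (54, 1), (55, 1), (56, 1), (57, 3), (59, 3), (60, 2), (61, 1), (63, 1), (66, 2), (68, 2), (71, 3), (72, 3), (73, 3), (75, 1), (76, 3), (77, 3)],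
  [(0, 3), (1, 2), (2, 1), (3, 1), (4, 1), (5, 2), (7, 1), (8, 1), (9, 3), (10, 3), (11, 1), (12, 2), (13, 3), (14, 2), (15, 2), (18, 3), (19, 3), (21, 2), (24, 2), (27, 3), (30, 2), (31, 1), (32, 3), (33, 3), (36, 1), (37, 2), (38, 1), (39, 2), (40, 1), (43, 2), (44, 2), (45, 1), (46, 3), (47, 3), (48, 3), (49, 1), (50, 1), (51, 2), (52, 1), (53, 1), (54, 3), (55, 2), (57, 1), (58, 1), (59, 2), (60, 2), (61, 2), (63, 3), (66, 1), (67, 2), (68, 3), (70, 3), (71, 2), (72, 2), (73, 3), (76, 2), (77, 3)],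
  [(1, 1), (4, 1), (5, 2), (9, 2), (10, 1), (11, 3), (12, 3), (13, 3), (14, 1), (17, 1), (18, 3), (19, 3), (21, 3), (22, 1), (24, 2), (25, 1), (27, 1), (28, 2), (29, 1), (30, 1), (31, 2), (32, 1), (33, 1), (34, 2), (35, 2), (36, 2), (37, 1), (38, 2), (40, 2), (42, 2), (43, 2), (44, 1), (45, 3), (46, 1), (47, 2), (48, 3), (50, 3), (52, 1), (55, 1), (56, 1), (57, 1), (60, 3), (61, 2), (64, 1), (65, 1), (66, 3), (70, 2), (71, 3), (72, 2), (73, 1), (76, 2), (77, 3)],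
  [(0, 2), (2, 1), (3, 1), (5, 2), (8, 2), (10, 2), (11, 3), (12, 2), (13, 2), (15, 3), (16, 1), (17, 1), (18, 2), (20, 1), (21, 2), (22, 2), (24, 2), (25, 3), (27, 3), (28, 3), (29, 2), (30, 1), (31, 2), (32, 2), (34, 2), (35, 2), (36, 2), (37, 2), (38, 3), (39, 3), (41, 2), (42, 1), (43, 3), (44, 2), (45, 2), (46, 1), (48, 1), (49, 2), (50, 3), (51, 3), (52, 3), (54, 2), (55, 3), (56, 2), (57, 2), (58, 1), (60, 3), (61, 3), (63, 2), (65, 2), (67, 2), (68, 1), (71, 3), (75, 3), (77, 3)],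
  [(1, 2), (3, 3), (4, 1), (7, 3), (9, 1), (10, 2), (11, 1), (12, 3), (13, 1), (14, 2), (16, 2), (17, 2), (19, 2), (22, 1), (23, 1), (24, 2), (26, 3), (27, 2), (28, 1), (29, 3), (31, 2), (34, 2), (35, 1), (36, 2), (37, 3), (38, 2), (40, 1), (41, 2), (42, 3), (43, 2), (44, 3), (46, 1), (47, 1), (48, 3), (53, 3), (54, 3), (55, 2), (56, 2), (57, 3), (58, 3), (59, 2), (60, 2), (61, 3), (63, 1), (65, 1), (68, 2), (72, 1), (73, 2), (75, 3), (77, 1)],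
  [(0, 2), (2, 3), (5, 3), (6, 1), (7, 1), (9, 1), (10, 3), (12, 2), (13, 2), (14, 2), (15, 1), (16, 1), (18, 3), (19, 2), (21, 3), (22, 1), (23, 2), (24, 3), (25, 2), (26, 2), (28, 2), (29, 1), (30, 3), (31, 1), (32, 2), (33, 3), (34, 3), (35, 3), (36, 2), (37, 3), (39, 1), (41, 2), (42, 1), (44, 2), (45, 2), (46, 2), (47, 3), (48, 2), (49, 3), (51, 3), (52, 3), (53, 1), (54, 2), (56, 2), (58, 3), (59, 2), (60, 3), (61, 1), (62, 2), (63, 2), (65, 3), (66, 2), (67, 2), (68, 3), (69, 3), (71, 3), (72, 2), (73, 2), (75, 3)],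
  [(0, 2), (3, 1), (4, 2), (5, 1), (6, 2), (8, 3), (9, 3), (11, 2), (12, 3), (15, 1), (16, 1), (17, 2), (19, 1), (20, 1), (21, 1), (22, 3), (23, 2), (25, 3), (27, 2), (28, 2), (30, 3), (32, 3), (33, 2), (35, 3), (37, 1), (38, 2), (39, 1), (40, 1), (41, 1), (42, 3), (43, 1), (44, 3), (45, 1), (48, 1), (50, 1), (51, 1), (52, 3), (53, 1), (54, 1), (55, 2), (56, 1), (57, 2), (58, 1), (59, 1), (60, 1), (61, 1), (62, 1), (63, 1), (65, 2), (66, 3), (67, 2), (68, 2), (70, 3), (71, 3), (72, 2), (73, 1), (75, 3), (76, 1)],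
  [(0, 3), (2, 3), (4, 1), (5, 2), (6, 2), (7, 3), (8, 1), (10, 2), (13, 2), (14, 1), (15, 3), (16, 2), (17, 3), (18, 3), (19, 3), (21, 2), (22, 2), (24, 3), (25, 1), (26, 3), (27, 3), (28, 3), (30, 1), (32, 1), (33, 3), (35, 2), (36, 3), (37, 1), (38, 2), (40, 3), (41, 1), (43, 3), (44, 1), (45, 3), (46, 1), (48, 1), (49, 3), (50, 1), (51, 1), (52, 3), (53, 1), (54, 2), (55, 3), (56, 1), (57, 2), (58, 2), (59, 3), (60, 1), (63, 1), (64, 1), (65, 1), (66, 3), (67, 1), (68, 3), (69, 2), (71, 1), (72, 2), (73, 3), (75, 3), (76, 1), (77, 3)],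
  [(0, 3), (1, 2), (2, 2), (3, 2), (5, 3), (6, 1), (7, 1), (8, 2), (9, 2), (10, 3), (13, 1), (17, 1), (18, 3), (19, 2), (20, 2), (21, 1), (22, 3), (23, 1), (24, 2), (25, 3), (26, 3), (27, 2), (28, 2), (30, 1), (31, 1), (32, 1), (33, 3), (34, 3), (37, 2), (38, 1), (40, 2), (42, 1), (43, 1), (46, 2), (47, 1), (48, 2), (50, 2), (51, 1), (52, 3), (53, 3), (55, 1), (56, 1), (57, 3), (58, 1), (59, 1), (60, 1), (61, 2), (62, 2), (64, 2), (65, 2), (66, 1), (67, 3), (69, 1), (70, 2), (73, 3), (76, 1), (77, 3)],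
  [(0, 1), (1, 2), (2, 3), (3, 1), (4, 3), (5, 3), (7, 2), (8, 3), (9, 1), (11, 3), (14, 1), (15, 3), (17, 2), (18, 3), (19, 2), (20, 2), (22, 3), (23, 3), (24, 3), (25, 2), (27, 1), (28, 3), (29, 3), (30, 1), (31, 2), (32, 1), (33, 2), (34, 2), (35, 3), (37, 1), (38, 3), (39, 3), (41, 3), (42, 3), (43, 2), (45, 2), (46, 3), (47, 3), (48, 3), (50, 1), (51, 1), (54, 2), (55, 3), (56, 2), (57, 3), (58, 2), (59, 3), (60, 1), (61, 3), (62, 2), (63, 3), (64, 2), (65, 3), (66, 3), (67, 2), (68, 2), (69, 2), (71, 1), (72, 1), (76, 3), (77, 3)],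
  [(0, 2), (2, 1), (4, 3), (7, 2), (8, 1), (9, 1), (11, 3), (13, 3), (15, 2), (18, 2), (19, 1), (20, 1), (21, 1), (22, 2), (23, 1), (24, 1), (25, 2), (26, 2), (27, 2), (28, 1), (30, 2), (31, 3), (32, 3), (35, 1), (37, 1), (38, 1), (43, 2), (45, 2), (46, 3), (47, 1), (48, 2), (50, 3), (51, 1), (52, 2), (53, 2), (55, 3), (57, 3), (58, 3), (59, 1), (60, 1), (62, 1), (63, 2), (64, 2), (65, 2), (67, 1), (69, 3), (70, 3), (72, 2), (73, 2), (75, 3), (76, 1), (77, 2)],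
  [(0, 2), (1, 3), (2, 2), (5, 3), (6, 2), (7, 1), (8, 1), (10, 2), (12, 3), (13, 2), (15, 1), (17, 2), (18, 1), (19, 2), (20, 3), (21, 3), (22, 1), (24, 1), (26, 3), (27, 3), (28, 3), (29, 1), (30, 1), (31, 3), (32, 3), (33, 1), (34, 2), (35, 1), (38, 2), (39, 3), (40, 3), (41, 1), (42, 1), (44, 3), (45, 2), (46, 3), (47, 2), (48, 3), (49, 3), (51, 1), (52, 3), (53, 3), (54, 1), (55, 3), (56, 1), (57, 3), (58, 3), (59, 2), (61, 1), (62, 3), (63, 2), (64, 1), (65, 2), (66, 2), (67, 2), (68, 2), (69, 2), (70, 1), (71, 2), (73, 2), (75, 3), (76, 1), (77, 1)],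
  [(0, 3), (1, 2), (3, 2), (4, 3), (5, 1), (7, 3), (8, 2), (9, 2), (10, 3), (11, 1), (12, 1), (13, 2), (14, 3), (15, 3), (16, 3), (17, 3), (18, 2), (20, 1), (21, 3), (22, 2), (23, 3), (24, 1), (26, 2), (27, 1), (29, 1), (30, 1), (31, 2), (32, 3), (33, 3), (34, 2), (36, 2), (37, 2), (38, 3), (39, 3), (40, 1), (41, 1), (42, 1), (43, 2), (44, 3), (46, 1), (47, 3), (51, 3), (52, 2), (53, 1), (56, 3), (57, 2), (58, 1), (60, 3), (61, 2), (62, 2), (63, 2), (64, 3), (65, 2), (66, 1), (67, 2), (70, 1), (71, 3), (72, 3), (73, 3), (76, 2), (77, 2)],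
  [(0, 1), (2, 1), (8, 1), (9, 3), (10, 2), (12, 3), (13, 2), (14, 3), (16, 1), (17, 1), (18, 1), (19, 2), (20, 1), (22, 3), (23, 1), (24, 3), (25, 2), (26, 1), (27, 2), (28, 2), (29, 1), (32, 2), (36, 1), (37, 2), (38, 3), (39, 3), (40, 1), (42, 1), (43, 3), (44, 2), (45, 3), (46, 3), (47, 1), (48, 2), (49, 3), (50, 1), (51, 3), (53, 3), (54, 1), (55, 3), (56, 1), (57, 1), (60, 2), (61, 2), (62, 1), (63, 2), (64, 1), (67, 2), (68, 3), (70, 3), (71, 3), (72, 1), (75, 1), (76, 1), (77, 2)],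
  [(0, 3), (4, 1), (6, 2), (8, 1), (10, 3), (11, 2), (12, 2), (13, 2), (14, 1), (15, 3), (19, 3), (20, 1), (21, 1), (22, 1), (23, 2), (24, 2), (26, 1), (27, 2), (29, 1), (30, 2), (31, 3), (34, 3), (36, 3), (38, 1), (39, 1), (40, 1), (41, 2), (42, 2), (43, 3), (45, 3), (46, 2), (48, 2), (49, 1), (50, 1), (52, 1), (53, 1), (55, 3), (56, 3), (57, 1), (58, 2), (59, 1), (60, 2), (63, 1), (64, 1), (65, 2), (69, 1), (70, 2), (72, 3), (73, 2), (76, 2)],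
  [(2, 1), (3, 2), (4, 3), (5, 3), (8, 1), (10, 1), (12, 3), (13, 3), (14, 3), (15, 2), (16, 3), (17, 1), (18, 3), (19, 2), (20, 2), (21, 2), (23, 2), (24, 2), (25, 1), (26, 3), (29, 3), (30, 3), (33, 1), (35, 1), (36, 3), (39, 2), (40, 2), (42, 3), (43, 3), (44, 2), (45, 1), (46, 1), (47, 1), (48, 3), (50, 3), (51, 1), (52, 1), (54, 2), (55, 2), (56, 3), (57, 3), (59, 1), (60, 3), (61, 1), (63, 2), (64, 3), (65, 3), (66, 2), (67, 2), (68, 1), (69, 1), (70, 2), (71, 1), (73, 1), (75, 1), (76, 1)],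
  [(0, 1), (1, 2), (2, 2), (3, 3), (4, 1), (5, 1), (7, 3), (9, 3), (10, 1), (11, 3), (12, 1), (13, 2), (14, 2), (15, 1), (16, 2), (18, 2), (19, 2), (21, 2), (22, 2), (24, 2), (25, 1), (26, 1), (27, 3), (28, 2), (29, 2), (30, 2), (32, 3), (33, 2), (34, 1), (36, 1), (37, 3), (38, 2), (39, 1), (40, 1), (41, 1), (42, 1), (43, 1), (44, 3), (46, 3), (47, 2), (48, 3), (50, 3), (51, 3), (53, 2), (54, 2), (55, 3), (56, 2), (57, 2), (58, 2), (59, 3), (60, 3), (61, 3), (62, 2), (63, 2), (64, 1), (65, 2), (66, 1), (67, 1), (68, 1), (70, 3), (71, 2), (72, 1), (75, 3), (76, 1), (77, 1)],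
  [(0, 2), (1, 2), (3, 1), (4, 2), (10, 3), (12, 1), (13, 3), (14, 3), (15, 3), (17, 2), (18, 3), (19, 2), (20, 2), (21, 2), (22, 1), (23, 1), (24, 3), (25, 3), (26, 3), (27, 2), (28, 3), (29, 1), (30, 3), (31, 2), (35, 1), (36, 3), (37, 2), (38, 2), (39, 1), (40, 1), (41, 2), (42, 3), (43, 1), (44, 2), (45, 2), (46, 3), (48, 1), (49, 1), (50, 1), (51, 3), (52, 3), (54, 2), (55, 2), (56, 2), (57, 1), (58, 1), (59, 3), (60, 2), (62, 2), (63, 1), (64, 2), (65, 3), (66, 3), (67, 2), (70, 1), (72, 1), (76, 2), (77, 1)],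
  [(1, 1), (3, 1), (4, 1), (6, 2), (9, 3), (10, 3), (11, 2), (12, 3), (15, 2), (18, 3), (20, 1), (21, 1), (22, 2), (23, 3), (24, 1), (25, 1), (26, 3), (27, 1), (29, 3), (30, 2), (33, 3), (36, 1), (37, 1), (39, 1), (40, 3), (41, 2), (42, 2), (43, 2), (44, 3), (45, 1), (47, 2), (48, 1), (51, 2), (53, 2), (55, 2), (56, 2), (57, 1), (60, 1), (62, 3), (63, 3), (64, 1), (66, 1), (68, 2), (69, 2), (70, 2), (71, 2), (75, 2), (76, 3), (77, 3)],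
  [(0, 1), (1, 3), (2, 2), (4, 1), (5, 3), (7, 1), (8, 3), (9, 1), (10, 3), (11, 1), (12, 1), (13, 3), (14, 2), (15, 2), (16, 2), (18, 3), (19, 1), (20, 1), (21, 3), (22, 3), (30, 2), (33, 1), (34, 2), (35, 2), (36, 1), (37, 2), (41, 2), (42, 3), (43, 3), (44, 3), (47, 3), (49, 2), (52, 3), (53, 2), (54, 3), (55, 3), (56, 2), (57, 2), (59, 1), (60, 2), (64, 2), (65, 2), (66, 2), (67, 3), (68, 3), (69, 2), (70, 2), (72, 1), (73, 2), (77, 3)],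
  [(0, 2), (2, 3), (3, 2), (5, 1), (6, 1), (7, 1), (8, 1), (9, 1), (11, 1), (12, 1), (14, 2), (15, 2), (18, 1), (19, 2), (20, 3), (21, 2), (22, 3), (24, 3), (25, 1), (26, 3), (27, 1), (28, 2), (30, 1), (32, 3), (33, 1), (34, 1), (35, 2), (36, 3), (37, 3), (38, 3), (39, 3), (42, 1), (43, 1), (44, 3), (45, 1), (47, 1), (48, 3), (49, 3), (50, 2), (51, 1), (53, 1), (54, 3), (55, 3), (56, 3), (57, 3), (58, 3), (59, 2), (60, 3), (61, 2), (62, 2), (63, 2), (65, 2), (66, 2), (68, 2), (69, 3), (71, 2), (73, 3), (75, 2), (77, 2)],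
  [(0, 2), (1, 1), (2, 1), (3, 2), (5, 3), (6, 3), (7, 1), (8, 2), (10, 2), (11, 1), (12, 2), (13, 1), (15, 3), (16, 3), (18, 1), (19, 3), (20, 2), (22, 2), (23, 2), (25, 3), (27, 1), (28, 2), (29, 3), (30, 3), (31, 2), (32, 3), (34, 1), (35, 3), (37, 1), (38, 1), (42, 1), (43, 2), (44, 1), (46, 3), (47, 2), (49, 2), (50, 1), (56, 3), (58, 2), (60, 3), (61, 2), (62, 2), (63, 3), (64, 3), (65, 2), (66, 3), (68, 2), (69, 3), (71, 1), (72, 1), (76, 3), (77, 1)],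
  [(0, 2), (3, 1), (4, 1), (5, 1), (7, 3), (8, 2), (9, 1), (10, 2), (12, 1), (13, 1), (14, 1), (15, 3), (16, 3), (17, 2), (18, 1), (19, 2), (20, 1), (21, 1), (22, 3), (23, 2), (24, 3), (26, 2), (27, 3), (28, 1), (30, 1), (31, 2), (32, 2), (33, 2), (34, 2), (35, 3), (36, 2), (37, 2), (38, 3), (39, 1), (40, 3), (41, 1), (42, 1), (43, 1), (45, 2), (46, 2), (47, 1), (48, 2), (49, 3), (50, 3), (51, 3), (52, 1), (54, 2), (55, 1), (57, 3), (59, 1), (61, 1), (62, 2), (64, 1), (65, 3), (67, 1), (68, 1), (71, 2), (72, 2), (73, 1), (75, 2), (76, 3), (77, 3)],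
  [(0, 3), (1, 1), (2, 3), (3, 1), (4, 1), (5, 1), (6, 2), (7, 2), (10, 1), (11, 1), (13, 2), (14, 1), (15, 1), (17, 2), (19, 1), (20, 2), (21, 1), (23, 3), (25, 3), (26, 3), (28, 1), (29, 2), (30, 2), (31, 3), (32, 1), (35, 1), (36, 3), (39, 3), (40, 3), (41, 3), (42, 2), (43, 2), (44, 2), (45, 3), (48, 3), (50, 2), (51, 3), (53, 2), (54, 1), (55, 3), (56, 2), (57, 3), (58, 2), (60, 1), (61, 2), (62, 2), (63, 1), (67, 2), (68, 3), (69, 3), (70, 3), (71, 1), (72, 3), (73, 2), (75, 2), (76, 1), (77, 1)],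
  [(0, 1), (1, 3), (3, 1), (4, 3), (5, 3), (6, 2), (7, 3), (8, 2), (9, 3), (11, 3), (12, 1), (13, 3), (14, 1), (15, 1), (16, 2), (17, 3), (18, 1), (19, 2), (21, 1), (22, 2), (24, 1), (25, 2), (26, 2), (27, 3), (28, 3), (29, 1), (30, 2), (31, 3), (32, 1), (33, 1), (34, 3), (36, 3), (37, 2), (38, 2), (39, 2), (40, 1), (43, 2), (45, 2), (46, 1), (47, 2), (49, 3), (51, 3), (52, 2), (53, 1), (54, 2), (55, 2), (56, 3), (57, 2), (58, 1), (59, 1), (60, 2), (61, 3), (62, 1), (63, 2), (64, 1), (66, 3), (67, 2), (69, 1), (70, 2), (71, 1), (73, 2), (75, 1), (76, 3)],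
  [(0, 1), (1, 2), (3, 2), (4, 1), (7, 3), (8, 3), (11, 1), (12, 3), (13, 3), (14, 3), (15, 2), (17, 2), (18, 2), (19, 2), (20, 1), (21, 3), (22, 1), (26, 2), (28, 2), (29, 2), (31, 1), (32, 1), (35, 2), (36, 2), (37, 3), (38, 3), (39, 1), (40, 2), (41, 3), (43, 2), (44, 1), (45, 3), (46, 1), (49, 1), (51, 1), (53, 1), (54, 2), (55, 2), (57, 2), (58, 1), (60, 3), (61, 2), (62, 3), (63, 1), (64, 1), (65, 1), (66, 3), (67, 3), (68, 1), (69, 2), (70, 1), (71, 2), (72, 3), (73, 2), (75, 3), (76, 2), (77, 2)],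
  [(0, 1), (1, 1), (2, 2), (3, 1), (5, 2), (6, 3), (7, 1), (8, 2), (9, 1), (10, 3), (11, 2), (14, 2), (15, 2), (17, 1), (18, 1), (19, 1), (20, 1), (21, 3), (23, 2), (24, 3), (27, 2), (28, 1), (29, 3), (30, 1), (31, 1), (32, 1), (33, 1), (34, 3), (35, 3), (37, 2), (38, 3), (39, 1), (40, 1), (41, 3), (42, 2), (44, 2), (46, 1), (47, 1), (48, 2), (49, 3), (52, 2), (53, 1), (55, 3), (56, 2), (58, 1), (60, 1), (61, 2), (62, 2), (64, 3), (66, 1), (67, 1), (68, 1), (69, 1), (70, 1), (71, 2), (72, 2), (73, 1), (75, 1), (76, 3), (77, 3)],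
  [(0, 3), (1, 2), (2, 2), (7, 1), (8, 3), (9, 1), (10, 1), (11, 1), (13, 2), (16, 1), (18, 3), (19, 3), (20, 2), (22, 1), (23, 3), (24, 3), (26, 2), (27, 2), (28, 3), (30, 1), (31, 3), (32, 3), (33, 1), (35, 2), (36, 2), (38, 3), (39, 2), (41, 1), (42, 1), (45, 2), (46, 3), (47, 1), (48, 2), (49, 3), (50, 1), (51, 2), (52, 1), (55, 1), (56, 1), (58, 3), (59, 3), (61, 3), (62, 3), (65, 3), (66, 2), (69, 1), (70, 1), (71, 1), (72, 3), (73, 1), (76, 3), (77, 3)],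
  [(1, 3), (2, 3), (3, 1), (4, 1), (5, 3), (7, 3), (8, 3), (9, 3), (10, 3), (11, 3), (12, 1), (14, 1), (16, 1), (17, 2), (19, 2), (20, 3), (21, 1), (22, 1), (23, 3), (24, 2), (25, 1), (26, 3), (27, 3), (29, 3), (30, 2), (31, 3), (32, 3), (34, 1), (35, 3), (36, 2), (37, 1), (38, 1), (39, 1), (40, 2), (41, 2), (42, 3), (44, 3), (45, 3), (47, 3), (49, 1), (50, 1), (51, 2), (53, 2), (54, 2), (55, 1), (56, 3), (57, 3), (59, 1), (60, 2), (61, 3), (62, 3), (63, 3), (65, 2), (66, 1), (67, 1), (68, 1), (69, 2), (70, 1), (72, 3), (73, 2), (75, 1), (76, 2), (77, 1)],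
  [(0, 1), (1, 3), (3, 1), (4, 3), (5, 2), (6, 2), (8, 3), (9, 1), (10, 3), (11, 1), (14, 3), (15, 2), (17, 1), (18, 3), (22, 2), (24, 3), (25, 2), (27, 2), (28, 3), (29, 2), (30, 1), (31, 3), (32, 3), (33, 3), (34, 3), (35, 1), (36, 3), (37, 2), (38, 1), (39, 1), (41, 1), (42, 1), (44, 1), (45, 3), (46, 2), (47, 2), (48, 3), (49, 3), (50, 1), (52, 1), (54, 1), (55, 2), (56, 3), (58, 1), (59, 3), (61, 1), (62, 1), (63, 2), (64, 1), (67, 3), (68, 1), (69, 1), (70, 2), (72, 3), (73, 2), (75, 3), (76, 2), (77, 1)],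
  [(0, 1), (1, 2), (2, 2), (5, 3), (6, 3), (7, 3), (8, 2), (10, 2), (12, 3), (15, 2), (17, 3), (20, 1), (21, 1), (22, 1), (23, 2), (24, 3), (25, 1), (26, 1), (28, 2), (29, 3), (30, 3), (32, 2), (33, 2), (34, 1), (35, 2), (36, 1), (38, 2), (39, 3), (40, 2), (41, 3), (42, 1), (43, 3), (44, 1), (45, 3), (46, 2), (47, 1), (51, 1), (52, 2), (53, 3), (54, 2), (55, 3), (57, 3), (58, 1), (59, 1), (60, 3), (61, 2), (63, 1), (65, 1), (66, 3), (67, 1), (68, 1), (69, 3), (70, 3), (71, 3), (72, 3), (73, 1), (75, 1)],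
  [(0, 2), (1, 1), (3, 2), (5, 1), (6, 3), (7, 2), (8, 2), (9, 2), (10, 2), (12, 1), (13, 1), (14, 2), (15, 3), (16, 3), (18, 2), (19, 2), (21, 3), (22, 3), (24, 2), (25, 3), (27, 2), (28, 2), (30, 1), (31, 2), (32, 2), (33, 3), (34, 3), (35, 2), (36, 3), (37, 2), (38, 2), (40, 3), (41, 2), (42, 2), (43, 3), (44, 1), (46, 1), (47, 3), (49, 1), (51, 2), (52, 2), (53, 2), (54, 3), (57, 3), (58, 3), (59, 3), (61, 2), (62, 1), (63, 1), (64, 2), (65, 2), (68, 3), (69, 2), (70, 1), (72, 1), (75, 3), (76, 2), (77, 1)],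
  [(0, 3), (4, 1), (5, 3), (6, 3), (8, 1), (9, 3), (10, 1), (11, 1), (13, 3), (15, 2), (16, 3), (17, 3), (19, 1), (20, 2), (21, 2), (24, 1), (26, 2), (28, 3), (29, 1), (30, 1), (31, 3), (32, 3), (33, 3), (34, 1), (35, 2), (36, 2), (37, 3), (40, 1), (41, 1), (42, 3), (43, 2), (47, 3), (48, 3), (49, 1), (50, 1), (51, 1), (53, 3), (54, 3), (55, 3), (56, 2), (57, 3), (58, 3), (60, 3), (61, 3), (66, 1), (67, 1), (68, 3), (69, 2), (70, 1), (71, 1), (72, 3), (73, 3), (75, 3), (76, 3), (77, 1)],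
  [(1, 1), (2, 1), (4, 1), (5, 1), (6, 2), (7, 1), (8, 3), (9, 2), (10, 3), (11, 1), (12, 1), (13, 2), (14, 2), (15, 3), (17, 2), (18, 3), (19, 3), (20, 2), (21, 2), (22, 1), (23, 2), (24, 3), (25, 1), (26, 3), (27, 3), (28, 3), (29, 3), (31, 1), (32, 2), (33, 1), (34, 3), (38, 2), (39, 1), (40, 2), (41, 1), (42, 1), (43, 3), (44, 2), (45, 1), (46, 3), (47, 1), (48, 2), (50, 3), (51, 2), (52, 3), (53, 3), (54, 1), (55, 3), (57, 2), (58, 2), (59, 2), (60, 2), (61, 3), (62, 2), (63, 1), (65, 2), (66, 2), (68, 1), (70, 1), (72, 2), (73, 3), (75, 3), (76, 3), (77, 2)],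
  [(0, 1), (1, 3), (2, 2), (3, 3), (5, 3), (6, 2), (7, 2), (8, 1), (9, 2), (10, 3), (11, 2), (12, 2), (14, 3), (15, 2), (16, 3), (17, 1), (18, 2), (19, 1), (21, 2), (22, 3), (23, 1), (24, 3), (26, 1), (28, 1), (29, 2), (30, 2), (33, 3), (34, 1), (35, 1), (36, 2), (38, 2), (39, 3), (40, 3), (41, 1), (42, 1), (43, 3), (44, 2), (45, 1), (46, 2), (47, 2), (48, 1), (49, 1), (51, 2), (52, 1), (53, 1), (54, 3), (56, 2), (57, 2), (58, 3), (59, 1), (60, 2), (61, 1), (62, 3), (63, 2), (64, 2), (66, 1), (67, 3), (69, 1), (70, 1), (72, 3), (73, 1), (75, 3), (76, 1), (77, 3)],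
  [(0, 3), (2, 2), (3, 3), (5, 3), (6, 3), (7, 1), (8, 3), (9, 1), (10, 1), (12, 1), (13, 3), (14, 2), (17, 2), (19, 3), (20, 2), (21, 2), (22, 2), (23, 2), (24, 1), (25, 1), (26, 2), (27, 3), (28, 1), (29, 3), (30, 2), (31, 2), (32, 2), (33, 3), (34, 2), (35, 3), (36, 2), (37, 2), (38, 1), (42, 3), (43, 3), (44, 3), (46, 2), (47, 3), (48, 2), (49, 1), (50, 1), (51, 2), (52, 3), (53, 2), (54, 2), (55, 3), (56, 1), (58, 3), (59, 2), (60, 3), (61, 2), (63, 3), (64, 2), (66, 3), (67, 3), (68, 2), (69, 1), (71, 1), (72, 3), (75, 1), (77, 3)],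
  [(0, 3), (2, 1), (3, 1), (4, 3), (5, 3), (7, 3), (9, 2), (10, 2), (12, 3), (14, 1), (16, 1), (18, 1), (19, 1), (20, 1), (22, 2), (23, 1), (24, 1), (26, 3), (29, 3), (30, 3), (31, 3), (32, 3), (34, 3), (35, 3), (36, 3), (37, 1), (38, 1), (39, 2), (40, 2), (41, 2), (42, 1), (43, 2), (46, 3), (48, 2), (49, 1), (50, 1), (51, 3), (52, 3), (53, 2), (55, 3), (56, 2), (57, 3), (58, 2), (59, 1), (60, 2), (61, 3), (62, 2), (63, 3), (64, 3), (65, 3), (66, 2), (67, 3), (69, 1), (70, 2), (76, 1), (77, 1)],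
  [(0, 2), (1, 1), (3, 3), (4, 3), (5, 2), (6, 2), (7, 1), (8, 2), (9, 1), (10, 1), (11, 1), (13, 1), (14, 3), (15, 2), (16, 1), (17, 1), (19, 2), (20, 2), (21, 2), (22, 2), (23, 3), (24, 2), (25, 2), (28, 2), (29, 1), (30, 2), (31, 2), (32, 1), (33, 3), (34, 3), (35, 1), (36, 3), (37, 3), (38, 1), (40, 2), (41, 1), (42, 2), (43, 3), (44, 3), (45, 1), (46, 2), (47, 2), (48, 3), (49, 2), (51, 3), (55, 1), (56, 1), (57, 1), (59, 3), (60, 3), (64, 1), (65, 2), (67, 1), (69, 3), (72, 1), (73, 1), (75, 3), (76, 2)],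
  [(0, 2), (2, 3), (3, 3), (4, 3), (6, 2), (7, 3), (8, 2), (9, 3), (10, 1), (11, 2), (12, 3), (13, 3), (15, 3), (16, 3), (17, 2), (20, 2), (22, 1), (23, 2), (26, 1), (28, 3), (29, 2), (30, 1), (31, 2), (32, 1), (33, 2), (37, 3), (38, 1), (41, 1), (42, 2), (43, 3), (44, 1), (45, 1), (46, 3), (48, 1), (49, 3), (50, 3), (51, 1), (52, 1), (54, 2), (55, 1), (57, 2), (58, 1), (59, 2), (60, 1), (62, 3), (63, 1), (64, 2), (65, 3), (67, 1), (68, 1), (69, 2), (70, 3), (71, 1), (72, 1), (73, 2), (75, 1), (77, 1)],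
  [(0, 2), (2, 3), (3, 1), (5, 1), (6, 1), (7, 3), (8, 2), (9, 1), (10, 2), (11, 2), (13, 3), (14, 3), (15, 1), (16, 1), (17, 1), (19, 1), (20, 2), (21, 2), (22, 3), (23, 2), (24, 1), (26, 2), (27, 3), (29, 3), (30, 1), (31, 1), (34, 2), (35, 3), (37, 1), (38, 2), (39, 1), (40, 3), (41, 2), (42, 3), (43, 3), (44, 1), (45, 1), (46, 2), (47, 2), (48, 2), (49, 1), (50, 2), (51, 3), (52, 3), (53, 1), (55, 1), (57, 3), (58, 3), (59, 2), (60, 1), (62, 2), (63, 1), (66, 1), (67, 2), (68, 1), (69, 1), (72, 2), (73, 1), (75, 1), (77, 2)],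
  [(0, 1), (3, 1), (4, 3), (5, 2), (8, 2), (9, 1), (10, 1), (13, 2), (14, 2), (17, 1), (18, 3), (19, 3), (20, 1), (22, 1), (23, 1), (24, 2), (25, 3), (27, 3), (29, 2), (30, 1), (32, 2), (33, 1), (36, 1), (37, 1), (38, 1), (39, 2), (40, 1), (42, 1), (44, 1), (45, 2), (46, 3), (47, 3), (49, 3), (50, 2), (52, 3), (54, 1), (55, 2), (56, 3), (57, 3), (58, 2), (60, 2), (61, 2), (63, 1), (64, 1), (65, 1), (66, 1), (67, 3), (69, 2), (70, 2), (71, 1), (73, 3), (75, 2), (76, 3)],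
  [(0, 2), (2, 3), (6, 3), (7, 2), (9, 3), (10, 2), (11, 1), (12, 1), (14, 1), (16, 3), (18, 1), (19, 2), (20, 1), (21, 2), (22, 1), (24, 3), (25, 2), (26, 3), (28, 1), (29, 3), (30, 1), (31, 2), (32, 2), (35, 3), (38, 1), (41, 2), (42, 3), (44, 3), (45, 1), (47, 2), (48, 3), (49, 2), (51, 3), (52, 3), (53, 3), (54, 2), (55, 3), (57, 2), (58, 3), (59, 2), (60, 1), (61, 1), (62, 1), (63, 3), (64, 2), (65, 2), (66, 3), (68, 1), (70, 3), (72, 1), (75, 3), (76, 2), (77, 3)],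
  [(0, 1), (1, 3), (2, 3), (4, 3), (5, 3), (6, 3), (7, 2), (8, 1), (10, 1), (12, 2), (13, 2), (14, 2), (15, 2), (17, 3), (18, 2), (19, 1), (20, 1), (21, 3), (22, 2), (25, 2), (27, 1), (28, 3), (30, 1), (31, 2), (34, 1), (35, 2), (36, 2), (37, 1), (38, 3), (41, 1), (42, 2), (43, 3), (44, 1), (46, 1), (47, 1), (48, 2), (49, 1), (50, 2), (51, 1), (52, 3), (53, 1), (55, 1), (56, 2), (57, 1), (58, 2), (59, 2), (60, 3), (61, 2), (62, 3), (63, 1), (64, 3), (65, 3), (67, 3), (68, 3), (69, 3), (70, 3), (71, 1), (72, 3), (73, 3), (75, 2), (76, 1)],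
  [(0, 1), (1, 1), (2, 1), (3, 3), (5, 2), (6, 1), (7, 2), (8, 2), (9, 3), (12, 1), (15, 1), (18, 2), (20, 1), (21, 3), (22, 2), (23, 1), (26, 2), (27, 1), (28, 1), (29, 1), (30, 1), (32, 1), (35, 2), (36, 1), (37, 2), (38, 3), (39, 1), (40, 2), (41, 1), (42, 1), (43, 2), (44, 2), (45, 3), (46, 2), (49, 3), (50, 1), (51, 3), (52, 2), (53, 2), (54, 3), (55, 1), (57, 2), (59, 1), (60, 1), (62, 2), (63, 2), (64, 1), (65, 3), (66, 1), (67, 2), (68, 2), (69, 2), (70, 3), (71, 2), (73, 1), (75, 3), (76, 2), (77, 1)],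
  [(1, 3), (2, 2), (3, 2), (4, 2), (5, 2), (6, 2), (7, 2), (8, 1), (10, 3), (11, 2), (12, 2), (15, 3), (16, 3), (18, 2), (20, 2), (21, 2), (22, 2), (23, 3), (25, 2), (26, 2), (27, 3), (29, 3), (30, 2), (31, 3), (32, 1), (33, 1), (35, 3), (37, 3), (38, 2), (41, 1), (42, 2), (44, 2), (45, 3), (46, 2), (47, 2), (48, 3), (51, 2), (53, 2), (54, 2), (55, 1), (56, 1), (57, 1), (58, 1), (61, 3), (62, 2), (63, 2), (65, 1), (66, 3), (67, 1), (70, 1), (71, 2), (72, 1), (73, 3), (75, 1), (77, 2)],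
  [(0, 2), (1, 3), (3, 1), (4, 2), (5, 2), (6, 1), (7, 1), (9, 3), (10, 3), (12, 3), (13, 2), (15, 1), (16, 3), (17, 1), (18, 1), (19, 2), (21, 2), (22, 1), (23, 3), (24, 1), (25, 3), (28, 3), (29, 2), (32, 3), (33, 3), (36, 2), (37, 2), (38, 2), (39, 3), (40, 2), (41, 2), (42, 3), (43, 2), (44, 3), (45, 3), (48, 1), (49, 2), (50, 3), (51, 2), (52, 2), (54, 1), (56, 2), (57, 1), (58, 2), (59, 3), (60, 1), (61, 1), (62, 2), (63, 1), (64, 3), (65, 1), (66, 3), (67, 2), (68, 1), (70, 3), (71, 1), (72, 1), (73, 1)],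
  [(0, 3), (2, 3), (3, 1), (4, 3), (6, 1), (7, 2), (9, 3), (11, 2), (12, 3), (13, 2), (14, 3), (15, 2), (18, 3), (19, 3), (20, 1), (21, 2), (22, 3), (23, 2), (24, 1), (25, 1), (27, 1), (30, 1), (31, 1), (32, 1), (33, 1), (34, 1), (37, 1), (39, 2), (40, 3), (41, 1), (42, 3), (44, 3), (45, 1), (46, 1), (47, 1), (49, 2), (50, 2), (52, 3), (54, 1), (55, 3), (56, 1), (57, 2), (59, 1), (60, 3), (61, 3), (62, 1), (63, 1), (66, 1), (68, 2), (69, 2), (70, 2), (71, 1), (72, 1), (73, 2), (75, 2), (76, 3)],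
  [(0, 1), (1, 2), (2, 1), (3, 2), (4, 1), (6, 2), (7, 2), (8, 1), (10, 3), (11, 1), (12, 3), (13, 2), (14, 3), (17, 3), (18, 2), (19, 1), (20, 3), (21, 3), (22, 1), (23, 2), (24, 2), (25, 2), (27, 3), (31, 1), (34, 3), (35, 3), (36, 3), (37, 3), (38, 1), (39, 3), (42, 2), (43, 3), (44, 3), (45, 2), (47, 2), (48, 3), (49, 1), (50, 2), (52, 1), (53, 3), (54, 3), (55, 2), (57, 2), (58, 3), (59, 1), (60, 3), (62, 1), (63, 2), (64, 2), (65, 3), (66, 1), (67, 1), (68, 2), (69, 1), (72, 2), (76, 2)],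
  [(0, 3), (1, 1), (2, 3), (4, 3), (5, 2), (7, 1), (8, 1), (9, 3), (10, 3), (11, 3), (12, 1), (14, 1), (15, 3), (17, 3), (18, 1), (20, 2), (22, 3), (23, 3), (24, 2), (25, 3), (26, 1), (27, 2), (28, 3), (30, 2), (31, 2), (32, 2), (34, 3), (35, 3), (36, 2), (37, 2), (38, 3), (39, 2), (40, 3), (41, 1), (43, 1), (45, 3), (46, 2), (47, 3), (50, 1), (51, 3), (52, 3), (53, 3), (54, 2), (55, 2), (57, 1), (58, 2), (61, 1), (62, 1), (63, 3), (64, 2), (67, 1), (68, 2), (69, 3), (70, 2), (71, 1), (73, 2), (75, 1), (76, 3), (77, 1)],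
  [(0, 1), (1, 1), (2, 2), (3, 3), (4, 1), (5, 2), (7, 1), (8, 3), (9, 2), (10, 2), (11, 1), (12, 2), (13, 2), (14, 2), (15, 2), (16, 2), (17, 1), (18, 1), (20, 1), (22, 2), (23, 1), (24, 2), (25, 1), (26, 1), (27, 3), (28, 1), (29, 3), (30, 3), (31, 1), (32, 3), (33, 1), (34, 3), (35, 1), (37, 3), (38, 1), (41, 1), (42, 1), (44, 3), (45, 2), (46, 3), (48, 2), (49, 2), (50, 2), (51, 2), (52, 3), (53, 1), (54, 2), (55, 3), (56, 3), (57, 1), (61, 3), (62, 3), (63, 1), (64, 3), (66, 2), (67, 1), (68, 1), (69, 2), (71, 3), (72, 1), (73, 1), (75, 3)],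
  [(0, 1), (2, 1), (3, 2), (4, 1), (5, 3), (6, 3), (8, 1), (9, 3), (10, 3), (12, 3), (13, 2), (15, 1), (16, 3), (17, 3), (18, 3), (20, 1), (24, 2), (25, 3), (26, 2), (27, 1), (28, 2), (29, 1), (30, 3), (31, 2), (32, 3), (33, 3), (34, 1), (35, 2), (36, 3), (37, 1), (39, 3), (40, 2), (42, 1), (43, 2), (44, 1), (46, 1), (48, 2), (49, 3), (50, 3), (51, 3), (52, 1), (53, 3), (55, 3), (56, 1), (57, 2), (58, 2), (60, 2), (62, 2), (63, 1), (64, 1), (65, 2), (66, 1), (71, 1), (72, 3), (73, 1), (75, 1), (76, 1)],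
  [(0, 1), (2, 1), (3, 2), (4, 3), (5, 1), (6, 2), (8, 2), (9, 1), (10, 2), (11, 1), (12, 3), (13, 1), (14, 3), (15, 2), (16, 2), (17, 3), (18, 2), (20, 2), (24, 2), (25, 3), (26, 2), (27, 1), (28, 2), (29, 1), (30, 1), (32, 1), (33, 2), (37, 3), (38, 3), (39, 2), (40, 1), (41, 3), (42, 3), (43, 2), (44, 3), (46, 3), (47, 1), (48, 3), (50, 3), (51, 2), (52, 2), (53, 2), (54, 2), (56, 3), (57, 1), (58, 2), (59, 3), (60, 2), (61, 2), (62, 2), (63, 3), (64, 3), (66, 2), (67, 2), (70, 1), (72, 2), (76, 3), (77, 1)],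
  [(0, 2), (1, 1), (2, 1), (3, 1), (4, 1), (5, 3), (7, 1), (9, 2), (10, 3), (11, 2), (13, 1), (14, 1), (17, 2), (18, 1), (19, 2), (22, 3), (24, 2), (25, 3), (26, 1), (27, 3), (28, 1), (29, 3), (30, 1), (31, 2), (32, 2), (33, 2), (34, 2), (36, 1), (37, 2), (38, 3), (39, 3), (40, 3), (41, 1), (43, 1), (45, 2), (46, 1), (48, 3), (49, 2), (50, 1), (52, 2), (53, 2), (55, 2), (56, 2), (57, 2), (58, 3), (59, 3), (64, 3), (65, 1), (66, 2), (67, 3), (69, 2), (70, 1), (71, 1), (72, 2), (73, 1)],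
  [],
  [(0, 2), (1, 3), (2, 1), (3, 1), (4, 1), (6, 3), (7, 2), (8, 2), (9, 3), (11, 3), (13, 3), (14, 1), (15, 3), (16, 1), (17, 1), (18, 3), (20, 2), (21, 1), (22, 1), (23, 3), (24, 2), (25, 1), (26, 1), (27, 1), (28, 1), (29, 1), (30, 3), (31, 1), (33, 3), (34, 1), (35, 3), (36, 1), (38, 3), (39, 1), (40, 2), (42, 1), (43, 1), (44, 2), (46, 1), (48, 3), (50, 2), (51, 3), (52, 2), (53, 1), (54, 3), (56, 1), (57, 3), (58, 1), (59, 2), (60, 3), (62, 3), (63, 3), (64, 2), (65, 1), (66, 3), (68, 1), (69, 3), (71, 3), (73, 1), (75, 3), (76, 1), (77, 1)],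
  [(0, 2), (2, 1), (3, 1), (4, 2), (5, 1), (7, 1), (9, 3), (10, 3), (11, 1), (13, 1), (14, 1), (16, 1), (18, 3), (19, 3), (20, 3), (21, 3), (22, 3), (23, 2), (25, 1), (28, 1), (29, 2), (30, 3), (31, 3), (32, 1), (34, 1), (35, 2), (36, 2), (38, 2), (42, 2), (43, 2), (44, 1), (45, 1), (46, 3), (47, 1), (48, 3), (52, 1), (54, 1), (55, 3), (56, 1), (58, 1), (59, 1), (62, 2), (64, 2), (65, 1), (66, 1), (69, 3), (70, 2), (71, 3), (73, 2), (75, 3), (76, 1), (77, 2)],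
  [(1, 1), (2, 1), (3, 2), (4, 1), (6, 1), (8, 2), (9, 1), (10, 2), (11, 1), (13, 3), (14, 2), (15, 1), (16, 3), (17, 3), (18, 3), (19, 2), (20, 1), (21, 2), (22, 3), (23, 1), (24, 1), (26, 3), (27, 3), (28, 2), (29, 3), (30, 2), (32, 2), (33, 1), (34, 1), (37, 1), (39, 3), (42, 1), (43, 3), (44, 3), (45, 2), (46, 2), (49, 3), (50, 2), (51, 2), (54, 1), (55, 1), (56, 3), (58, 3), (59, 2), (60, 1), (61, 3), (62, 2), (63, 2), (64, 1), (65, 1), (67, 1), (68, 2), (69, 2), (70, 3), (72, 3), (75, 1), (76, 3), (77, 2)]]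

/-- A spanning set. -/
def sMat : List (List (ℕ × ℕ)) := [
  [(4, 1), (5, 3), (7, 3), (9, 3), (10, 3), (12, 2), (13, 3), (14, 2), (15, 3), (16, 3), (18, 2), (19, 1), (20, 1), (21, 1), (22, 3), (23, 3), (24, 2), (25, 2), (26, 3), (27, 1), (28, 2), (30, 1), (31, 1), (33, 3), (34, 2), (35, 2), (36, 2), (37, 2), (38, 3), (39, 3), (41, 3), (42, 2), (43, 3), (45, 1), (48, 2), (49, 2), (51, 3), (52, 1), (53, 3), (54, 1), (56, 3), (58, 2), (59, 1), (60, 2), (61, 2), (62, 3), (63, 1), (64, 3), (65, 1), (66, 3), (68, 3), (70, 1), (71, 1), (72, 3), (73, 1), (74, 1), (76, 2), (77, 1)],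
  [(26, 2), (29, 1), (32, 2), (34, 2), (36, 2), (38, 2), (39, 2), (41, 1), (43, 1), (45, 2), (48, 2), (49, 2), (51, 2), (52, 2), (53, 2), (55, 1), (56, 1), (58, 2), (61, 2), (62, 2), (63, 2), (65, 2), (66, 2), (67, 2), (68, 2), (69, 1), (70, 1), (72, 2), (73, 2), (74, 2), (75, 2), (76, 1), (77, 2)],
  [(2, 2), (3, 2), (4, 1), (6, 2), (8, 3), (10, 2), (11, 2), (12, 3), (13, 2), (14, 3), (15, 1), (16, 1), (17, 3), (18, 2), (19, 1), (20, 2), (21, 1), (24, 2), (25, 1), (26, 3), (27, 3), (28, 1), (29, 2), (30, 3), (31, 1), (32, 2), (33, 2), (35, 1), (36, 2), (37, 1), (38, 3), (39, 1), (40, 1), (41, 3), (42, 2), (43, 2), (44, 1), (45, 2), (46, 3), (47, 2), (48, 2), (49, 2), (50, 2), (51, 1), (53, 2), (54, 1), (55, 3), (56, 1), (58, 2), (59, 1), (60, 3), (61, 2), (62, 2), (64, 1), (66, 2), (67, 2), (68, 2), (69, 1), (70, 1), (71, 1), (72, 2), (74, 1), (75, 2), (76, 1), (77,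 1)],
  [(0, 2), (1, 2), (2, 1), (3, 2), (6, 1), (8, 2), (11, 2), (13, 3), (15, 3), (17, 2), (18, 2), (19, 3), (21, 3), (22, 3), (23, 3), (24, 1), (25, 1), (26, 1), (27, 3), (29, 1), (30, 3), (31, 3), (32, 2), (34, 1), (35, 3), (36, 3), (37, 1), (38, 1), (39, 1), (41, 1), (42, 3), (43, 2), (45, 2), (48, 3), (49, 3), (51, 1), (52, 2), (53, 1), (54, 2), (55, 2), (56, 1), (58, 1), (59, 1), (61, 3), (63, 1), (64, 2), (65, 2), (66, 1), (67, 2), (68, 2), (69, 2), (70, 2), (71, 1), (73, 1), (74, 2), (75, 2), (76, 1), (77, 2)],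
  [(0, 2), (1, 2), (2, 3), (4, 1), (5, 3), (6, 3), (7, 3), (8, 1), (9, 3), (10, 1), (11, 1), (12, 3), (13, 2), (14, 3), (15, 1), (16, 2), (17, 3), (19, 2), (20, 1), (21, 2), (24, 3), (25, 2), (26, 2), (28, 2), (31, 2), (33, 2), (34, 3), (35, 2), (36, 1), (37, 2), (38, 2), (40, 2), (41, 2), (42, 2), (44, 2), (46, 3), (47, 3), (48, 1), (49, 1), (50, 3), (52, 3), (53, 3), (54, 1), (55, 2), (59, 1), (60, 3), (61, 1), (62, 1), (63, 1), (64, 1), (65, 3), (66, 3), (71, 1), (72, 1), (73, 1), (74, 1), (77, 1)],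
  [(0, 3), (1, 3), (2, 3), (3, 3), (6, 3), (8, 3), (11, 1), (12, 2), (14, 2), (18, 2), (19, 1), (20, 1), (21, 1), (26, 3), (27, 1), (28, 2), (30, 1), (31, 1), (38, 3), (39, 3), (41, 3), (42, 2), (43, 3), (45, 2), (51, 3), (52, 1), (56, 3), (58, 1), (60, 1), (62, 3), (63, 2), (64, 2), (65, 1), (67, 2), (68, 1), (70, 1), (72, 3), (73, 2), (74, 1), (75, 2), (76, 2), (77, 1)],
  [(38, 2), (43, 2), (48, 2), (51, 2), (55, 2), (58, 1), (61, 2), (65, 2), (66, 2), (69, 2), (72, 2), (73, 2), (75, 2), (76, 2), (77, 2)],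
  [(38, 3), (48, 1), (51, 1), (58, 3), (61, 1), (65, 1), (66, 1), (69, 1), (72, 1), (73, 3), (75, 2), (76, 2), (77, 2)],
  [(5, 2), (7, 1), (9, 2), (10, 2), (11, 2), (12, 2), (13, 1), (14, 1), (15, 2), (16, 2), (17, 2), (18, 2), (20, 1), (22, 2), (27, 2), (30, 1), (33, 2), (35, 2), (37, 2), (38, 1), (39, 2), (40, 2), (42, 1), (43, 2), (44, 1), (46, 2), (47, 2), (48, 3), (49, 2), (50, 2), (51, 2), (53, 2), (55, 1), (56, 1), (57, 1), (58, 1), (63, 2), (66, 2), (69, 1), (70, 1), (73, 2), (75, 2), (76, 2)],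
  [(0, 3), (1, 2), (2, 3), (3, 3), (4, 3), (5, 3), (6, 2), (7, 2), (8, 3), (9, 3), (10, 3), (11, 3), (12, 1), (13, 2), (14, 3), (15, 3), (16, 1), (17, 1), (18, 1), (19, 2), (20, 3), (21, 1), (22, 1), (23, 2), (24, 2), (25, 2), (26, 3), (28, 1), (29, 2), (31, 2), (32, 3), (34, 3), (36, 3), (38, 3), (39, 1), (40, 2), (41, 2), (43, 2), (44, 1), (45, 3), (46, 2), (47, 2), (48, 3), (49, 1), (50, 2), (51, 2), (52, 2), (53, 3), (54, 1), (55, 1), (56, 3), (57, 1), (58, 3), (59, 1), (60, 1), (62, 2), (63, 3), (64, 1), (65, 1), (66, 3), (70, 2), (71, 3), (72, 2), (75, 1), (76, 2)],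
  [(0, 3), (1, 2), (2, 3), (3, 3), (4, 3), (6, 2), (8, 3), (12, 2), (14, 1), (16, 2), (17, 2), (18, 2), (19, 2), (20, 1), (21, 1), (22, 2), (23, 2), (24, 2), (25, 2), (26, 3), (27, 3), (28, 1), (29, 2), (30, 2), (31, 2), (32, 3), (33, 3), (34, 3), (35, 3), (36, 3), (37, 3), (38, 2), (39, 2), (40, 1), (41, 2), (42, 2), (43, 2), (44, 3), (45, 3), (46, 1), (47, 1), (48, 2), (49, 2), (50, 1), (52, 2), (54, 1), (55, 3), (56, 1), (57, 3), (58, 1), (59, 1), (60, 1), (62, 2), (64, 1), (66, 1), (69, 2), (71, 3), (72, 1), (73, 3), (76, 1), (77, 1)],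
  [(0, 1), (1, 3), (2, 1), (3, 1), (4, 1), (5, 1), (6, 3), (7, 3), (8, 1), (9, 1), (10, 1), (11, 1), (12, 3), (13, 3), (14, 2), (15, 1), (16, 3), (17, 3), (18, 3), (19, 2), (20, 2), (21, 1), (22, 3), (23, 2), (24, 2), (25, 2), (26, 1), (28, 1), (29, 3), (31, 2), (32, 1), (34, 1), (36, 1), (38, 2), (39, 3), (40, 2), (41, 3), (44, 1), (45, 1), (46, 2), (47, 2), (48, 2), (49, 3), (50, 2), (51, 3), (52, 2), (53, 1), (54, 3), (55, 3), (56, 2), (57, 1), (58, 2), (59, 3), (60, 3), (61, 1), (62, 2), (63, 1), (64, 3), (65, 3), (66, 3), (69, 2), (70, 3), (71, 2), (72, 2), (73, 2), (75, 1), (76, 1), (77, 2)],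
  [(0, 2), (1, 1), (2, 2), (3, 2), (4, 2), (6, 1), (8, 2), (26, 2), (27, 2), (29, 1), (30, 1), (32, 2), (33, 2), (34, 2), (35, 2), (36, 2), (37, 2), (38, 2), (40, 2), (41, 1), (42, 1), (43, 2), (44, 1), (45, 2), (46, 2), (47, 2), (48, 2), (50, 2), (51, 1), (54, 2), (55, 2), (57, 1), (58, 1), (59, 2), (60, 2), (61, 1), (64, 2), (65, 2), (66, 2), (69, 2), (71, 1), (75, 1), (76, 1), (77, 1)],
  [(0, 2), (1, 1), (2, 2), (3, 2), (4, 2), (5, 1), (6, 1), (7, 3), (8, 2), (9, 1), (10, 1), (11, 1), (12, 3), (13, 3), (14, 2), (15, 1), (16, 3), (17, 3), (18, 3), (19, 2), (20, 2), (21, 1), (22, 3), (23, 2), (24, 2), (25, 2), (26, 2), (27, 3), (28, 1), (29, 1), (30, 2), (31, 2), (32, 2), (33, 3), (34, 2), (35, 3), (36, 2), (37, 3), (39, 3), (40, 1), (41, 1), (42, 2), (43, 3), (44, 3), (45, 2), (46, 1), (47, 1), (48, 3), (49, 3), (50, 1), (51, 2), (52, 2), (53, 1), (56, 2), (57, 3),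 (58, 1), (61, 1), (62, 2), (63, 1), (66, 1), (69, 1), (70, 3), (72, 1), (73, 3), (75, 1), (76, 1)],
  [(0, 2), (1, 1), (2, 2), (3, 2), (4, 2), (5, 2), (6, 1), (7, 1), (8, 2), (9, 2), (10, 2), (11, 2), (12, 2), (13, 1), (14, 1), (15, 2), (16, 2), (17, 2), (18, 2), (19, 2), (20, 1), (21, 1), (22, 2), (23, 2), (24, 2), (25, 2), (27, 2), (28, 1), (30, 1), (31, 2), (33, 2), (35, 2), (37, 2), (38, 1), (42, 1), (43, 1), (48, 3), (51, 3), (53, 2), (54, 2), (55, 2), (58, 2), (59, 2), (60, 2), (61, 3), (63, 2), (64, 2), (65, 3), (66, 2), (67, 2), (69, 3), (70, 1), (71, 1), (72, 1), (73, 2), (74, 2), (75, 1), (76, 2), (77, 1)],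
  [(5, 3), (7, 2), (9, 3), (10, 3), (11, 3), (12, 2), (13, 2), (14, 1), (15, 3), (16, 2), (17, 2), (18, 2), (19, 2), (20, 1), (21, 1), (22, 2), (23, 2), (24, 2), (25, 2), (26, 3), (27, 3), (28, 1), (29, 2), (30, 2), (31, 2), (32, 3), (33, 3), (34, 3), (35, 3), (36, 3), (37, 3), (38, 1), (39, 2), (41, 2), (42, 2), (43, 1), (45, 3), (48, 1), (49, 2), (51, 3), (52, 2), (53, 1), (55, 3), (56, 1), (58, 3), (61, 3), (62, 2), (63, 1), (65, 3), (66, 2), (67, 1), (68, 1), (69, 2), (70, 3), (72, 2), (74, 1), (76, 1), (77, 2)],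
  [(0, 1), (1, 3), (2, 1), (3, 1), (4, 1), (5, 2), (6, 3), (7, 1), (8, 1), (9, 2), (10, 2), (11, 2), (12, 3), (13, 1), (14, 2), (15, 2), (16, 3), (17, 3), (18, 3), (19, 3), (20, 2), (21, 2), (22, 3), (23, 3), (24, 3), (25, 3), (26, 3), (27, 2), (28, 2), (29, 2), (30, 1), (31, 3), (32, 3), (33, 2), (34, 3), (35, 2), (36, 3), (37, 2), (38, 1), (39, 2), (41, 2), (42, 1), (43, 2), (45, 3), (48, 2), (49, 2), (51, 3), (52, 2), (54, 1), (55, 1), (56, 1), (58, 2), (59, 1), (60, 1), (62, 2), (64, 1), (65, 3), (68, 1), (71, 3), (72, 2), (73, 2), (75, 3), (76, 3), (77, 1)],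
  [(3, 2), (5, 2), (6, 3), (7, 2), (9, 1), (11, 2), (13, 1), (15, 1), (17, 2), (19, 1), (20, 3), (21, 1), (23, 2), (24, 1), (25, 3), (26, 2), (27, 1), (28, 1), (29, 2), (30, 1), (31, 2), (32, 2), (33, 2), (35, 1), (36, 2), (37, 3), (38, 2), (39, 2), (41, 1), (42, 1), (43, 2), (45, 2), (48, 2), (49, 2), (51, 2), (52, 3), (53, 1), (55, 1), (56, 1), (58, 2), (60, 2), (61, 2), (62, 1), (63, 3), (64, 2), (65, 3), (66, 1), (67, 2), (69, 1), (70, 2), (72, 1), (73, 3), (74, 2), (75, 2), (76, 2), (77, 2)],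
  [(0, 3), (1, 3), (2, 3), (4, 3), (8, 1), (10, 1), (11, 2), (12, 1), (13, 1), (14, 1), (15, 3), (16, 2), (17, 3), (18, 2), (23, 3), (24, 3), (25, 1), (26, 1), (27, 2), (28, 1), (29, 3), (30, 2), (31, 3), (32, 1), (33, 3), (34, 2), (37, 1), (38, 1), (39, 1), (40, 3), (41, 2), (42, 2), (43, 3), (44, 3), (45, 1), (46, 3), (49, 2), (50, 1), (51, 1), (53, 2), (54, 2), (55, 2), (56, 1), (58, 1), (59, 1), (61, 2), (62, 1), (64, 2), (66, 2), (67, 1), (68, 1), (69, 1), (70, 1), (71, 1), (72, 1), (74, 1), (75, 1), (76, 1), (77, 1)],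
  [(2, 3), (3, 3), (4, 2), (5, 2), (6, 3), (7, 2), (8, 1), (9, 1), (13, 2), (15, 2), (17, 2), (18, 1), (19, 1), (20, 1), (21, 1), (22, 2), (23, 2), (24, 1), (26, 1), (27, 3), (29, 1), (30, 3), (31, 3), (32, 2), (33, 2), (34, 2), (35, 2), (36, 2), (38, 1), (39, 1), (40, 3), (42, 3), (43, 1), (44, 3), (45, 2), (46, 3), (48, 2), (50, 1), (51, 1), (53, 3), (54, 1), (56, 3), (58, 2), (59, 2), (60, 1), (62, 1), (63, 3), (64, 3), (66, 3), (68, 1), (69, 3), (70, 3), (72, 1), (73, 3), (76, 3)],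
  [(0, 2), (1, 2), (2, 1), (3, 2), (8, 3), (10, 2), (11, 3), (12, 3), (14, 3), (15, 3), (16, 1), (17, 1), (19, 2), (20, 2), (21, 2), (22, 3), (23, 3), (24, 3), (28, 1), (29, 2), (31, 2), (33, 3), (34, 1), (36, 2), (41, 3), (42, 2), (43, 2), (45, 3), (48, 2), (52, 2), (53, 1), (54, 2), (55, 3), (58, 3), (59, 1), (60, 3), (62, 3), (63, 1), (65, 2), (66, 1), (67, 2), (68, 1), (70, 2), (71, 3), (72, 3), (73, 1), (74, 3), (75, 2), (76, 2), (77, 3)],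
  [(0, 1), (1, 1), (2, 3), (3, 1), (4, 1), (5, 2), (6, 3), (7, 2), (8, 1), (9, 2), (10, 3), (11, 1), (12, 2), (13, 3), (14, 2), (15, 1), (16, 1), (18, 3), (19, 1), (20, 3), (21, 1), (22, 3), (23, 2), (24, 2), (25, 1), (27, 3), (28, 3), (29, 3), (30, 3), (31, 1), (32, 2), (33, 2), (35, 1), (36, 2), (37, 1), (41, 2), (43, 3), (45, 3), (48, 2), (52, 2), (53, 3), (54, 2), (55, 2), (56, 1), (58, 3), (59, 1), (60, 3), (62, 3), (63, 1), (64, 2), (65, 2), (66, 3), (67, 1), (68, 1), (69, 1), (70, 3), (71, 1), (72, 3), (73, 1), (74, 2), (75, 1), (76, 3), (77, 2)],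
  [(0, 1), (1, 3), (2, 1), (3, 1), (4, 1), (6, 3), (8, 1), (12, 2), (14, 1), (16, 2), (17, 2), (18, 2), (19, 2), (20, 1), (21, 1), (22, 2), (23, 2), (24, 2), (25, 2), (26, 1), (27, 1), (28, 1), (29, 3), (30, 3), (31, 2), (32, 1), (33, 1), (34, 1), (35, 1), (36, 1), (37, 1), (38, 3), (39, 2), (40, 3), (41, 3), (42, 3), (43, 3), (44, 2), (45, 1), (46, 3), (47, 3), (48, 3), (49, 2), (50, 3), (51, 3), (52, 2), (54, 3), (55, 1), (56, 1), (57, 2), (59, 3), (60, 3), (61, 3), (62, 2), (64, 3), (65, 1), (66, 3), (69, 2), (71, 2), (72, 2), (73, 1), (76, 3), (77, 3)],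
  [(0, 2), (1, 1), (2, 2), (3, 2), (4, 2), (5, 3), (6, 1), (7, 2), (8, 2), (9, 3), (10, 3), (11, 3), (12, 1), (13, 2), (14, 3), (15, 3), (16, 1), (17, 1), (18, 1), (19, 2), (20, 3), (21, 1), (22, 1), (23, 2), (24, 2), (25, 2), (26, 2), (27, 1), (28, 1), (29, 1), (30, 3), (31, 2), (32, 2), (33, 1), (34, 2), (35, 1), (36, 2), (37, 1), (39, 1), (40, 3), (41, 1), (42, 3), (43, 3), (44, 2), (45, 2), (46, 3), (47, 3), (48, 1), (49, 1), (50, 3), (52, 2), (53, 3), (56, 3), (57, 2), (58, 2), (61, 1), (62, 2), (63, 3), (65, 2), (66, 2), (69, 3), (70, 2), (72, 1), (75, 1), (76, 2), (77, 2)],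
  [(0, 2), (1, 1), (2, 2), (3, 2), (4, 2), (5, 2), (6, 1), (7, 1), (8, 2), (9, 2), (10, 2), (11, 2), (12, 2), (13, 1), (14, 1), (15, 2), (16, 2), (17, 2), (18, 2), (20, 1), (22, 2), (26, 2), (29, 1), (32, 2), (34, 2), (36, 2), (38, 3), (39, 2), (41, 1), (43, 3), (45, 2), (48, 3), (49, 2), (51, 3), (53, 2), (54, 2), (55, 3), (56, 1), (58, 3), (59, 2), (60, 2), (61, 1), (63, 2), (64, 2), (66, 1), (70, 1), (71, 1), (73, 3), (76, 2)],
  [(5, 1), (7, 3), (9, 1), (10, 1), (11, 1), (12, 2), (13, 3), (14, 1), (15, 1), (16, 2), (17, 2), (18, 2), (19, 2), (20, 1), (21, 1), (22, 2), (23, 2), (24, 2), (25, 2), (26, 1), (27, 1), (28, 1), (29, 3), (30, 3), (31, 2), (32, 1), (33, 1), (34, 1), (35, 1), (36, 1), (37, 1), (39, 2), (41, 3), (42, 3), (45, 1), (49, 2), (52, 2), (53, 3), (55, 1), (56, 1), (58, 1), (62, 2), (63, 3), (66, 3), (67, 3), (68, 3), (69, 2), (70, 2), (72, 3), (73,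 1), (74, 3), (75, 2)],
  [(0, 2), (1, 1), (2, 2), (3, 2), (4, 2), (6, 1), (8, 2), (12, 2), (14, 1), (16, 2), (17, 2), (18, 2), (19, 2), (20, 1), (21, 1), (22, 2), (23, 2), (24, 2), (25, 2), (26, 2), (28, 1), (29, 1), (31, 2), (32, 2), (34, 2), (36, 2), (38, 3), (41, 1), (45, 2), (48, 1), (54, 2), (55, 3), (59, 2), (60, 2), (61, 2), (64, 2), (66, 3), (68, 2), (69, 3), (71, 1), (73, 3)],
  [(0, 1), (1, 3), (2, 1), (3, 1), (4, 1), (5, 1), (6, 3), (7, 3), (8, 1), (9, 1), (10, 1), (11, 1), (12, 3), (13, 3), (14, 2), (15, 1), (16, 3), (17, 3), (18, 3), (19, 3), (20, 2), (21, 2), (22, 3), (23, 3), (24, 3), (25, 3), (27, 1), (28, 2), (30, 3), (31, 3), (33, 1), (35, 1), (37, 1), (39, 2), (42, 3), (43, 2), (48, 2), (49, 2), (51, 3), (52, 2), (53, 3), (54, 1), (55, 3), (56, 1), (58, 1), (59, 1), (60, 1), (61, 3), (62, 2), (63, 3), (64, 1), (65, 3), (66, 2), (67, 3), (68, 2), (70,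 2), (71, 3), (73, 1), (74, 3), (75, 3)],
  [(0, 3), (1, 2), (2, 3), (3, 3), (4, 3), (5, 2), (6, 2), (7, 1), (8, 3), (9, 2), (10, 2), (11, 2), (12, 1), (13, 1), (14, 3), (15, 2), (16, 1), (17, 1), (18, 1), (19, 1), (20, 3), (21, 3), (22, 1), (23, 1), (24, 1), (25, 1), (26, 1), (27, 2), (28, 3), (29, 3), (30, 1), (31, 1), (32, 1), (33, 2), (34, 1), (35, 2), (36, 1), (37, 2), (38, 3), (39, 2), (41, 3), (42, 1), (45, 1), (48, 2), (49, 2), (51, 3), (52, 2), (54, 3), (55, 3), (56, 1), (59, 3), (60, 3), (61, 2), (62, 2), (64, 3), (65, 3), (66, 3), (68, 3), (71, 2), (73, 1), (77, 2)],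
  [(0, 3), (1, 2), (2, 3), (3, 3), (4, 3), (5, 3), (6, 2), (7, 2), (8, 3), (9, 3), (10, 3), (11, 3), (12, 1), (13, 2), (14, 3), (15, 3), (16, 1), (17, 1), (18, 1), (19, 1), (20, 3), (21, 3), (22, 1), (23, 1), (24, 1), (25, 1), (27, 3), (28, 3), (30, 2), (31, 1), (33, 3), (35, 3), (37, 3), (39, 2), (42, 2), (43, 1), (48, 2), (49, 2), (51, 3), (52, 2), (53, 1), (54, 3), (55, 3), (56, 1), (58, 2), (59, 3), (60, 3), (61, 3), (62, 2), (63, 1), (64, 3), (65, 3), (66, 3), (67, 1), (68, 2), (70, 3), (71, 2), (72, 2), (73, 2), (74, 1), (75, 1), (76, 2)],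
  [(5, 2), (7, 1), (9, 2), (10, 2), (11, 2), (13, 1), (15, 2), (26, 2), (27, 2), (29, 1), (30, 1), (32, 2), (33, 2), (34, 2), (35, 2), (36, 2), (37, 2), (38, 3), (41, 1), (42, 1), (43, 3), (45, 2), (48, 3), (53, 2), (63, 2), (66, 2), (67, 2), (68, 2), (70, 1), (72, 2), (74, 2), (75, 1), (76, 2), (77, 3)],
  [(43, 3), (55, 3), (61, 2), (66, 3), (72, 2), (73, 3), (75, 3), (76, 3), (77, 3)],
  [(0, 2), (1, 2), (2, 2), (3, 3), (4, 2), (6, 1), (8, 3), (10, 3), (11, 2), (12, 1), (13, 2), (14, 1), (15, 3), (16, 2), (17, 3), (19, 3), (20, 3), (21, 3), (22, 3), (24, 2), (27, 1), (28, 1), (29, 1), (30, 1), (33, 3), (34, 1), (35, 3), (36, 3), (39, 1), (41, 3), (42, 1), (43, 1), (47, 1), (48, 3), (50, 2), (51, 1), (52, 3), (53, 2), (54, 2), (55, 3), (56, 1), (57, 3), (59, 1), (64, 2), (65, 3), (66, 2), (67, 3), (68, 3), (69, 1), (70, 1), (71, 1), (74, 3), (75, 3), (76, 1), (77, 3)],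
  [(0, 1), (1, 1), (2, 1), (3, 1), (4, 1), (5, 2), (6, 2), (7, 2), (8, 2), (9, 1), (13, 2), (15, 2), (19, 2), (21, 2), (23, 1), (25, 2), (26, 3), (27, 2), (28, 1), (30, 2), (31, 1), (32, 3), (33, 1), (34, 3), (36, 1), (38, 3), (39, 2), (40, 3), (42, 2), (44, 3), (45, 3), (47, 3), (48, 1), (49, 2), (50, 1), (51, 2), (53, 1), (56, 1), (57, 3), (58, 3), (60, 2), (61, 2), (63, 1), (64, 2), (66, 1), (68, 2), (69, 1), (70, 2), (73, 1), (76, 2)],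
  [(2, 3), (3, 3), (4, 2), (6, 3), (8, 1), (10, 3), (11, 1), (12, 1), (13, 3), (14, 1), (15, 2), (16, 2), (17, 3), (19, 3), (20, 3), (21, 3), (22, 3), (24, 2), (25, 3), (26, 2), (27, 1), (29, 3), (30, 1), (31, 1), (32, 1), (33, 2), (34, 1), (35, 1), (36, 1), (37, 3), (38, 2), (40, 1), (41, 2), (42, 1), (43, 3), (44, 1), (45, 1), (46, 2), (48, 1), (49, 1), (50, 3), (52, 2), (53, 2), (55, 2), (56, 2), (57, 1), (58, 1), (59, 1), (61, 1), (62, 2), (63, 3), (64, 3), (65, 2), (66, 2), (67, 3), (68, 2), (69, 2), (70, 1), (71, 3), (72, 2), (73, 3), (74, 3), (75, 3), (76, 1), (77, 3)],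
  [(0, 1), (1, 1), (2, 2), (4, 3), (5, 1), (6, 3), (7, 1), (8, 2), (9, 3), (10, 2), (11, 3), (15, 3), (19, 2), (21, 2), (23, 3), (24, 3), (26, 1), (27, 1), (28, 1), (30, 1), (31, 2), (32, 1), (33, 3), (34, 2), (36, 1), (37, 1), (38, 1), (39, 3), (40, 1), (41, 2), (44, 1), (45, 2), (46, 3), (47, 2), (48, 1), (49, 1), (50, 2), (51, 3), (53, 2), (54, 3), (55, 2), (56, 1), (58, 2), (59, 2), (60, 2), (61, 1), (63, 3), (66, 2), (67, 3), (69, 1), (70, 1), (73, 3), (75, 3), (76, 1)],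
  [(0, 1), (1, 1), (2, 2), (4, 3), (5, 2), (6, 2), (7, 2), (8, 3), (9, 1), (13, 2), (15, 2), (17, 2), (18, 3), (19, 1), (20, 2), (21, 1), (22, 1), (23, 2), (24, 1), (25, 2), (26, 2), (27, 3), (28, 3), (29, 2), (30, 3), (32, 1), (33, 1), (34, 3), (36, 3), (37, 2), (38, 2), (39, 3), (42, 3), (43, 2), (45, 1), (47, 1), (48, 3), (50, 2), (51, 3), (52, 2), (53, 3), (56, 2), (57, 3), (58, 1), (59, 3), (62, 1), (63, 3), (64, 2), (65, 2), (66, 3), (68, 3), (69, 2), (70, 3), (71, 2), (72, 1), (73, 3), (76, 3)],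
  [(0, 1), (1, 1), (2, 2), (4, 3), (6, 2), (8, 3), (10, 1), (11, 3), (12, 1), (13, 3), (14, 1), (15, 1), (16, 2), (17, 3), (18, 2), (23, 3), (24, 3), (26, 3), (27, 1), (28, 3), (29, 1), (30, 1), (31, 1), (33, 2), (34, 2), (35, 1), (36, 2), (37, 3), (38, 3), (39, 2), (40, 2), (41, 3), (42, 1), (43, 1), (44, 2), (46, 1), (47, 1), (48, 2), (49, 1), (51, 2), (52, 3), (53, 2), (54, 3), (55, 3), (56, 3), (57, 2), (59, 1), (60, 3), (61, 1), (62, 3), (63, 1), (64, 2), (65, 3), (66, 2), (67, 1), (68, 2), (69, 3), (70, 1), (72, 3), (73, 1), (74, 1), (75, 1), (76, 1), (77, 1)],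
  [(5, 2), (7, 2), (9, 1), (11, 2), (13, 1), (15, 1), (17, 2), (18, 2), (19, 1), (21, 1), (22, 3), (23, 2), (24, 1), (25, 1), (26, 2), (27, 2), (28, 2), (29, 1), (30, 2), (31, 1), (32, 2), (33, 1), (34, 2), (36, 2), (38, 2), (41, 1), (42, 2), (43, 1), (45, 2), (46, 3), (47, 2), (48, 2), (49, 2), (50, 2), (52, 1), (53, 1), (54, 2), (55, 1), (58, 2), (59, 1), (61, 2), (62, 1), (63, 3), (64, 2), (65, 1), (66, 1), (67, 2), (68, 2), (70, 2), (71, 1), (72, 1), (73, 3), (74, 2), (75, 2), (76, 2), (77, 2)],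
  [(0, 3), (1, 3), (3, 3), (4, 1), (5, 3), (6, 2), (7, 3), (8, 1), (9, 3), (10, 1), (11, 2), (12, 3), (13, 3), (14, 3), (16, 2), (17, 1), (18, 2), (19, 1), (20, 1), (21, 1), (22, 3), (23, 3), (24, 2), (25, 3), (27, 3), (28, 2), (29, 1), (30, 3), (31, 1), (34, 3), (35, 3), (36, 2), (37, 3), (39, 1), (41, 3), (42, 2), (43, 1), (45, 3), (48, 2), (49, 1), (51, 1), (52, 1), (54, 2), (55, 3), (56, 1), (58, 3), (59, 1), (60, 1), (61, 1), (62, 2), (65, 1), (68, 1), (69, 1), (70, 3), (72, 2), (74, 3), (76, 3), (77, 3)],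
  [(0, 1), (1, 1), (2, 2), (3, 2), (4, 3), (5, 1), (7, 1), (8, 2), (11, 3), (13, 3), (19, 1), (21, 1), (23, 3), (24, 2), (25, 3), (26, 1), (27, 1), (28, 2), (29, 3), (30, 1), (31, 1), (32, 1), (35, 2), (36, 1), (37, 1), (38, 1), (40, 2), (41, 2), (42, 3), (43, 3), (44, 2), (45, 2), (46, 3), (47, 3), (48, 1), (49, 2), (50, 3), (53, 1), (54, 1), (55, 2), (56, 1), (58, 2), (59, 3), (60, 2), (61, 2), (63, 2), (66, 1), (67, 1), (68, 2), (69, 1), (70, 2), (71, 2), (73, 2), (75, 1), (76, 2)],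
  [(2, 1), (5, 1), (6, 1), (7, 1), (9, 1), (10, 2), (12, 2), (13, 3), (14, 2), (15, 2), (16, 1), (18, 1), (19, 1), (21, 1), (23, 2), (25, 1), (26, 3), (27, 3), (30, 3), (31, 1), (32, 2), (33, 1), (34, 3), (35, 1), (36, 1), (37, 1), (38, 3), (39, 2), (41, 2), (48, 1), (49, 2), (51, 2), (53, 2), (54, 3), (55, 2), (61, 2), (62, 3), (64, 3), (66, 2), (68, 1), (70, 2), (72, 3), (74, 1), (76, 2), (77, 1)],
  [(0, 2), (1, 2), (2, 2), (4, 1), (5, 3), (6, 2), (7, 3), (8, 1), (9, 2), (10, 3), (11, 1), (12, 1), (13, 1), (14, 1), (16, 2), (17, 3), (18, 2), (19, 3), (21, 3), (23, 2), (24, 3), (25, 3), (26, 1), (27, 2), (28, 2), (29, 3), (30, 2), (31, 3), (32, 2), (34, 1), (35, 3), (36, 1), (38, 1), (39, 2), (40, 3), (41, 1), (42, 3), (43, 3), (44, 3), (46, 3), (47, 1), (48, 1), (50, 1), (51, 2), (52, 3), (53, 1), (54, 2), (55, 1), (59, 1), (60, 3), (62, 2), (63, 3), (64, 2), (65,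 3), (66, 1), (68, 2), (70, 3), (71, 1), (72, 2), (73, 3), (74, 1), (76, 3), (77, 1)],
  [(2, 1), (3, 1), (4, 3), (5, 1), (6, 1), (7, 1), (8, 2), (9, 1), (10, 2), (12, 2), (13, 3), (14, 2), (15, 2), (16, 1), (19, 1), (20, 2), (21, 1), (22, 2), (23, 2), (27, 1), (28, 2), (29, 3), (30, 1), (31, 3), (32, 1), (33, 2), (34, 1), (35, 2), (36, 1), (37, 2), (39, 1), (40, 2), (41, 1), (43, 3), (44, 2), (45, 1), (46, 3), (47, 3), (48, 1), (49, 2), (50, 3), (51, 1), (52, 3), (53, 1), (54, 3), (55, 1), (56, 2), (58, 1), (59, 2), (61, 2), (62, 3), (65, 3), (66, 1), (67, 3), (68, 1), (69, 2), (72, 3), (74, 1), (75, 3), (77, 1)],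
  [(2, 1), (3, 1), (4, 3), (6, 1), (8, 2), (12, 2), (13, 2), (14, 2), (15, 2), (18, 3), (19, 1), (20, 3), (21, 1), (22, 2), (25, 1), (26, 2), (31, 3), (33, 2), (37, 2), (38, 2), (39, 1), (40, 3), (41, 3), (42, 1), (44, 3), (46, 3), (47, 1), (49, 1), (50, 1), (51, 1), (52, 3), (54, 1), (55, 3), (56, 2), (59, 2), (60, 3), (61, 1), (62, 2), (64, 3), (65, 3), (67, 2), (68, 2), (69, 2), (70, 1), (72, 2), (74, 3), (75, 2), (76, 1), (77, 3)],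
  [(2, 3), (3, 2), (4, 2), (5, 3), (7, 3), (10, 3), (11, 3), (15, 3), (26, 2), (27, 3), (29, 2), (30, 3), (32, 2), (33, 3), (35, 3), (37, 1), (38, 2), (41, 2), (42, 3), (43, 2), (45, 1), (53, 2), (54, 2), (55, 2), (56, 3), (58, 1), (59, 1), (64, 2), (66, 2), (67, 2), (69, 3), (70, 2), (71, 1), (75, 2), (76, 2)],
  [(0, 3), (1, 3), (3, 2), (5, 2), (7, 2), (8, 1), (9, 2), (10, 3), (12, 3), (13, 1), (14, 3), (15, 3), (16, 1), (17, 1), (19, 3), (20, 2), (21, 3), (22, 3), (23, 1), (24, 1), (27, 2), (28, 2), (29, 1), (30, 2), (31, 3), (32, 3), (33, 3), (35, 3), (36, 2), (37, 3), (39, 1), (41, 1), (43, 1), (45, 3), (48, 2), (49, 1), (51, 1), (52, 1), (53, 1), (55, 1), (56, 1), (58, 3), (59, 1), (60, 2), (61, 1), (62, 1), (64, 3), (65, 1), (66, 1), (67, 1), (69, 1), (71, 3), (72, 1), (75, 1)],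
  [(0, 2), (1, 2), (2, 3), (3, 3), (5, 2), (6, 3), (7, 2), (9, 1), (10, 1), (11, 2), (12, 3), (13, 1), (14, 3), (15, 3), (16, 1), (17, 1), (19, 3), (20, 2), (21, 3), (22, 3), (23, 1), (24, 1), (26, 2), (27, 2), (28, 2), (30, 2), (31, 3), (33, 3), (35, 1), (36, 1), (37, 3), (38, 2), (39, 1), (42, 3), (45, 3), (48, 1), (51, 1), (52, 1), (53, 2), (54, 2), (56, 1), (58, 3), (59, 1), (60, 1), (63, 2), (65, 1), (66, 2), (67, 2), (68, 2), (69, 1), (71, 3), (73, 2), (74, 2), (75, 2), (77, 2)],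
  [(0, 3), (1, 3), (2, 1), (4, 2), (5, 2), (6, 1), (7, 2), (8, 2), (9, 2), (10, 3), (11, 1), (12, 2), (13, 3), (14, 2), (15, 1), (16, 1), (19, 1), (20, 2), (21, 1), (22, 2), (23, 2), (24, 2), (25, 2), (26, 3), (27, 2), (28, 2), (30, 2), (32, 1), (33, 1), (35, 3), (37, 3), (38, 3), (39, 1), (40, 1), (41, 1), (44, 1), (45, 1), (46, 3), (47, 2), (50, 2), (51, 1), (52, 3), (53, 2), (54, 3), (55, 1), (56, 2), (58, 1), (59, 1), (60, 2), (62, 3), (63, 1), (64, 2), (65, 3), (66, 2), (68, 1), (69, 2), (72, 3), (73, 1), (74, 2), (77, 2)],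
  [(0, 1), (1, 1), (2, 2), (3, 2), (5, 1), (6, 2), (7, 1), (9, 1), (10, 2), (11, 3), (12, 3), (13, 2), (14, 3), (15, 3), (16, 2), (17, 1), (18, 2), (19, 3), (20, 1), (21, 3), (22, 3), (23, 2), (24, 1), (25, 2), (26, 2), (27, 1), (28, 1), (30, 1), (31, 3), (32, 1), (33, 3), (34, 2), (35, 2), (37, 2), (38, 2), (45, 1), (53, 1), (54, 1), (58, 1), (59, 3), (60, 3), (63, 2), (66, 1), (67, 1), (68, 1), (70, 3), (71, 2), (73, 2), (74, 2), (75, 1), (76, 3), (77, 2)],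
  [(0, 2), (1, 2), (2, 2), (4, 2), (6, 1), (8, 2), (17, 2), (18, 2), (22, 3), (24, 2), (25, 2), (29, 3), (31, 3), (34, 2), (36, 2), (39, 1), (41, 3), (43, 3), (45, 3), (48, 2), (49, 1), (51, 1), (52, 1), (53, 1), (54, 1), (55, 3), (56, 2), (58, 3), (59, 1), (60, 1), (61, 1), (62, 1), (63, 1), (64, 3), (65, 1), (66, 1), (67, 1), (68, 1), (69, 2), (70, 2), (71, 1), (72, 1), (73, 1), (74, 1), (75, 1), (76, 2), (77, 1)],
  [(2, 3), (3, 2), (4, 2), (5, 1), (7, 1), (9, 1), (10, 2), (11, 3), (13, 2), (15, 3), (16, 1), (17, 2), (18, 1), (20, 1), (22, 3), (23, 1), (24, 2), (25, 1), (26, 2), (27, 1), (28, 1), (29, 3), (30, 1), (31, 3), (32, 1), (33, 3), (34, 3), (35, 2), (36, 1), (37, 2), (38, 2), (39, 1), (41, 3), (43, 3), (45, 3), (48, 1), (51, 1), (52, 1), (54, 2), (55, 3), (56, 2), (58, 3), (59, 1), (63, 2), (64, 2), (65, 1), (68, 2), (69, 2), (70, 1), (71, 1), (73, 2), (74,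 2), (76, 1), (77, 2)],
  [(26, 3), (32, 3), (34, 3), (36, 1), (38, 3), (39, 1), (45, 3), (48, 1), (49, 1), (51, 1), (52, 1), (53, 1), (56, 1), (58, 3), (61, 1), (62, 1), (63, 3), (65, 1), (66, 1), (67, 2), (68, 2), (69, 1), (70, 2), (72, 1), (73, 3), (74, 2), (75, 2), (76, 2), (77, 2)],
  [(5, 3), (7, 3), (9, 3), (10, 3), (11, 3), (12, 3), (14, 3), (15, 3), (16, 3), (17, 3), (18, 3), (22, 3), (26, 1), (27, 3), (29, 2), (30, 3), (32, 1), (33, 3), (34, 3), (35, 3), (36, 3), (37, 3), (38, 1), (40, 3), (41, 1), (43, 2), (44, 3), (45, 1), (46, 3), (47, 3), (48, 3), (49, 2), (50, 3), (55, 1), (58, 1), (61, 2), (67, 2), (68, 1), (70, 3), (75, 2), (76, 3)],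
  [(0, 1), (1, 1), (2, 1), (3, 1), (4, 1), (5, 1), (7, 1), (8, 1), (9, 1), (10, 1), (11, 1), (12, 2), (14, 2), (15, 1), (16, 2), (17, 2), (18, 2), (19, 3), (21, 3), (22, 2), (23, 3), (24, 3), (25, 3), (31, 3), (32, 3), (34, 3), (39, 3), (40, 3), (41, 3), (44, 3), (46, 3), (47, 3), (49, 1), (50, 3), (51, 3), (52, 3), (54, 2), (55, 3), (56, 3), (59, 2), (60, 2), (61, 1), (63, 3), (64, 2), (65, 3), (67, 1), (68, 2), (69, 3), (73, 3), (75, 1)],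
  [(0, 1), (1, 1), (2, 1), (3, 1), (4, 1), (8, 1), (12, 3), (14, 3), (16, 3), (17, 3), (18, 3), (19, 3), (21, 3), (22, 3), (23, 3), (24, 3), (25, 3), (26, 1), (27, 1), (30, 1), (31, 3), (32, 2), (33, 1), (34, 1), (35, 1), (36, 1), (37, 1), (38, 1), (39, 2), (40, 2), (41, 1), (44, 2), (45, 2), (46, 2), (47, 2), (48, 1), (49, 2), (50, 2), (51, 2), (52, 2), (53, 1), (54, 2), (55, 1), (56, 3), (58, 2), (59, 2), (60, 2), (61, 2), (62, 3), (63, 3), (64, 2), (65, 2), (66, 1), (68, 3), (69, 3), (70, 1), (72, 3), (73, 3), (74, 1), (76, 1), (77, 1)],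
  [(0, 2), (1, 2), (2, 2), (3, 2), (4, 2), (5, 2), (7, 2), (8, 2), (9, 2), (10, 2), (11, 2), (12, 1), (14, 1), (15, 2), (16, 1), (17, 1), (18, 1), (19, 3), (21, 3), (22, 1), (23, 3), (24, 3), (25, 3), (26, 3), (29, 3), (31, 3), (34, 2), (36, 3), (38, 3), (40, 3), (43, 3), (44, 3), (45, 3), (46, 3), (47, 3), (48, 3), (49, 2), (50, 3), (52, 1), (53, 2), (54, 1), (58, 3), (59, 1), (60, 1), (61, 2), (63, 3), (64, 1), (65, 1), (66, 2), (67, 1), (68, 2), (70, 2), (73, 3), (74, 2), (75, 1), (76, 2), (77, 2)],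
  [(0, 3), (1, 3), (2, 3), (3, 3), (4, 3), (8, 3), (27, 3), (29, 3), (30, 3), (33, 3), (35, 3), (37, 3), (39, 1), (40, 3), (41, 3), (43, 3), (44, 3), (45, 3), (46, 3), (47, 3), (49, 1), (50, 3), (51, 1), (52, 2), (53, 2), (54, 3), (55, 3), (56, 2), (58, 3), (59, 3), (60, 3), (61, 1), (64, 3), (65, 2), (66, 2), (67, 1), (68, 1), (69, 2), (70, 1), (74, 1), (75, 1), (76, 1), (77, 1)],
  [(0, 3), (1, 3), (2, 3), (3, 3), (4, 3), (5, 2), (7, 2), (8, 3), (9, 2), (10, 2), (11, 2), (12, 1), (14, 1), (15, 2), (16, 1), (17, 1), (18, 1), (19, 3), (21, 3), (22, 1), (23, 3), (24, 3), (25, 3), (26, 2), (27, 1), (29, 2), (30, 1), (31, 3), (32, 1), (33, 1), (34, 3), (35, 1), (36, 1), (37, 1), (38, 2), (39, 1), (40, 2), (41, 1), (43, 2), (44, 2), (45, 3), (46, 2), (47, 2), (48, 1), (49, 2), (50, 2), (51, 1), (52, 2), (55, 1), (56, 3), (58, 3), (61, 2), (62, 3), (63, 2), (65, 2), (67, 1),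 (68, 1), (69, 3), (70, 2), (72, 3), (73, 2), (75, 1), (76, 2)],
  [(0, 3), (1, 3), (2, 3), (3, 3), (4, 3), (5, 3), (7, 3), (8, 3), (9, 3), (10, 3), (11, 3), (12, 3), (14, 3), (15, 3), (16, 3), (17, 3), (18, 3), (19, 3), (21, 3), (22, 3), (23, 3), (24, 3), (25, 3), (26, 1), (27, 3), (29, 1), (30, 3), (31, 3), (32, 2), (33, 3), (34, 3), (35, 3), (36, 3), (37, 3), (38, 1), (39, 3), (41, 2), (43, 1), (45, 2), (48, 3), (49, 3), (51, 3), (52, 3), (54, 3), (55, 2), (56, 3), (58, 2), (59, 3), (60, 3), (61, 3), (62, 1), (64, 3), (65, 3), (67, 3), (68, 1), (69, 3), (70, 3), (72, 1), (74, 3), (75, 3), (76, 3), (77, 3)],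
  [(5, 1), (7, 1), (9, 1), (10, 1), (11, 1), (12, 3), (14, 3), (15, 1), (16, 3), (17, 3), (18, 3), (19, 3), (21, 3), (22, 3), (23, 3), (24, 3), (25, 3), (26, 2), (27, 1), (29, 3), (30, 1), (31, 3), (32, 3), (33, 1), (34, 2), (35, 1), (36, 2), (37, 1), (38, 2), (39, 1), (41, 1), (43, 3), (48, 2), (49, 1), (51, 1), (52, 1), (53, 3), (55, 1), (56, 3), (61, 1), (63, 1), (65, 1), (66, 3), (67, 1), (68, 1), (69, 3), (70, 2), (73, 1), (74, 3), (75, 1), (76, 2), (77, 3)],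
  [(0, 2), (1, 2), (2, 2), (3, 2), (4, 2), (5, 3), (7, 3), (8, 2), (9, 3), (10, 3), (11, 3), (12, 1), (14, 1), (15, 3), (16, 1), (17, 1), (18, 1), (19, 1), (21, 1), (22, 1), (23, 1), (24, 1), (25, 1), (26, 2), (27, 3), (30, 3), (31, 1), (32, 1), (33, 3), (34, 3), (35, 3), (36, 1), (37, 3), (38, 2), (39, 1), (41, 3), (45, 1), (48, 1), (49, 2), (51, 1), (52, 1), (54, 2), (55, 3), (56, 1), (58, 1), (59, 2), (60, 2), (61, 2), (63, 2), (64, 2), (65, 1), (67, 3), (68, 1), (69, 1), (70, 3), (73, 2), (74, 1), (75, 3), (76, 3), (77, 1)],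
  [(0, 1), (1, 1), (2, 1), (3, 3), (6, 1), (8, 2), (9, 2), (11, 2), (12, 1), (13, 1), (14, 1), (15, 3), (16, 2), (17, 3), (20, 3), (22, 3), (23, 2), (27, 2), (28, 2), (29, 1), (30, 2), (32, 3), (33, 3), (35, 1), (39, 1), (40, 3), (43, 1), (44, 3), (45, 2), (46, 3), (47, 1), (49, 3), (50, 1), (51, 1), (52, 2), (53, 1), (54, 3), (58, 2), (61, 3), (62, 1), (63, 3), (64, 3), (65, 2), (66, 1), (68, 2), (72, 1), (73, 3), (74, 3), (77, 3)],
  [(0, 3), (1, 3), (2, 1), (4, 2), (5, 3), (6, 1), (7, 3), (8, 2), (9, 3), (10, 3), (11, 3), (12, 2), (13, 2), (14, 2), (15, 2), (16, 3), (18, 1), (19, 1), (21, 1), (22, 2), (23, 3), (24, 2), (25, 1), (27, 3), (28, 3), (29, 1), (30, 3), (32, 1), (33, 2), (34, 2), (35, 3), (36, 2), (37, 1), (39, 1), (40, 3), (41, 2), (42, 1), (43, 1), (44, 3), (45, 1), (46, 3), (47, 1), (48, 2), (49, 1), (50, 1), (51, 1), (52, 3), (53, 3), (54, 2), (55, 2),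 (56, 2), (58, 1), (59, 1), (61, 1), (63, 3), (65, 3), (66, 3), (68, 2), (69, 2), (70, 1), (73, 3), (74, 3), (76, 1), (77, 3)],
  [(0, 2), (1, 2), (3, 1), (5, 1), (7, 1), (8, 3), (9, 2), (11, 1), (12, 3), (13, 2), (14, 3), (15, 3), (16, 2), (17, 1), (18, 2), (19, 3), (20, 1), (21, 3), (22, 3), (23, 2), (24, 1), (25, 2), (26, 1), (27, 1), (28, 1), (30, 1), (31, 3), (33, 3), (34, 3), (37, 2), (38, 1), (42, 3), (45, 3), (49, 3), (58, 3), (59, 3), (60, 1), (61, 3), (62, 3), (64, 2), (68, 3), (70, 1), (71, 2), (72, 3), (76, 1)],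
  [(2, 3), (3, 2), (4, 2), (5, 2), (7, 2), (9, 2), (10, 3), (13, 1), (15, 3), (16, 2), (17, 2), (18, 3), (20, 2), (22, 3), (23, 2), (24, 2), (25, 3), (27, 2), (28, 2), (29, 2), (30, 2), (31, 3), (32, 3), (33, 3), (34, 3), (35, 3), (36, 1), (37, 3), (39, 1), (41, 2), (43, 2), (45, 2), (48, 1), (49, 2), (51, 1), (52, 1), (53, 1), (54, 2), (55, 2), (56, 2), (58, 2), (59, 1), (61, 2), (62, 2), (63, 3), (64, 2), (65, 1), (66, 1), (67, 1), (68, 3), (69, 2), (70, 3), (71, 1), (72, 2), (73, 3), (74, 3), (75, 1), (76, 3), (77, 3)],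
  [(0, 2), (1, 2), (2, 2), (4, 2), (6, 1), (8, 2), (9, 3), (10, 2), (13, 3), (15, 3), (16, 3), (17, 2), (20, 3), (22, 3), (23, 3), (24, 2), (26, 1), (28, 3), (29, 2), (31, 3), (32, 2), (33, 3), (34, 1), (35, 2), (36, 3), (38, 1), (39, 1), (41, 2), (42, 3), (43, 2), (45, 2), (48, 3), (49, 3), (51, 1), (52, 1), (54, 1), (55, 2), (56, 2), (58, 2), (59, 1), (60, 1), (61, 3), (62, 3), (63, 2), (64, 3), (65, 1), (69, 2), (70, 3), (71, 1), (72, 3), (73, 2), (74, 2), (76, 3), (77, 2)],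
  [(0, 2), (1, 2), (2, 2), (3, 2), (4, 2), (8, 2), (12, 3), (14, 3), (16, 3), (17, 3), (18, 3), (19, 3), (21, 3), (22, 3), (23, 3), (24, 3), (25, 3), (26, 2), (27, 2), (30, 2), (31, 3), (32, 1), (33, 2), (34, 2), (35, 2), (36, 2), (37, 2), (38, 2), (39, 1), (40, 1), (41, 2), (44, 1), (45, 1), (46, 1), (47, 1), (48, 2), (49, 1), (50, 1), (51, 1), (52, 3), (53, 3), (54, 1), (55, 2), (56, 3), (58, 1), (59, 1), (60, 1), (61, 1), (63, 1), (64, 1), (65, 3), (66, 3), (68, 3), (69, 3), (70, 3), (73, 1), (74, 3), (76, 3), (77, 3)],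
  [(0, 3), (1, 3), (2, 3), (3, 3), (4, 3), (5, 1), (7, 1), (8, 3), (9, 1), (10, 1), (11, 1), (12, 2), (14, 2), (15, 1), (16, 2), (17, 2), (18, 2), (19, 3), (21, 3), (22, 2), (23, 3), (24, 3), (25, 3), (26, 2), (27, 2), (29, 2), (30, 2), (31, 3), (32, 1), (33, 2), (34, 1), (35, 2), (36, 3), (37, 2), (38, 2), (39, 1), (40, 1), (41, 1), (43, 2), (44, 1), (46, 1), (47, 1), (48, 3), (50, 1), (51, 1), (53, 1), (55, 1), (62, 3), (63, 3), (66, 1), (67, 1), (68, 1), (72, 3), (73, 3), (74, 2), (75, 1), (77, 2)],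
  [(0, 3), (1, 3), (2, 3), (3, 3), (4, 3), (5, 3), (7, 3), (8, 3), (9, 3), (10, 3), (11, 3), (12, 3), (14, 3), (15, 3), (16, 3), (17, 3), (18, 3), (22, 3), (26, 1), (29, 2), (32, 1), (34, 3), (36, 1), (38, 1), (39, 1), (41, 2), (43, 2), (45, 1), (48, 1), (49, 3), (51, 1), (53, 3), (54, 3), (55, 2), (56, 1), (58, 1), (59, 3), (60, 3), (61, 3), (63, 1), (64, 3), (66, 3), (69, 1), (70, 3), (73, 1), (76, 3)],
  [(5, 2), (7, 2), (9, 2), (10, 2), (11, 2), (12, 3), (14, 3), (15, 2), (16, 3), (17, 3), (18, 3), (19, 3), (21, 3), (22, 3), (23, 3), (24, 3), (25, 3), (26, 1), (27, 2), (29, 3), (30, 2), (31, 3), (32, 3), (33, 2), (34, 1), (35, 2), (36, 1), (37, 2), (38, 1), (39, 2), (41, 2), (43, 3), (48, 1), (49, 2), (51, 2), (52, 2), (55, 2), (56, 3), (61, 2), (62, 1), (63, 2), (65, 2), (67, 1), (69, 3), (70, 2), (72, 1), (73, 2), (74, 3), (75, 1), (76, 2), (77, 3)],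
  [(0, 3), (1, 3), (2, 3), (3, 3), (4, 3), (8, 3), (12, 3), (14, 3), (16, 3), (17, 3), (18, 3), (19, 3), (21, 3), (22, 3), (23, 3), (24, 3), (25, 3), (26, 1), (29, 1), (31, 3), (32, 1), (34, 3), (36, 3), (38, 1), (41, 2), (43, 1), (45, 2), (48, 3), (49, 2), (53, 3), (54, 3), (55, 2), (56, 3), (58, 2), (59, 3), (60, 3), (61, 2), (63, 3), (64, 3), (66, 3), (68, 2), (69, 3), (73, 3)],
  [(0, 2), (1, 2), (2, 2), (3, 2), (4, 2), (5, 2), (7, 2), (8, 2), (9, 2), (10, 2), (11, 2), (12, 1), (14, 1), (15, 2), (16, 1), (17, 1), (18, 1), (19, 1), (21, 1), (22, 1), (23, 1), (24, 1), (25, 1), (27, 2), (29, 2), (30, 2), (31, 1), (32, 2), (33, 2), (34, 1), (35, 2), (36, 2), (37, 2), (39, 1), (41, 3), (43, 2), (45, 1), (48, 2), (49, 1), (51, 1), (52, 1), (53, 1), (54, 2), (55, 3), (56, 1), (58, 1), (59, 2), (60, 2), (61, 1), (62, 2), (63, 2), (64, 2), (65, 1), (66, 1), (68, 3), (69, 1),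 (70, 2), (72, 2), (73, 2), (74, 3), (76, 2), (77, 3)],
  [(0, 1), (1, 1), (2, 1), (3, 1), (4, 1), (5, 3), (7, 3), (8, 1), (9, 3), (10, 3), (11, 3), (12, 2), (14, 2), (15, 3), (16, 2), (17, 2), (18, 2), (19, 2), (21, 2), (22, 2), (23, 2), (24, 2), (25, 2), (26, 2), (27, 3), (29, 3), (30, 3), (31, 2), (32, 1), (33, 3), (34, 1), (35, 3), (36, 3), (37, 3), (38, 2), (39, 1), (43, 3), (45, 1), (48, 3), (51, 1), (52, 1), (53, 3), (54, 1), (56, 1), (58, 1), (59, 1), (60, 1), (62, 2), (63, 1), (64, 1), (65, 1), (66, 3), (68, 3), (69, 1), (72, 2), (73, 1), (74, 2), (77, 2)],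
  [(0, 1), (1, 1), (2, 1), (3, 1), (4, 1), (5, 1), (7, 1), (8, 1), (9, 1), (10, 1), (11, 1), (12, 2), (14, 2), (15, 1), (16, 2), (17, 2), (18, 2), (19, 2), (21, 2), (22, 2), (23, 2), (24, 2), (25, 2), (27, 1), (29, 1), (30, 1), (31, 2), (32, 1), (33, 1), (34, 3), (35, 1), (36, 2), (37, 1), (39, 1), (41, 3), (43, 1), (45, 2), (48, 2), (49, 1), (51, 1), (52, 1), (53, 2), (54, 1), (55, 3), (56, 1), (58, 2), (59, 1), (60, 1), (61, 1), (63, 3), (64, 1), (65, 1), (66, 2), (68, 2), (69, 1), (70, 1), (73, 3), (74, 1), (76, 1), (77, 1)],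
  [(5, 3), (7, 3), (9, 3), (10, 3), (11, 3), (15, 3), (26, 1), (27, 3), (29, 2), (30, 3), (32, 2), (33, 3), (34, 1), (35, 3), (36, 1), (37, 3), (38, 1), (41, 1), (43, 2), (45, 2), (48, 1), (55, 1), (58, 2), (62, 2), (63, 2), (67, 3), (68, 3), (70, 3), (72, 2), (73, 2), (74, 1), (75, 3), (76, 3), (77, 1)],
  [(29, 3), (41, 3), (43, 3), (49, 2), (53, 3), (55, 3), (61, 2), (62, 2), (63, 3), (66, 3), (67, 3), (68, 2), (70, 3), (72, 2), (73, 3), (74, 3), (75, 3), (76, 3), (77, 3)],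
  [(29, 3), (41, 3), (43, 3), (45, 3), (55, 3), (56, 3), (58, 3), (69, 3), (70, 3), (76, 3)]]

/-- Its inverse. -/
def tMat : List (List (ℕ × ℕ)) := [
  [(0, 1), (1, 3), (2, 1), (4, 1), (6, 1), (8, 1), (9, 3), (10, 2), (13, 1), (14, 1), (15, 1), (16, 3), (17, 2), (18, 1), (19, 2), (20, 1), (21, 2), (24, 3), (26, 2), (27, 3), (28, 3), (30, 1), (31, 2), (33, 2), (34, 2), (35, 2), (36, 3), (37, 3), (38, 1), (39, 1), (40, 3), (41, 2), (42, 3), (44, 2), (45, 3), (46, 2), (48, 1), (49, 3), (51, 1), (52, 1), (53, 3), (55, 2), (56, 2), (57, 2), (58, 3), (61, 3), (62, 2), (63, 3), (65, 1), (66, 3), (67, 3), (68, 2), (69, 3), (70, 2), (72, 1), (73, 2), (74, 3), (75, 2), (76, 2), (77, 3)],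
  [(0, 3), (3, 3), (4, 3), (8, 1), (9, 1), (11, 3), (12, 1), (13, 1), (15, 1), (16, 1), (17, 2), (18, 1), (19, 2), (20, 2), (21, 2), (22, 3), (24, 2), (26, 3), (27, 1), (29, 3), (30, 1), (31, 2), (32, 3), (34, 2), (35, 2), (40, 2), (41, 2), (42, 1), (43, 2), (47, 2), (48, 3), (49, 1), (50, 1), (52, 1), (53, 1), (55, 3), (57, 1), (58, 1), (60, 3), (61, 2), (63, 3), (64, 3), (65, 1), (66, 1), (67, 1), (68, 3), (69, 3), (70, 2), (71, 2), (72, 2), (73, 1), (75, 2), (77, 2)],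
  [(0, 1), (2, 1), (3, 2), (4, 3), (5, 3), (18, 2), (32, 2), (33, 2), (35, 2), (38, 2), (40, 2), (42, 2), (43, 1), (44, 2), (45, 2), (46, 3), (47, 2), (48, 3), (49, 1), (50, 2), (51, 3), (53, 1), (55, 1), (56, 1), (57, 1), (58, 1), (59, 3), (60, 2), (61, 2), (62, 2), (63, 2), (64, 2), (65, 1), (66, 2), (67, 2), (68, 1), (69, 3), (70, 3), (71, 1), (72, 1), (75, 3), (77, 2)],
  [(2, 1), (3, 3), (5, 3), (18, 1), (19, 2), (21, 3), (32, 3), (34, 2), (35, 3), (38, 2), (39, 2), (40, 3), (41, 1), (43, 3), (44, 2), (46, 3), (47, 2), (48, 2), (50, 3), (55, 3), (57, 3), (59, 3), (60, 1), (62, 1), (63, 3), (64, 3), (65, 1), (66, 1), (67, 3), (70, 2), (71, 3), (72, 3), (74, 3), (75, 3), (76, 3), (77, 3)],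
  [(0, 3), (1, 3), (4, 2), (6, 3), (9, 1), (10, 1), (11, 2), (12, 3), (14, 3), (16, 1), (18, 3), (21, 3), (22, 2), (24, 3), (26, 3), (27, 1), (28, 2), (29, 2), (32, 2), (35, 2), (36, 1), (37, 1), (38, 1), (39, 2), (40, 1), (41, 1), (43, 3), (44, 1), (45, 3), (46, 3), (47, 3), (48, 2), (51, 2), (62, 1), (64, 1), (66, 1)],
  [(2, 3), (3, 1), (4, 3), (6, 1), (8, 1), (9, 1), (10, 3), (11, 2), (12, 2), (13, 1), (14, 1), (16, 3), (17, 3), (19, 1), (20, 3), (21, 2), (22, 3), (24, 1), (25, 3), (26, 2), (27, 3), (28, 3), (30, 3), (32, 2), (34, 3), (35, 1), (36, 3), (38, 1), (40, 3), (41, 1), (42, 2), (43, 2), (44, 1), (45, 2), (46, 2), (47, 2), (49, 1), (50, 3), (51, 1), (52, 1), (53, 3), (54, 3), (56, 1), (57, 1), (58, 3), (60, 2), (61, 3), (63, 3), (64, 1), (65, 2), (66, 2), (67, 2), (68, 2), (70, 3), (72, 1), (73, 2), (74, 3), (75, 1), (76, 1), (77, 3)],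
  [(0, 3), (2, 1), (3, 2), (4, 2), (5, 3), (6, 2), (9, 3), (10, 3), (11, 1), (12, 2), (14, 2), (16, 3), (17, 2), (18, 3), (19, 3), (20, 1), (21, 2), (22, 1), (24, 2), (26, 2), (27, 3), (28, 1), (29, 1), (32, 2), (34, 3), (35, 1), (36, 2), (37, 2), (38, 3), (39, 2), (40, 3), (41, 3), (43, 2), (45, 2), (46, 2), (47, 2), (48, 1), (51, 1), (52, 1), (54, 1), (55, 1), (56, 3), (57, 2), (59, 2), (60, 1), (61, 3), (62, 3), (63, 1), (64, 3), (66, 3), (68, 3), (69, 1), (70, 3), (71, 3), (72, 1), (73, 1), (74, 1), (75, 1), (77, 2)],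
  [(2, 1), (3, 2), (4, 2), (5, 2), (8, 1), (9, 3), (10, 1), (11, 1), (12, 3), (13, 1), (16, 1), (17, 3), (19, 2), (20, 3), (21, 2), (25, 3), (26, 3), (27, 1), (29, 3), (30, 3), (32, 2), (35, 2), (37, 3), (38, 1), (39, 1), (40, 2), (41, 2), (43, 3), (46, 3), (47, 3), (48, 2), (49, 3), (52, 1), (53, 1), (54, 2), (55, 2), (56, 2), (57, 3), (58, 1), (60, 2), (61, 2), (62, 1), (63, 3), (64, 2), (65, 1), (67, 2), (68, 3), (69, 1), (70, 1), (71, 2), (72, 2), (73, 1), (76, 2), (77, 2)],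
  [(2, 1), (4, 3), (17, 2), (18, 1), (19, 3), (20, 3), (21, 3), (32, 3), (34, 3), (35, 2), (36, 1), (37, 1), (39, 1), (40, 2), (41, 1), (42, 2), (43, 3), (44, 2), (47, 2), (48, 1), (51, 3), (52, 1), (53, 3), (54, 1), (55, 2), (57, 3), (58, 3), (59, 2), (60, 1), (62, 2), (63, 2), (64, 2), (65, 1), (67, 3), (68, 3), (69, 2), (70, 2), (71, 3), (73, 2), (74, 1), (75, 1), (76, 1), (77, 2)],
  [(0, 3), (1, 2), (3, 2), (5, 1), (18, 3), (19, 3), (20, 2), (21, 2), (32, 1), (33, 2), (34, 3), (35, 3), (36, 1), (37, 1), (39, 2), (40, 1), (41, 2), (43, 1), (44, 2), (46, 1), (47, 3), (48, 3), (49, 3), (51, 2), (53, 1), (54, 2), (56, 3), (57, 3), (58, 1), (59, 3), (60, 3), (61, 2), (63, 2), (64, 1), (65, 2), (67, 1), (68, 1), (69, 1), (71, 1), (72, 1), (75, 1), (76, 2), (77, 2)],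
  [(0, 1), (3, 1), (4, 1), (17, 1), (18, 3), (19, 1), (20, 1), (21, 3), (32, 1), (33, 3), (34, 3), (35, 1), (36, 3), (39, 3), (40, 2), (41, 1), (42, 2), (43, 3), (44, 1), (47, 3), (48, 1), (49, 2), (50, 2), (54, 3), (55, 1), (56, 3), (59, 3), (60, 3), (62, 3), (64, 2), (65, 1), (67, 2), (69, 3), (70, 3), (71, 3), (72, 3), (74, 3), (77, 3)],
  [(0, 2), (2, 2), (3, 2), (5, 3), (6, 3), (9, 1), (10, 1), (11, 2), (12, 3), (14, 3), (16, 1), (17, 1), (18, 3), (19, 2), (21, 1), (22, 2), (24, 3), (26, 3), (27, 1), (28, 2), (29, 2), (32, 1), (33, 3), (35, 1), (37, 3), (39, 1), (40, 2), (43, 2), (44, 3), (46, 1), (47, 3), (48, 3), (50, 1), (62, 2), (63, 1), (64, 2), (65, 1)],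
  [(0, 2), (1, 1), (2, 1), (5, 3), (6, 1), (8, 1), (9, 3), (10, 1), (13, 1), (14, 3), (15, 2), (16, 2), (17, 3), (18, 1), (21, 1), (22, 1), (24, 1), (25, 1), (27, 3), (30, 1), (31, 2), (32, 3), (33, 3), (34, 3), (35, 3), (36, 2), (37, 1), (38, 3), (39, 2), (41, 3), (43, 2), (44, 2), (46, 1), (47, 3), (49, 2), (50, 1), (51, 1), (52, 2), (53, 1), (54, 1), (55, 2), (56, 2), (57, 3), (58, 2), (59, 2), (60, 1), (61, 3), (63, 2), (65, 2), (67, 1), (68, 3), (69, 1), (70, 2), (71, 2), (73, 1), (76, 2), (77, 3)],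
  [(0, 1), (2, 2), (3, 1), (4, 1), (5, 2), (6, 2), (9, 3), (10, 3), (11, 1), (12, 2), (14, 2), (16, 3), (17, 1), (19, 3), (20, 2), (21, 2), (22, 1), (24, 2), (26, 2), (27, 3), (28, 1), (29, 1), (32, 1), (34, 2), (35, 1), (36, 2), (39, 1), (40, 3), (41, 3), (42, 3), (43, 1), (45, 2), (47, 1), (48, 2), (49, 1), (50, 3), (51, 1), (52, 1), (54, 3), (56, 1), (59, 2), (61, 3), (63, 1), (67, 3), (68, 3), (69, 3), (71, 3), (72, 1), (73, 1), (74, 1), (75, 3), (76, 2), (77, 2)],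
  [(1, 1), (2, 3), (3, 2), (4, 1), (5, 2), (8, 1), (9, 1), (10, 3), (11, 3), (12, 1), (13, 1), (14, 2), (15, 2), (17, 3), (18, 1), (19, 3), (21, 1), (22, 2), (25, 1), (26, 1), (27, 1), (28, 3), (29, 3), (30, 1), (31, 2), (32, 3), (33, 1), (34, 2), (35, 2), (36, 1), (38, 1), (39, 3), (40, 2), (42, 2), (44, 3), (45, 1), (46, 3), (47, 3), (49, 3), (50, 1), (51, 1), (52, 2), (53, 2), (54, 2), (55, 1), (56, 1), (57, 2), (58, 2), (59, 2), (60, 1), (62, 2), (63, 1), (64, 2), (66, 1), (67, 2), (69, 1), (70, 1), (71, 3), (72, 3), (73, 1), (74, 2), (75, 1), (76, 3), (77, 2)],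
  [(1, 2), (17, 2), (18, 2), (19, 2), (20, 3), (21, 3), (32, 2), (33, 2), (34, 2), (35, 1), (36, 2), (37, 2), (39, 1), (40, 3), (41, 1), (42, 2), (43, 1), (47, 1), (48, 3), (52, 1), (53, 3), (54, 3), (55, 3), (56, 2), (57, 1), (58, 3), (59, 2), (62, 2), (64, 3), (66, 2), (68, 3), (70, 1), (71, 3), (73, 2), (74, 1), (75, 3), (76, 3), (77, 2)],
  [(0, 3), (1, 2), (2, 2), (3, 2), (4, 2), (5, 1), (33, 2), (34, 2), (35, 1), (37, 2), (38, 2), (40, 3), (42, 1), (43, 1), (44, 1), (45, 2), (46, 3), (47, 3), (48, 3), (49, 1), (50, 2), (51, 2), (52, 1), (53, 2), (55, 3), (56, 2), (57, 2), (58, 2), (59, 3), (62, 3), (63, 3), (64, 1), (65, 2), (66, 2), (67, 1), (68, 2), (69, 3), (72, 2), (76, 1), (77, 2)],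
  [(0, 2), (1, 1), (2, 2), (3, 1), (4, 2), (5, 3), (17, 1), (18, 2), (20, 2), (33, 1), (34, 2), (35, 2), (36, 2), (38, 3), (39, 1), (40, 1), (41, 3), (42, 3), (43, 3), (44, 1), (45, 1), (47, 3), (49, 2), (50, 3), (51, 1), (52, 3), (53, 3), (54, 2), (55, 3), (56, 1), (58, 3), (60, 1), (61, 1), (62, 3), (63, 1), (64, 2), (66, 1), (67, 3), (68, 3), (69, 3), (70, 2), (71, 3), (72, 2), (73, 2), (74, 1), (77, 3)],
  [(1, 1), (3, 1), (4, 3), (5, 2), (6, 3), (9, 1), (10, 1), (11, 2), (12, 3), (14, 3), (16, 1), (17, 1), (18, 2), (19, 3), (20, 3), (21, 2), (22, 2), (24, 3), (26, 3), (27, 1), (28, 2), (29, 2), (33, 1), (34, 1), (35, 3), (36, 1), (37, 3), (38, 3), (39, 3), (40, 3), (41, 2), (42, 3), (44, 1), (45, 2), (46, 2), (48, 3), (49, 3), (50, 3), (51, 2), (52, 1), (53, 2), (54, 3), (55, 1), (56, 2), (57, 1), (58, 1), (59, 3), (61, 2), (62, 3), (63, 1), (64, 1), (65, 3), (66,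 2), (68, 1), (69, 3), (70, 2), (71, 1), (72, 3), (73, 2), (74, 1), (75, 2), (76, 2)],
  [(0, 1), (2, 1), (3, 3), (4, 2), (5, 3), (6, 1), (8, 2), (9, 3), (10, 2), (11, 3), (12, 1), (13, 2), (14, 3), (15, 3), (16, 2), (17, 3), (18, 1), (21, 1), (22, 2), (24, 2), (25, 3), (27, 1), (28, 2), (29, 1), (30, 3), (31, 1), (32, 3), (33, 3), (34, 3), (35, 1), (36, 2), (37, 1), (38, 3), (40, 3), (41, 2), (42, 3), (43, 2), (44, 2), (45, 1), (46, 1), (48, 1), (49, 3), (50, 3), (51, 3), (52, 2), (54, 1), (55, 1), (56, 2), (57, 2), (58, 1), (59, 2), (60, 3), (61, 3), (62, 2), (63, 1), (65, 1), (66, 2), (67, 3), (68, 1), (69, 1), (70, 1), (71, 1), (73, 1), (74, 2), (75, 2), (76, 3), (77, 3)],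
  [(0, 1), (1, 3), (2, 3), (3, 1), (4, 3), (5, 2), (6, 2), (9, 3), (10, 3), (11, 1), (12, 2), (14, 2), (16, 3), (17, 1), (18, 3), (22, 1), (24, 2), (26, 2), (27, 3), (28, 1), (29, 1), (32, 2), (33, 3), (34, 3), (35, 1), (36, 1), (37, 2), (40, 3), (41, 2), (42, 2), (43, 3), (44, 2), (45, 1), (47, 1), (48, 3), (49, 1), (51, 2), (52, 2), (53, 3), (54, 3), (55, 3), (56, 2), (57, 1), (58, 3), (60, 3), (61, 1), (62, 2), (65, 3), (66, 3), (67, 3), (69, 3), (71, 2), (73, 1), (74, 3), (75, 2), (76, 3), (77, 2)],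
  [(0, 2), (1, 3), (2, 2), (3, 3), (5, 1), (8, 2), (9, 1), (13, 2), (14, 2), (15, 3), (17, 3), (18, 1), (19, 3), (20, 1), (21, 3), (22, 1), (24, 3), (25, 3), (26, 1), (27, 3), (28, 1), (29, 2), (30, 3), (31, 1), (32, 3), (33, 1), (34, 2), (36, 1), (38, 1), (39, 2), (40, 1), (41, 3), (42, 1), (43, 2), (46, 3), (47, 1), (48, 3), (49, 3), (52, 2), (53, 1), (54, 3), (55, 1), (56, 1), (57, 3), (58, 3), (60, 1), (61, 3), (63, 3), (64, 1), (65, 1), (66, 1), (68, 2), (71, 1), (72, 1), (73, 2), (74, 3), (75, 3), (76, 2), (77, 2)],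
  [(0, 3), (1, 2), (2, 2), (3, 2), (4, 2), (5, 1), (17, 2), (18, 1), (19, 1), (20, 1), (21, 1), (32, 3), (34, 1), (36, 3), (37, 3), (39, 3), (41, 3), (42, 1), (44, 1), (45, 2), (46, 2), (47, 3), (49, 2), (50, 2), (51, 2), (52, 2), (54, 3), (56, 1), (60, 3), (61, 2), (62, 3), (63, 3), (64, 1), (65, 2), (70, 1), (71, 2), (72, 1), (73, 2), (74, 3), (75, 2), (76, 2), (77, 2)],
  [(0, 2), (2, 3), (4, 1), (5, 2), (20, 1), (21, 2), (33, 2), (34, 2), (35, 1), (37, 2), (38, 2), (39, 3), (40, 3), (41, 2), (42, 1), (43, 3), (44, 2), (46, 3), (48, 1), (49, 1), (52, 1), (55, 2), (56, 2), (58, 3), (59, 3), (60, 2), (61, 3), (62, 3), (63, 2), (66, 2), (67, 2), (68, 1), (69, 3), (70, 2), (72, 2), (73, 1), (76, 1), (77, 2)],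
  [(0, 2), (1, 1), (2, 1), (3, 3), (4, 2), (5, 1), (17, 1), (18, 2), (20, 1), (21, 1), (33, 1), (34, 2), (36, 2), (38, 3), (39, 1), (40, 2), (41, 3), (43, 2), (44, 3), (45, 3), (46, 3), (47, 2), (49, 1), (50, 2), (51, 3), (52, 3), (53, 1), (55, 1), (56, 1), (57, 1), (58, 3), (60, 2), (61, 2), (62, 1), (63, 1), (64, 2), (65, 2), (66, 2), (67, 1), (68, 1), (69, 1), (70, 3), (71, 3), (72, 3), (73, 2), (74, 2), (75, 3), (76, 2), (77, 3)],
  [(1, 1), (2, 3), (3, 3), (4, 3), (6, 3), (9, 1), (10, 1), (11, 2), (12, 3), (14, 3), (16, 1), (17, 1), (18, 2), (19, 3), (21, 3), (22, 2), (24, 3), (26, 3), (27, 1), (28, 2), (29, 2), (33, 1), (34, 1), (35, 1), (36, 1), (37, 3), (38, 3), (39, 3), (41, 2), (43, 1), (44, 3), (47, 1), (48, 3), (49, 2), (50, 1), (51, 2), (52, 1), (53, 3), (58, 3), (60, 2), (62, 1), (63, 1), (64, 1), (66, 1), (67, 1), (68, 2), (69, 2), (70, 1), (71, 1), (74,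 3), (75, 1), (76, 3)],
  [(0, 2), (1, 1), (2, 1), (3, 3), (4, 2), (5, 1), (6, 2), (9, 3), (11, 3), (12, 3), (13, 3), (14, 2), (15, 3), (17, 1), (19, 3), (20, 3), (21, 1), (23, 3), (25, 1), (27, 1), (29, 3), (30, 2), (31, 3), (32, 3), (33, 2), (34, 3), (35, 1), (40, 1), (41, 1), (42, 1), (44, 3), (45, 2), (46, 1), (47, 2), (49, 1), (51, 1), (52, 3), (53, 2), (54, 2), (55, 2), (56, 1), (57, 3), (58, 3), (59, 3), (60, 3), (61, 1), (62, 1), (64, 2), (65, 1), (66, 2), (67, 2), (68, 2), (69, 3), (70, 3), (72, 3), (73, 2), (74, 1), (75, 3), (76, 1), (77, 3)],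
  [(0, 3), (1, 2), (2, 2), (3, 1), (4, 2), (5, 3), (6, 1), (8, 2), (9, 2), (10, 3), (12, 1), (13, 2), (14, 1), (15, 1), (16, 1), (17, 1), (18, 2), (21, 3), (22, 1), (25, 1), (26, 2), (28, 3), (29, 2), (30, 1), (31, 1), (33, 2), (34, 2), (35, 2), (36, 2), (37, 1), (38, 1), (40, 3), (41, 3), (42, 3), (43, 2), (45, 3), (46, 3), (47, 3), (48, 2), (49, 3), (50, 2), (51, 3), (53, 2), (54, 2), (55, 1), (56, 2), (57, 3), (59, 2), (61, 2), (62, 2), (64, 3), (65, 1), (66, 3), (67, 1), (70, 1), (71, 1), (72, 3), (73, 1), (74, 1), (75, 2), (76, 3)],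
  [(1, 1), (3, 2), (6, 2), (9, 3), (10, 3), (11, 1), (12, 2), (14, 2), (16, 3), (17, 1), (18, 3), (20, 3), (21, 1), (22, 1), (24, 2), (26, 2), (27, 3), (28, 1), (29, 1), (32, 2), (33, 3), (34, 3), (36, 1), (37, 2), (39, 3), (40, 1), (43, 2), (45, 2), (48, 1), (49, 1), (50, 3), (51, 1), (52, 2), (53, 3), (54, 2), (56, 1), (57, 1), (58, 1), (59, 2), (60, 3), (61, 1), (62, 3), (63, 1), (64, 2), (66, 3), (67, 2), (68, 2), (69, 1), (72, 3), (73, 1), (74, 2), (76, 3), (77, 2)],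
  [(6, 2), (7, 1), (8, 2), (9, 1), (10, 2), (12, 2), (13, 1), (15, 1), (16, 2), (23, 2), (25, 1), (27, 2), (28, 3), (29, 3), (31, 1), (52, 1), (53, 2), (54, 2), (55, 1), (56, 1), (58, 1), (59, 2), (60, 1), (61, 1), (67, 1), (68, 2), (69, 2), (70, 1), (71, 2), (72, 1), (73, 2), (74, 2), (76, 1), (77, 2)],
  [(0, 2), (1, 3), (2, 2), (3, 3), (5, 1), (8, 2), (10, 1), (11, 3), (13, 2), (15, 1), (16, 3), (17, 1), (19, 2), (21, 2), (22, 2), (24, 1), (25, 1), (26, 3), (27, 2), (29, 1), (30, 1), (31, 1), (32, 3), (33, 3), (35, 2), (36, 1), (37, 2), (38, 1), (39, 2), (40, 3), (41, 3), (43, 2), (44, 1), (45, 2), (46, 1), (48, 3), (49, 1), (51, 1), (53, 1), (54, 2), (55, 2), (56, 3), (57, 1), (58, 1), (59, 1), (60, 2), (61, 1), (63, 3), (64, 1), (65, 1), (66, 3), (67, 3), (68, 1), (69, 1), (70, 3), (71, 1), (72, 3), (73, 1), (74, 2), (75, 1)],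
  [(0, 3), (2, 2), (3, 2), (4, 2), (5, 1), (17, 2), (18, 1), (19, 1), (20, 1), (21, 1), (32, 3), (34, 1), (36, 3), (37, 3), (39, 3), (41, 3), (42, 1), (44, 1), (46, 3), (47, 1), (49, 1), (51, 1), (52, 2), (54, 2), (55, 3), (56, 2), (58, 2), (59, 2), (60, 3), (61, 2), (62, 3), (63, 3), (64, 3), (65, 3), (66, 2), (67, 1), (68, 2), (69, 2), (70, 1), (72, 2), (73, 2), (74, 2), (76, 2), (77, 2)],
  [(17, 2), (18, 2), (19, 2), (20, 2), (21, 2), (32, 2), (33, 2), (34, 2), (35, 2), (36, 2), (37, 2), (39, 2), (40, 2), (41, 2), (42, 2), (44, 2), (45, 2), (46, 2), (47, 2), (49, 2), (51, 2), (52, 1), (54, 3), (55, 2), (56, 3), (57, 2), (58, 1), (59, 1), (60, 2), (61, 1), (62, 2), (63, 2), (64, 2), (65, 2), (66, 2), (67, 2), (68, 3), (69, 1), (70, 2), (72, 3), (73, 3), (74, 3), (75, 2), (76, 1), (77, 2)],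
  [(2, 3), (4, 1), (20, 1), (21, 2), (35, 3), (39, 3), (40, 1), (41, 2), (42, 1), (43, 1), (44, 2), (45, 2), (46, 1), (48, 3), (49, 3), (50, 2), (53, 2), (54, 3), (55, 2), (56, 1), (58, 1), (59, 2), (60, 2), (61, 1), (62, 3), (63, 2), (66, 2), (67, 2), (68, 3), (69, 2), (70, 2), (71, 2), (72, 1), (73, 3), (74, 3)],
  [(0, 2), (2, 1), (3, 3), (4, 2), (5, 1), (17, 3), (18, 2), (19, 1), (20, 1), (21, 3), (32, 1), (34, 1), (35, 3), (36, 2), (37, 2), (39, 2), (40, 3), (41, 3), (42, 3), (44, 1), (46, 3), (49, 3), (51, 3), (52, 2), (53, 2), (54, 3), (55, 1), (56, 3), (57, 1), (58, 1), (59, 3), (60, 2), (61, 1), (62, 3), (63, 2), (65, 3), (67, 2), (68, 2), (69, 1), (71, 3), (73, 3), (74, 3), (75, 3), (76, 3), (77, 3)],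
  [(1, 2), (2, 3), (4, 3), (17, 1), (18, 1), (20, 1), (21, 3), (32, 2), (33, 2), (34, 2), (35, 2), (36, 3), (40, 3), (41, 3), (42, 2), (44, 3), (45, 3), (46, 1), (47, 3), (48, 1), (50, 2), (51, 1), (53, 3), (54, 1), (55, 2), (58, 2), (59, 2), (60, 2), (61, 3), (62, 1), (64, 1), (65, 2), (66, 1), (67, 2), (68, 3), (69, 1), (70, 2), (72, 1), (73, 1), (74, 3)],
  [(8, 3), (9, 2), (10, 1), (13, 3), (16, 1), (24, 2), (25, 3), (26, 1), (27, 1), (29, 3), (30, 1), (31, 1), (53, 3), (54, 2), (55, 1), (58, 3), (61, 1), (69, 2), (70, 3), (71, 1), (72, 1), (74, 3), (75, 1), (76, 1)],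
  [(0, 1), (1, 2), (5, 2), (6, 3), (9, 1), (10, 1), (11, 2), (12, 3), (14, 3), (16, 1), (17, 1), (19, 1), (20, 2), (21, 1), (22, 2), (24, 3), (26, 3), (27, 1), (28, 2), (29, 2), (33, 1), (34, 3), (35, 2), (36, 1), (37, 2), (39, 3), (40, 3), (41, 2), (43, 1), (44, 3), (46, 1), (47, 1), (48, 3), (50, 2), (51, 2), (53, 1), (54, 3), (55, 3), (56, 3), (57, 2), (59, 1), (60, 1), (61, 3), (65, 1), (66, 1), (67, 2), (68, 1), (70, 2), (72, 3), (73, 3), (76, 1)],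
  [(6, 2), (9, 3), (11, 3), (12, 3), (13, 3), (14, 2), (15, 3), (23, 3), (25, 1), (27, 1), (29, 3), (30, 2), (31, 3)],
  [(1, 1), (7, 3), (8, 3), (9, 1), (22, 3), (23, 2), (24, 2), (25, 3), (26, 2), (27, 3), (52, 3), (53, 3), (54, 3), (55, 2), (56, 3), (57, 1), (59, 1), (61, 2), (68, 2), (69, 3), (70, 3), (71, 3), (72, 1), (73, 3), (74, 3)],
  [(0, 1), (1, 3), (2, 1), (4, 1), (6, 3), (8, 2), (9, 2), (10, 1), (11, 3), (12, 3), (13, 2), (14, 1), (15, 3), (17, 3), (18, 1), (19, 3), (20, 1), (21, 1), (22, 2), (23, 2), (24, 1), (25, 1), (26, 3), (27, 2), (28, 1), (29, 3), (30, 2), (33, 2), (34, 2), (35, 2), (36, 3), (37, 2), (38, 1), (40, 2), (41, 1), (42, 2), (43, 2), (45, 3), (46, 2), (47, 2), (48, 2), (49, 2), (50, 2), (51, 3), (52, 2), (55, 2), (56, 2), (57, 2), (58, 1), (59, 1), (60, 1), (61, 3), (62, 2), (64, 2), (65, 1), (66, 3), (68, 1), (70, 1), (71, 3), (72, 1),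 (74, 2), (75, 3), (76, 2)],
  [(1, 2), (6, 2), (7, 1), (8, 3), (9, 2), (10, 3), (11, 2), (12, 3), (13, 3), (14, 2), (16, 3), (22, 1), (23, 1), (24, 1), (25, 3), (28, 2), (29, 2), (30, 2), (52, 1), (53, 3), (54, 2), (55, 3), (56, 2), (57, 3), (58, 3), (59, 2), (61, 3), (67, 1), (68, 1), (69, 1), (70, 3), (73, 2), (74, 2), (75, 2), (77, 2)],
  [(1, 3), (3, 2), (6, 2), (9, 3), (10, 3), (11, 1), (12, 2), (14, 2), (16, 3), (17, 3), (18, 3), (20, 3), (21, 1), (22, 1), (24, 2), (26, 2), (27, 3), (28, 1), (29, 1), (32, 1), (33, 1), (34, 1), (35, 2), (36, 2), (40, 3), (41, 3), (43, 2), (46, 2), (48, 1), (49, 3), (50, 3), (51, 1), (54, 3), (57, 2), (60, 3), (63, 2), (64, 1), (65, 3), (66, 1), (67, 2), (68, 1), (69, 3), (71, 3), (72, 2), (73, 2), (74, 3), (75, 3), (76, 1)],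
  [(6, 2), (7, 1), (8, 2), (9, 1), (10, 2), (12, 2), (13, 1), (15, 1), (16, 2), (23, 2), (25, 1), (27, 2), (28, 3), (29, 3), (31, 1)],
  [(1, 2), (6, 2), (8, 2), (10, 3), (12, 2), (13, 2), (15, 3), (16, 2), (17, 2), (19, 3), (21, 3), (22, 1), (23, 2), (25, 1), (26, 2), (28, 2), (30, 2), (32, 1), (33, 3), (34, 2), (35, 3), (36, 3), (37, 2), (38, 1), (39, 1), (40, 3), (41, 3), (43, 1), (44, 3), (45, 3), (46, 2), (48, 1), (49, 2), (50, 1), (51, 3), (52, 1), (54, 1), (56, 1), (59, 1), (62, 1), (63, 3), (64, 1), (65, 3), (66, 2), (69, 1), (72, 1), (74, 1), (76, 1)],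
  [(1, 2), (6, 2), (8, 2), (10, 1), (12, 2), (13, 1), (15, 1), (16, 1), (22, 3), (23, 3), (25, 3), (26, 2), (28, 3), (30, 2), (53, 2), (55, 1), (57, 2), (58, 1), (60, 1), (61, 1), (67, 3), (68, 3), (70, 3), (71, 2), (73, 3), (75, 2), (77, 2)],
  [(0, 2), (2, 1), (4, 3), (5, 2), (20, 3), (21, 1), (35, 3), (39, 1), (40, 1), (41, 3), (42, 1), (46, 1), (47, 2), (49, 3), (59, 2), (61, 3), (62, 3), (64, 2), (71, 2), (72, 3), (73, 1), (74, 1)],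
  [(1, 3), (2, 2), (3, 1), (4, 2), (5, 1), (18, 2), (20, 2), (32, 2), (33, 2), (34, 2), (35, 2), (36, 1), (37, 3), (38, 3), (39, 2), (40, 2), (41, 1), (42, 3), (44, 1), (45, 2), (47, 3), (49, 1), (50, 3), (51, 1), (52, 2), (53, 2), (54, 1), (55, 2), (56, 1), (57, 2), (58, 2), (59, 2), (60, 2), (61, 2), (62, 1), (63, 2), (64, 1), (65, 2), (69, 2), (71, 2), (72, 1), (74, 1), (75, 2), (76, 2)],
  [(8, 3), (9, 2), (10, 1), (13, 3), (16, 1), (24, 2), (25, 3), (26, 1), (27, 1), (29, 3), (30, 1), (31, 1)],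
  [(7, 3), (8, 2), (11, 2), (12, 1), (13, 2), (14, 3), (15, 1), (22, 2), (23, 2), (24, 1), (25, 1), (26, 3), (28, 2), (29, 2), (30, 3), (31, 2), (52, 3), (53, 2), (56, 2), (57, 1), (58, 2), (59, 3), (60, 1), (67, 2), (68, 2), (69, 1), (70, 1), (71, 3), (73, 2), (74, 2), (75, 3), (76, 2)],
  [(0, 2), (1, 3), (2, 1), (3, 1), (4, 1), (6, 3), (9, 1), (10, 1), (11, 2), (12, 3), (14, 3), (16, 1), (17, 3), (18, 1), (20, 1), (22, 2), (24, 3), (26, 3), (27, 1), (28, 2), (29, 2), (32, 1), (33, 1), (34, 2), (35, 1), (36, 1), (37, 3), (38, 3), (39, 1), (40, 1), (41, 1), (42, 2), (43, 3), (44, 2), (45, 2), (47, 2), (48, 3), (49, 1), (51, 2), (55, 2), (56, 1), (57, 3), (58, 2), (59, 2), (60, 3), (61, 1), (62, 3), (63, 1), (64, 3), (65, 1), (66, 3), (67, 3), (68, 2), (69, 1), (70, 1), (73, 1), (74, 2), (75, 3)],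
  [(7, 3), (8, 3), (9, 1), (22, 3), (23, 2), (24, 2), (25, 3), (26, 2), (27, 3)],
  [(7, 3), (8, 2), (9, 3), (10, 2), (11, 1), (12, 1), (14, 2), (15, 3), (16, 3), (22, 3), (23, 3), (24, 1), (25, 1), (26, 1), (27, 3), (29, 2), (30, 2), (31, 3), (52, 3), (53, 2), (54, 3), (55, 2), (56, 1), (57, 1), (59, 2), (60, 3), (61, 3), (67, 3), (68, 3), (69, 1), (70, 1), (71, 1), (72, 3), (74, 2), (75, 2), (76, 3)],
  [(1, 1), (7, 1), (8, 3), (9, 1), (10, 1), (11, 3), (12, 1), (13, 2), (15, 2), (16, 3), (23, 1), (25, 3), (27, 1), (28, 3), (30, 2), (31, 2), (52, 1), (53, 3), (54, 3), (55, 3), (58, 2), (59, 1), (60, 2), (61, 1), (67, 3), (68, 1), (69, 1), (70, 3), (71, 1), (72, 3), (74, 3), (75, 2), (76, 2)],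
  [(0, 3), (2, 3), (3, 1), (4, 1), (5, 3), (6, 1), (9, 2), (10, 2), (11, 3), (12, 1), (14, 1), (16, 2), (19, 1), (20, 3), (21, 3), (22, 3), (24, 1), (26, 1), (27, 2), (28, 3), (29, 3), (34, 1), (35, 3), (36, 1), (37, 1), (39, 2), (40, 2), (42, 3), (43, 2), (44, 2), (48, 3), (49, 2), (50, 2), (51, 1), (54, 2), (55, 2), (57, 2), (58, 1), (60, 2), (61, 2), (63, 3), (64, 2), (65, 1), (66, 2), (68, 1), (69, 2), (70, 2), (72, 2), (73, 2), (74, 2)],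
  [(6, 2), (7, 1), (8, 3), (9, 2), (10, 3), (11, 2), (12, 3), (13, 3), (14, 2), (16, 3), (22, 1), (23, 1), (24, 1), (25, 3), (28, 2), (29, 2), (30, 2)],
  [(8, 2), (10, 1), (12, 2), (13, 1), (14, 3), (15, 2), (16, 1), (22, 3), (23, 3), (25, 1), (26, 1), (27, 2), (30, 3), (31, 1), (53, 2), (55, 1), (57, 2), (58, 1), (59, 3), (60, 2), (61, 1), (67, 3), (68, 3), (70, 1), (71, 1), (72, 2), (75, 3), (76, 1)],
  [(0, 3), (3, 3), (4, 2), (5, 2), (6, 2), (9, 3), (10, 3), (11, 1), (12, 2), (14, 2), (16, 3), (17, 2), (18, 1), (19, 2), (20, 2), (21, 1), (22, 1), (24, 2), (26, 2), (27, 3), (28, 1), (29, 1), (32, 1), (33, 1), (34, 1), (35, 2), (36, 1), (37, 2), (42, 3), (45, 3), (46, 3), (49, 2), (51, 3), (52, 1), (53, 2), (55, 1), (56, 1), (57, 2), (58, 2), (60, 1), (61, 2), (64, 1), (65, 1), (66, 2), (67, 2), (70, 2), (71, 2), (72, 1), (75, 2), (76, 1)],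
  [(6, 2), (8, 2), (10, 1), (12, 2), (13, 1), (15, 1), (16, 1), (22, 3), (23, 3), (25, 3), (26, 2), (28, 3), (30, 2)],
  [(0, 1), (3, 2), (5, 3), (20, 2), (21, 3), (35, 2), (39, 2), (40, 2), (41, 1), (42, 2), (43, 3), (44, 1), (45, 2), (48, 1), (50, 2), (51, 3), (54, 3), (55, 3), (56, 1), (57, 2), (60, 3), (61, 3), (62, 2), (63, 3), (65, 1), (66, 2), (67, 1), (69, 2), (70, 1), (71, 2), (72, 2), (73, 1), (74, 2), (75, 2)],
  [(0, 2), (2, 1), (3, 2), (4, 1), (18, 1), (20, 1), (32, 3), (36, 2), (37, 2), (38, 2), (39, 3), (41, 2), (43, 1), (44, 1), (46, 1), (48, 1), (49, 3), (50, 2), (51, 1), (53, 2), (54, 3), (55, 2), (56, 3), (57, 2), (58, 2), (60, 2), (61, 2), (63, 1), (65, 1), (71, 2), (72, 3), (74, 3), (75, 2)],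
  [(7, 3), (8, 2), (11, 2), (12, 1), (13, 2), (14, 3), (15, 1), (22, 2), (23, 2), (24, 1), (25, 1), (26, 3), (28, 2), (29, 2), (30, 3), (31, 2)],
  [(7, 3), (8, 1), (9, 2), (10, 3), (11, 3), (12, 2), (13, 3), (14, 1), (15, 2), (22, 1), (24, 2), (25, 3), (26, 2), (27, 1), (28, 3), (29, 3), (30, 1), (31, 3), (52, 3), (53, 1), (54, 2), (55, 3), (56, 3), (57, 2), (58, 3), (59, 1), (60, 2), (67, 1), (69, 2), (70, 3), (71, 2), (72, 1), (73, 3), (74, 3), (75, 1), (76, 3)],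
  [(7, 2), (8, 1), (11, 2), (12, 1), (13, 1), (14, 3), (15, 3), (22, 3), (24, 3), (26, 2), (28, 2), (29, 1), (30, 2), (31, 1), (52, 2), (53, 1), (56, 2), (57, 1), (58, 1), (59, 3), (60, 3), (67, 3), (69, 3), (71, 2), (73, 2), (74, 1), (75, 2), (76, 1)],
  [(0, 1), (1, 3), (2, 1), (3, 1), (4, 1), (5, 3), (6, 3), (9, 1), (10, 1), (11, 2), (12, 3), (14, 3), (16, 1), (18, 1), (19, 3), (20, 3), (21, 1), (22, 2), (24, 3), (26, 3), (27, 1), (28, 2), (29, 2), (32, 3), (34, 3), (35, 2), (36, 1), (37, 1), (38, 2), (39, 2), (40, 1), (42, 1), (46, 2), (47, 3), (48, 3), (50, 2), (51, 2), (53, 2), (54, 1), (56, 2), (57, 1), (58, 1), (59, 3), (60, 2), (61, 3), (62, 2), (63, 3), (64, 3), (65, 2), (67, 1), (68, 3), (69, 3), (71, 1), (72, 2), (73, 2), (74, 1), (75, 2)],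
  [(7, 3), (8, 2), (9, 3), (10, 2), (11, 1), (12, 1), (14, 2), (15, 3), (16, 3), (22, 3), (23, 3), (24, 1), (25, 1), (26, 1), (27, 3), (29, 2), (30, 2), (31, 3)],
  [(7, 1), (8, 3), (9, 1), (10, 1), (11, 3), (12, 1), (13, 2), (15, 2), (16, 3), (23, 1), (25, 3), (27, 1), (28, 3), (30, 2), (31, 2)],
  [(7, 1), (8, 3), (9, 2), (10, 2), (11, 2), (12, 3), (13, 2), (14, 1), (15, 2), (16, 2), (22, 1), (23, 1), (24, 2), (25, 1), (26, 3), (27, 1), (28, 1), (29, 1), (30, 3), (31, 2), (52, 1), (53, 3), (54, 2), (55, 2), (56, 2), (57, 3), (58, 2), (59, 1), (60, 2), (61, 2), (67, 1), (68, 1), (69, 2), (70, 1), (71, 3), (72, 1), (73, 1), (74, 1), (75, 3), (76, 2)],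
  [(1, 1), (54, 2), (55, 2), (56, 3), (57, 1), (59, 1), (61, 2), (67, 3), (69, 1), (71, 1), (72, 2), (73, 3), (74, 3)],
  [(8, 2), (10, 1), (12, 2), (13, 1), (14, 3), (15, 2), (16, 1), (22, 3), (23, 3), (25, 1), (26, 1), (27, 2), (30, 3), (31, 1)],
  [(8, 1), (10, 2), (11, 3), (12, 3), (13, 2), (14, 3), (15, 2), (16, 2), (23, 3), (24, 3), (26, 1), (27, 3), (28, 3), (30, 3), (53, 1), (55, 2), (56, 3), (57, 3), (58, 2), (59, 3), (60, 2), (61, 2), (68, 3), (69, 3), (71, 1), (72, 3), (73, 3), (75, 3)],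
  [(0, 3), (1, 2), (3, 3), (4, 2), (5, 2), (6, 2), (9, 3), (10, 3), (11, 1), (12, 2), (14, 2), (16, 3), (18, 2), (19, 3), (20, 1), (22, 1), (24, 2), (26, 2), (27, 3), (28, 1), (29, 1), (32, 1), (34, 3), (35, 3), (38, 3), (40, 1), (41, 1), (43, 3), (44, 1), (45, 2), (46, 1), (47, 3), (48, 3), (50, 3), (51, 2), (53, 3), (54, 1), (55, 3), (56, 3), (57, 1), (59, 2), (60, 3), (63, 1), (64, 1), (67, 2), (68, 3), (69, 2), (70, 2), (71, 3), (72, 3), (73, 3), (74, 1), (75, 1)],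
  [(7, 3), (8, 1), (9, 2), (10, 3), (11, 3), (12, 2), (13, 3), (14, 1), (15, 2), (22, 1), (24, 2), (25, 3), (26, 2), (27, 1), (28, 3), (29, 3), (30, 1), (31, 3)],
  [(7, 2), (8, 1), (11, 2), (12, 1), (13, 1), (14, 3), (15, 3), (22, 3), (24, 3), (26, 2), (28, 2), (29, 1), (30, 2), (31, 1)],
  [(7, 2), (8, 3), (9, 1), (10, 2), (11, 1), (12, 3), (13, 2), (14, 2), (15, 2), (16, 2), (22, 1), (23, 1), (24, 1), (25, 1), (26, 3), (27, 2), (28, 1), (29, 2), (30, 3), (31, 1), (52, 2), (53, 3), (54, 1), (55, 2), (56, 1), (57, 3), (58, 2), (59, 2), (60, 2), (61, 2), (67, 1), (68, 1), (69, 1), (70, 1), (71, 3), (72, 2), (73, 1), (74, 2), (75, 3), (76, 1)],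
  [(7, 1), (8, 3), (9, 2), (10, 2), (11, 2), (12, 3), (13, 2), (14, 1), (15, 2), (16, 2), (22, 1), (23, 1), (24, 2), (25, 1), (26, 3), (27, 1), (28, 1), (29, 1), (30, 3), (31, 2)],
  [(8, 1), (10, 2), (11, 3), (12, 3), (13, 2), (14, 3), (15, 2), (16, 2), (23, 3), (24, 3), (26, 1), (27, 3), (28, 3), (30, 3)],
  [(7, 2), (8, 3), (9, 1), (10, 2), (11, 1), (12, 3), (13, 2), (14, 2), (15, 2), (16, 2), (22, 1), (23, 1), (24, 1), (25, 1), (26, 3), (27, 2), (28, 1), (29, 2), (30, 3), (31, 1)]]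

/-- The free coordinate. -/
def fCol : ℕ := 74

/-- The spanning steps. -/
def stepList : List (ℕ × ℕ) := [(1, 0), (5, 0), (6, 0), (7, 0), (8, 0), (2, 1), (8, 1), (4, 2), (8, 2), (8, 3), (8, 4), (7, 5), (8, 6), (7, 7), (8, 8), (7, 9), (7, 10), (7, 11), (3, 12), (7, 13), (3, 14), (7, 15), (3, 16), (3, 17), (3, 18), (2, 19), (4, 19), (3, 20), (2, 21), (4, 21), (3, 22), (2, 23), (4, 23), (2, 24), (4, 24), (2, 25), (4, 25), (1, 26), (4, 26), (5, 27), (2, 28), (4, 28), (1, 29), (5, 30), (2, 31), (5, 33), (5, 35), (1, 36), (4, 36), (5, 37), (4, 38), (3, 39), (5, 39), (6, 40), (1, 41), (4, 41), (5, 42), (1, 45), (6, 46), (6, 47), (4, 48), (3, 49), (5, 49), (6, 50), (3, 51), (5, 51), (5, 52), (6, 53), (4, 55), (5, 56), (6, 57), (3, 61), (5, 61), (5, 62), (5, 65), (5, 69), (5, 72)]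

end Cfsg.Agent.Lib.E6Fi22
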