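import Cfsg.Agent.Lib.LieTwisted.Twist.E6
import Cfsg.Agent.Lib.E6Fi22.DataGens

/-!
The sixteen standard generators of the twisted group of type E₆ over the field of order four,
the parities of the coefficients of their root elements.
-/

set_option autoImplicit false
set_option maxRecDepth 100000
set_option linter.unusedSectionVars false

namespace Cfsg.Agent.Lib.E6Fi22

open Cfsg.Lie Cfsg.Agent.Lib.ChevStructure
open scoped MatrixGroups

/-- The numbering of the coordinates. -/
def idx : chevE6.Idx ≃ Fin 78 := finSumFinEquiv.trans (finCongr (by decide))

/-- A root. -/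
def rtN (r : ℕ) : Rt chevE6 := ⟨r % 72, Nat.mod_lt _ (by norm_num)⟩

/-- The recorded parities are those of the coefficients of a root element. -/
def okPar (r : Rt chevE6) (Q : List (List ℕ)) : Bool :=
  ((List.finRange 4).all fun k => (List.finRange 78).all fun a => (List.finRange 78).all fun b =>
    decide (E chevE6 k.val r (idx.symm a) (idx.symm b) % 2 =
      cond (((Q.getD k.val []).getD a.val 0).testBit b.val) 1 0)) &&
  Q.all fun l => l.all fun x => Nat.blt x (2 ^ 78)

theorem par_ok : ((List.range 12).all fun i => okPar (rtN (rootList.getD i 0)) (parList.getD i [])) = true := by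
  decide +kernel

end Cfsg.Agent.Lib.E6Fi22
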