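import Cfsg.Agent.Lib.LieTwisted.Twist.E6
import Cfsg.Agent.Lib.E6Fi22.Code
import Cfsg.Agent.Lib.E6Fi22.DataGens
import Cfsg.Agent.Lib.E6Fi22.GensCheck

/-!
The sixteen standard generators of the twisted group of type E₆ over the field of order four,
as coded matrices of size 78.
-/

set_option autoImplicit false
set_option maxRecDepth 100000
set_option linter.unusedSectionVars false

namespace Cfsg.Agent.Lib.E6Fi22

open Cfsg.Lie Cfsg.Agent.Lib.ChevStructure
open Cfsg.Agent.Lib.LieTwisted.Twist (E6.C)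
open scoped MatrixGroups

/-- Powers of a coefficient code. -/
def pw : ℕ → ℕ → ℕ
  | _, 0 => 1
  | c, 1 => c
  | 2, 2 => 3
  | 3, 2 => 2
  | _, _ => 1

/-- A coded root element. -/
def elN (Q : List (List ℕ)) (c : ℕ) : ℕ :=
  packRows ((List.range 78).map fun a =>
    Nat.xor (Nat.xor (scl (pw c 0) ((Q.getD 0 []).getD a 0)) (scl (pw c 1) ((Q.getD 1 []).getD a 0)))
      (Nat.xor (scl (pw c 2) ((Q.getD 2 []).getD a 0)) (scl (pw c 3) ((Q.getD 3 []).getD a 0))))

/-- The place of the root of a root element and the code of its parameter. -/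
def keyOf (e : ℕ) : ℕ × ℕ := elKey.getD e (0, 0)

/-- The root of a root element. -/
def rootOf (e : ℕ) : ℕ := rootList.getD (keyOf e).1 0

theorem el_ok : ((List.range 28).all fun e => okGen (elList.getD e []) && Nat.blt (keyOf e).1 12 &&
    Nat.blt 0 (keyOf e).2 && Nat.blt (keyOf e).2 4 && Nat.blt (rootOf e) 72 &&
    Nat.beq (evalN [elList.getD e []]) (elN (parList.getD (keyOf e).1 []) (keyOf e).2)) = true := by
  decide +kernel

/-- The square of a coefficient code. -/
def sq (c : ℕ) : ℕ := pw c 2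

/-- A word is one of the standard words. -/
def okWd : List ℕ → Bool
  | [e] => [e6p2, e6m2, e6p4, e6m4].contains (rootOf e) && Nat.beq (keyOf e).2 1 && Nat.blt e 28
  | [e, e'] => [(e6p1, e6p6), (e6m1, e6m6), (e6p3, e6p5), (e6m3, e6m5)].contains (rootOf e, rootOf e') &&
      Nat.beq (keyOf e').2 (sq (keyOf e).2) && Nat.blt e 28 && Nat.blt e' 28
  | _ => false

theorem wd_ok : ((List.range 16).all fun i => okWd (wdList.getD i [])) = true := by decide +kernel

section Field

variable {K : Type*} [Field K] [CharP K 2] (ω : K)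

theorem cfv_pw (hω : ω * ω = ω + 1) {c : ℕ} (hc : c = 1 ∨ c = 2 ∨ c = 3) :
    cfv ω (pw c 0) = 1 ∧ cfv ω (pw c 1) = cfv ω c ∧ cfv ω (pw c 2) = cfv ω c ^ 2 ∧
      cfv ω (pw c 3) = cfv ω c ^ 3 := by
  have h2 : (2 : K) = 0 := CharTwo.two_eq_zero
  rcases hc with rfl | rfl | rfl <;> refine ⟨rfl, rfl, ?_, ?_⟩ <;> simp only [pw, cfv]
  · ring
  · ring
  · linear_combination -hω
  · linear_combination -(ω + 1) * hω - ω * h2
  · linear_combination -hω - (ω + 1) * h2
  · linear_combination -(ω + 4) * hω - (4 * ω + 2) * h2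

theorem intCast_parity (z : ℤ) (b : Bool) (h : z % 2 = cond b 1 0) : (z : K) = bv b := by
  have h2 : (2 : K) = 0 := CharTwo.two_eq_zero
  rw [← Int.emod_add_ediv_mul z 2, Int.cast_add, Int.cast_mul, h]
  cases b <;> simp [bv, h2]

theorem rowVec_small {r j : ℕ} (hr : r < 2 ^ 78) : rowVec ω r j = bv (r.testBit j) := by
  have h : r.testBit (78 + j) = false :=
    Nat.testBit_lt_two_pow (lt_of_lt_of_le hr (Nat.pow_le_pow_right (by norm_num) (Nat.le_add_right 78 j)))
  rw [rowVec, h, bv_false, mul_zero, add_zero]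

theorem xI_code (hω : ω * ω = ω + 1) {r : Rt chevE6} {Q : List (List ℕ)} {c : ℕ}
    (h : okPar r Q = true) (hc : c = 1 ∨ c = 2 ∨ c = 3) (a b : Fin 78) :
    xI chevE6 K r (cfv ω c) (idx.symm a) (idx.symm b) = dec ω (elN Q c) a b := by
  simp only [okPar, Bool.and_eq_true, List.all_eq_true, List.mem_finRange, decide_eq_true_eq,
    forall_const, Nat.blt_eq] at h
  obtain ⟨h1, hlt⟩ := h
  have hsmall : ∀ k, (Q.getD k []).getD a.val 0 < 2 ^ 78 := by
    intro k
    by_cases hk : k < Q.length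
    · rw [List.getD_eq_getElem Q _ hk]
      by_cases ha : a.val < (Q[k]).length
      · rw [List.getD_eq_getElem _ _ ha]
        exact hlt _ (List.getElem_mem hk) _ (List.getElem_mem ha)
      · rw [List.getD_eq_default _ _ (not_lt.1 ha)]; positivity
    · rw [List.getD_eq_default _ _ (not_lt.1 hk)]; simp
  have hv : ∀ k : Fin 4, ((E chevE6 k.val r (idx.symm a) (idx.symm b) : ℤ) : K) =
      rowVec ω ((Q.getD k.val []).getD a.val 0) b.val := fun k => by
    rw [rowVec_small ω (hsmall _)]
    exact intCast_parity _ _ (h1 k a b)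
  show _ = rowVec ω (rowAt (elN Q c) a.val) b.val
  rw [elN, rowAt_packRows _ (fun x hx => by
    obtain ⟨y, -, rfl⟩ := List.mem_map.1 hx
    exact Nat.xor_lt_two_pow (Nat.xor_lt_two_pow (scl_lt _ _) (scl_lt _ _))
      (Nat.xor_lt_two_pow (scl_lt _ _) (scl_lt _ _)))]
  rw [List.getD_eq_getElem _ 0 (by simp), List.getElem_map, List.getElem_range]
  simp only [rowVec_xor, rowVec_scl ω hω _ _ b.isLt]
  obtain ⟨p0, p1, p2, p3⟩ := cfv_pw ω hω hc
  rw [p0, p1, p2, p3]
  have e0 := hv 0
  have e1 := hv 1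
  have e2 := hv 2
  have e3 := hv 3
  simp only [Fin.val_zero, Fin.val_one, Fin.val_two, show ((3 : Fin 4).val) = 3 from rfl] at e0 e1 e2 e3
  rw [← e0, ← e1, ← e2, ← e3]
  simp only [xI, Finset.sum_range_succ, Finset.sum_range_zero, zero_add, Matrix.add_apply,
    Matrix.smul_apply, smul_eq_mul, Ek, Matrix.map_apply, pow_zero, pow_one, Int.coe_castRingHom]
  ring

/-- The renumbering of the coordinates as a monoid homomorphism. -/
noncomputable def rho : Matrix chevE6.Idx chevE6.Idx K →* Matrix (Fin 78) (Fin 78) K :=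
  (Matrix.reindexAlgEquiv K K idx).toAlgHom.toMonoidHom

theorem rho_apply (A : Matrix chevE6.Idx chevE6.Idx K) (a b : Fin 78) :
    rho A a b = A (idx.symm a) (idx.symm b) := rfl

theorem rho_injective : Function.Injective (rho (K := K)) :=
  (Matrix.reindexAlgEquiv K K idx).injective

/-- The coded matrix of a group element. -/
noncomputable def mat78 (g : GL chevE6.Idx K) : Matrix (Fin 78) (Fin 78) K := rho g.val

theorem mat78_injective : Function.Injective (mat78 (K := K)) := fun _ _ h =>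
  Units.ext (rho_injective h)

theorem mat78_one : mat78 (1 : GL chevE6.Idx K) = 1 := map_one (rho (K := K))

theorem mat78_mul (g h : GL chevE6.Idx K) : mat78 (g * h) = mat78 g * mat78 h :=
  map_mul (rho (K := K)) _ _

theorem mat78_prod (l : List (GL chevE6.Idx K)) : mat78 l.prod = (l.map mat78).prod := by
  induction l with
  | nil => exact mat78_one
  | cons g l ih => rw [List.prod_cons, mat78_mul, ih, List.map_cons, List.prod_cons]

/-- A root element. -/
noncomputable def xg (e : ℕ) : GL chevE6.Idx K :=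
  (E6.C).X K (rtN (rootOf e)) (cfv ω (keyOf e).2)

theorem mat78_xg (hω : ω * ω = ω + 1) {e : ℕ} (he : e < 28) :
    mat78 (xg ω e) = genMat ω (elList.getD e []) := by
  have h := List.all_eq_true.1 el_ok e (List.mem_range.2 he)
  simp only [Bool.and_eq_true, Nat.blt_eq, Nat.beq_eq] at h
  obtain ⟨⟨⟨⟨⟨hg, hr⟩, hc0⟩, hc4⟩, -⟩, heq⟩ := h
  have hp : okPar (rtN (rootOf e)) (parList.getD (keyOf e).1 []) = true :=
    List.all_eq_true.1 par_ok _ (List.mem_range.2 hr)
  have hgen : dec ω (evalN [elList.getD e []]) = genMat ω (elList.getD e []) := by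
    rw [dec_evalN ω hω _ (by simpa using hg)]; simp
  rw [← hgen, heq]
  ext a b
  exact xI_code ω hω hp (by omega) a b

/-- A standard generator. -/
noncomputable def gw (i : ℕ) : GL chevE6.Idx K := ((wdList.getD i []).map (xg ω)).prod

theorem xg_val {e : ℕ} (he : e < 28) :
    ((xg ω e : GL chevE6.Idx K) : Matrix chevE6.Idx chevE6.Idx K) =
      chevE6.x K (rootOf e) (cfv ω (keyOf e).2) := by
  have h := List.all_eq_true.1 el_ok e (List.mem_range.2 he)
  simp only [Bool.and_eq_true, Nat.blt_eq] at h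
  rw [xg, E6.C.X_val_x]
  congr 1
  exact Nat.mod_eq_of_lt h.1.2

theorem gw_mem (hω : ω * ω = ω + 1) {i : ℕ} (hi : i < 16) :
    gw ω i ∈ Cfsg.Lie.twistedE6 K 2 := by
  have h := List.all_eq_true.1 wd_ok i (List.mem_range.2 hi)
  unfold gw
  rcases hw : wdList.getD i [] with _ | ⟨e, _ | ⟨e', _ | ⟨x, l⟩⟩⟩ <;> rw [hw] at h <;>
    simp only [okWd, Bool.and_eq_true, Nat.beq_eq, Nat.blt_eq, List.contains_iff_mem, Bool.false_eq_true] at h
  · obtain ⟨⟨hr, hc⟩, he⟩ := h
    refine Subgroup.subset_closure ⟨[(rootOf e, cfv ω (keyOf e).2)], Or.inl ⟨_, ?_, _, hr, rfl⟩, ?_⟩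
    · rw [hc]; exact one_pow 2
    · simp [ChevalleyDatum.wordMat, xg_val ω he]
  · obtain ⟨⟨⟨hr, hc⟩, he⟩, he'⟩ := h
    have hc' : (keyOf e).2 = 1 ∨ (keyOf e).2 = 2 ∨ (keyOf e).2 = 3 := by
      have h := List.all_eq_true.1 el_ok e (List.mem_range.2 he)
      simp only [Bool.and_eq_true, Nat.blt_eq] at h
      omega
    refine Subgroup.subset_closure ⟨[(rootOf e, cfv ω (keyOf e).2), (rootOf e', cfv ω (keyOf e).2 ^ 2)],
      Or.inr ⟨_, (rootOf e, rootOf e'), hr, rfl⟩, ?_⟩
    have hs : cfv ω (keyOf e').2 = cfv ω (keyOf e).2 ^ 2 := by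
      rw [hc]; exact (cfv_pw ω hω hc').2.2.1
    simp [ChevalleyDatum.wordMat, xg_val ω he, xg_val ω he', hs]

/-- The coded word of a word in the standard generators. -/
def flatW (l : List ℕ) : List (List (List (ℕ × ℕ))) :=
  l.flatMap fun i => (wdList.getD i []).map fun e => elList.getD e []

theorem mat78_gw (hω : ω * ω = ω + 1) {l : List ℕ} (hl : ∀ i ∈ l, i < 16) :
    mat78 ((l.map (gw ω)).prod) = ((flatW l).map (genMat ω)).prod := by
  induction l with
  | nil => exact mat78_one
  | cons i l ih =>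
    have hall : ∀ e ∈ wdList.getD i [], e < 28 := by
      have h := List.all_eq_true.1 wd_ok i (List.mem_range.2 (hl i (by simp)))
      rcases hw : wdList.getD i [] with _ | ⟨e, _ | ⟨e', _ | ⟨x, l⟩⟩⟩ <;> rw [hw] at h <;>
        simp [okWd] at h
      · simp [h.2]
      · simp [h.1.2, h.2]
    rw [List.map_cons, List.prod_cons, mat78_mul, ih fun j hj => hl j (by simp [hj])]
    simp only [flatW, List.flatMap_cons]
    rw [List.map_append, List.prod_append, gw, mat78_prod, List.map_map, List.map_map]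
    congr 2
    exact List.map_congr_left fun e he => mat78_xg ω hω (hall e he)

end Field

end Cfsg.Agent.Lib.E6Fi22
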