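import Cfsg.Prelude.Def_Spor_Fi22
import Cfsg.Agent.Lib.E6Fi22.Gens
import Cfsg.Agent.Lib.E6Fi22.DataImg
import Cfsg.Agent.S1696

/-! An embedding of the presented group Fi22 into the twisted group of type E₆ over the field of order four. -/

set_option autoImplicit false
set_option maxRecDepth 100000
set_option linter.unusedSectionVars false

namespace Cfsg.Agent.Lib.E6Fi22

open Cfsg.Spor Cfsg.Spor.Fi22 Cfsg.Lie
open scoped MatrixGroups

/-- The place of a generator. -/
def num : Gen → ℕ
  | .a => 0
  | .b => 1
  | .c => 2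
  | .d => 3
  | .e => 4
  | .f => 5
  | .g => 6
  | .h => 7
  | .i => 8

/-- All generators. -/
def gensAll : List Gen := [.a, .b, .c, .d, .e, .f, .g, .h, .i]

theorem mem_gensAll (x : Gen) : x ∈ gensAll := by cases x <;> simp [gensAll]

theorem num_lt (x : Gen) : num x < 9 := by cases x <;> decide

/-- The coded image of a place. -/
def imgN (k : ℕ) : List (List (ℕ × ℕ)) := imgList.getD k []

theorem img_ok : ((List.range 9).all fun k => (twList.getD k []).all (fun i => Nat.blt i 16) &&
    sameWord [imgN k] (flatW (twList.getD k []))) = true := by decide +kernel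

/-- The coded word of a power of a word in the generators. -/
def powW (w : List Gen) : ℕ → List (List (List (ℕ × ℕ)))
  | 0 => []
  | n + 1 => (w.map fun x => imgN (num x)) ++ powW w n

theorem cox_ok : (gensAll.all fun x => gensAll.all fun y =>
    sameWord (powW [x, y] (coxLabel edges x y)) []) = true := by decide +kernel

theorem sq_ok : (gensAll.all fun x => sameWord (powW [x] 2) []) = true := by decide +kernel

theorem spider_ok : sameWord (powW [.d, .c, .b, .d, .e, .f, .d, .h, .i] 10) [] = true := by decide +kernel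

theorem e7a_ok : sameWord (powW [.a, .b, .c, .d, .e, .f, .h] 9) [] = true := by decide +kernel

theorem e7b_ok : sameWord (powW [.b, .c, .d, .e, .f, .g, .h] 9) [] = true := by decide +kernel

theorem a_entry : ((List.range 78).any fun i => (List.range 78).any fun j => !(Nat.beq i j) &&
    (rowAt (evalN [imgN 0]) i).testBit j && !((rowAt (evalN [imgN 0]) i).testBit (78 + j))) = true := by
  decide +kernel

variable {K : Type*} [Field K] [CharP K 2] (ω : K)

/-- The image of a generator. -/
noncomputable def im (x : Gen) : GL chevE6.Idx K := ((twList.getD (num x) []).map (gw ω)).prod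

theorem mat78_im (hω : ω * ω = ω + 1) (x : Gen) : mat78 (im ω x) = genMat ω (imgN (num x)) := by
  have h := List.all_eq_true.1 img_ok _ (List.mem_range.2 (num_lt x))
  simp only [Bool.and_eq_true, List.all_eq_true, Nat.blt_eq] at h
  rw [im, mat78_gw ω hω h.1, ← prod_eq_prod ω hω h.2]
  simp

theorem im_mem (hω : ω * ω = ω + 1) (x : Gen) : im ω x ∈ Cfsg.Lie.twistedE6 K 2 := by
  have h := List.all_eq_true.1 img_ok _ (List.mem_range.2 (num_lt x))
  simp only [Bool.and_eq_true, List.all_eq_true, Nat.blt_eq] at h
  refine list_prod_mem fun y hy => ?_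
  obtain ⟨i, hi, rfl⟩ := List.mem_map.1 hy
  exact gw_mem ω hω (h.1 i hi)

theorem powW_prod (hω : ω * ω = ω + 1) (w : List Gen) (n : ℕ) :
    ((powW w n).map (genMat ω)).prod = mat78 ((w.map (im ω)).prod ^ n) := by
  induction n with
  | zero => rw [pow_zero, mat78_one]; rfl
  | succ n ih =>
    rw [powW, List.map_append, List.prod_append, ih, pow_succ', mat78_mul, mat78_prod, List.map_map,
      List.map_map]
    congr 2
    exact List.map_congr_left fun x _ => (mat78_im ω hω x).symm

theorem pow_eq_one (hω : ω * ω = ω + 1) {w : List Gen} {n : ℕ} (h : sameWord (powW w n) [] = true) :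
    (w.map (im ω)).prod ^ n = 1 := by
  apply mat78_injective
  rw [← powW_prod ω hω, prod_eq_prod ω hω h, mat78_one]
  rfl

theorem rels (hω : ω * ω = ω + 1) :
    ∀ r ∈ coxRelators edges ∪ {r | r ∈ extra}, FreeGroup.lift (im ω) r = 1 := by
  rintro r (⟨x, -, y, -, rfl⟩ | hr)
  · rw [map_pow, map_mul, FreeGroup.lift_apply_of, FreeGroup.lift_apply_of]
    simpa using pow_eq_one ω hω
      (List.all_eq_true.1 (List.all_eq_true.1 cox_ok x (mem_gensAll x)) y (mem_gensAll y))
  · have h1 := pow_eq_one ω hω spider_ok
    have h2 := pow_eq_one ω hω e7a_ok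
    have h3 := pow_eq_one ω hω e7b_ok
    simp only [Set.mem_ofPred_eq, extra, List.mem_cons, List.mem_nil_iff, or_false] at hr
    rcases hr with rfl | rfl | rfl
    · simpa [mul_assoc] using h1
    · simpa [mul_assoc] using h2
    · simpa [mul_assoc] using h3

/-- The representation. -/
noncomputable def rep (hω : ω * ω = ω + 1) : Cfsg.Spor.Fi22 →* GL chevE6.Idx K :=
  PresentedGroup.toGroup (rels ω hω)

theorem rep_of (hω : ω * ω = ω + 1) (x : Gen) : rep ω hω (PresentedGroup.of x) = im ω x :=
  PresentedGroup.toGroup.of (rels ω hω)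

theorem rep_range_le (hω : ω * ω = ω + 1) : (rep ω hω).range ≤ Cfsg.Lie.twistedE6 K 2 := by
  rw [MonoidHom.range_eq_map, ← PresentedGroup.closure_range_of, MonoidHom.map_closure, Subgroup.closure_le]
  rintro _ ⟨_, ⟨x, rfl⟩, rfl⟩
  rw [SetLike.mem_coe, rep_of]
  exact im_mem ω hω x

theorem im_a_ne (hω : ω * ω = ω + 1) : im ω Gen.a ≠ 1 := by
  intro h
  have e := mat78_im ω hω Gen.a
  rw [h, mat78_one] at e
  have hok : okGen (imgN 0) = true := by
    have h := List.all_eq_true.1 img_ok 0 (by simp)
    simp only [Bool.and_eq_true, sameWord, List.all_eq_true] at h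
    exact h.2.1.1 _ (by simp)
  have hd : dec ω (evalN [imgN 0]) = 1 := by
    rw [dec_evalN ω hω _ (by simpa using hok), List.map_singleton, List.prod_singleton]
    exact e.symm
  have hc := a_entry
  simp only [List.any_eq_true, List.mem_range, Bool.and_eq_true, Bool.not_eq_true'] at hc
  obtain ⟨i, hi, j, hj, ⟨hne, h1⟩, h2⟩ := hc
  have he := congrFun (congrFun hd ⟨i, hi⟩) ⟨j, hj⟩
  have hij : i ≠ j := fun h => by subst h; simp at hne
  simp [dec, rowVec, h1, h2, bv, hij] at he

theorem rep_injective (hω : ω * ω = ω + 1) : Function.Injective (rep ω hω) := by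
  have : IsSimpleGroup Cfsg.Spor.Fi22 := Cfsg.Agent.S1696.result.1
  rw [← MonoidHom.ker_eq_bot_iff]
  refine ((rep ω hω).normal_ker.eq_bot_or_eq_top).resolve_right fun h => im_a_ne ω hω ?_
  rw [← rep_of ω hω]
  exact MonoidHom.mem_ker.1 (h ▸ Subgroup.mem_top _)

end Cfsg.Agent.Lib.E6Fi22
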