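import Cfsg.Prelude.Def_KGroupFacts
import Cfsg.Agent.Lib.TwMax.E6F4Sub
import Cfsg.Agent.Lib.E6Fi22.Commutant

/-!
Three classes of an absolutely irreducible subgroup of ²E₆(2) with outer automorphism group of order
two, fused by the diagonal automorphisms.
-/

set_option autoImplicit false
set_option linter.unusedSectionVars false

namespace Cfsg.Agent.Lib.E6Fi22

open Cfsg.Lie
open Cfsg.Agent.Lib.ChevStructure Cfsg.Agent.Lib.LieTwisted.Twist
open scoped MatrixGroups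

variable {K : Type*} [Field K] [Fintype K]

/-- A field with four elements contains a root of x² + x + 1. -/
theorem exists_root (hK : Fintype.card K = 4) : ∃ _ : CharP K 2, ∃ ω : K, ω * ω = ω + 1 := by
  classical
  have : Fact (Nat.Prime 2) := ⟨Nat.prime_two⟩
  have : CharP K 2 := charP_of_card_eq_prime_pow (f := 2) (by rw [hK]; norm_num)
  refine ⟨inferInstance, ?_⟩
  obtain ⟨x, hx⟩ : ∃ x : K, x ∉ ({0, 1} : Finset K) := by
    by_contra h
    push Not at h
    have h1 := Finset.card_le_card (s := (Finset.univ : Finset K)) fun x _ => h x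
    have h2 := Finset.card_le_two (a := (0 : K)) (b := 1)
    rw [Finset.card_univ, hK] at h1
    omega
  simp only [Finset.mem_insert, Finset.mem_singleton, not_or] at hx
  refine ⟨x, ?_⟩
  have h4 : x ^ 4 = x := by rw [← hK]; exact FiniteField.pow_card x
  have h : (x * x + x + 1) * (x * (x - 1)) = 0 := by linear_combination h4
  have hne : x * (x - 1) ≠ 0 := mul_ne_zero hx.1 (sub_ne_zero.2 hx.2)
  linear_combination (mul_eq_zero.1 h).resolve_right hne - (x + 1) * (CharTwo.two_eq_zero (R := K))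

/-- An element of the extended group whose square induces an inner automorphism fixes the class. -/
theorem param_eq_one {φ : K ≃+* K} (F : Frob.Facts K 2 2 φ) (hK : Fintype.card K = 2 ^ 2)
    {c : Kˣ} {g p : GL chevE6.Idx K} (hg : g ∈ chevE6.group K) (hp : p ∈ chevE6.group K)
    (h : ∀ x, Commute (p⁻¹ * (E6.C.T K (TwMax.E6F4.chi c) * g) ^ 2) x) : c = 1 := by
  set O := E6.orth F one_lt_two hK
  set T := E6.C.T K (TwMax.E6F4.chi c) with hT
  have hT2 : T * T = E6.C.T K (TwMax.E6F4.chi (c * c)) := by rw [hT, TwMax.T_mul, TwMax.E6F4.chi_mul]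
  set G := p⁻¹ * ((T * g * T⁻¹) * ((T * T) * g * (T * T)⁻¹)) with hG
  have hGm : G ∈ chevE6.group K := by
    refine mul_mem (inv_mem hp) (mul_mem (ChevAut.T_conj_mem E6.C _ hg) ?_)
    rw [hT2]
    exact ChevAut.T_conj_mem E6.C _ hg
  have hform : p⁻¹ * (T * g) ^ 2 = G * E6.C.T K (TwMax.E6F4.chi (c * c)) := by
    rw [← hT2, hG, pow_two]; group
  obtain ⟨-, c₀, hc₀⟩ := TwMax.centralises_trivial O (M := ⊤) (fun _ => Subgroup.mem_top _)
    (fun _ => Subgroup.mem_top _) hGm (TwMax.E6F4.chi (c * c))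
    (fun x _ => by rw [← hform]; exact (h x).eq)
  set e := c * c with he
  have hcube := TwMax.E6F4.cube_one F hK
  have hinv : ∏ m, TwMax.E6F4.chi e m ^ E6.invA ⟨0, by decide⟩ m = 1 := by
    simp only [hc₀]
    rw [TwMax.E6F4.prod_chA, show (3 : ℤ) = ((3 : ℕ) : ℤ) from rfl, zpow_natCast, hcube]
  have hval : ∏ m, TwMax.E6F4.chi e m ^ E6.invA ⟨0, by decide⟩ m = e ^ 2 :=
    calc ∏ m, TwMax.E6F4.chi e m ^ E6.invA ⟨0, by decide⟩ m =
          e ^ (4 : ℤ) * 1 * 1 * 1 * 1 * (e ^ 2) ^ (2 : ℤ) := by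
          refine (Fin.prod_univ_six _).trans ?_
          simp [TwMax.E6F4.chi, E6.invA]
          rfl
      _ = e ^ 2 * (e ^ 3) ^ 2 := by
          simp only [mul_one, show (4 : ℤ) = ((4 : ℕ) : ℤ) from rfl,
            show (2 : ℤ) = ((2 : ℕ) : ℤ) from rfl, zpow_natCast, ← pow_mul, ← pow_add]
      _ = e ^ 2 := by rw [hcube, one_pow, mul_one]
  rw [hval, he] at hinv
  calc c = c ^ 3 * c := by rw [hcube, one_mul]
    _ = (c * c) ^ 2 := by rw [← pow_succ, ← pow_two, ← pow_mul]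
    _ = 1 := hinv

/-- Three classes from one subgroup. -/
theorem three_classes (hK : Fintype.card K = 4) {L : Type*} [Group L]
    (hout : Nat.card (Cfsg.Out L) = 2) (ψ : L →* GL chevE6.Idx K) (hψ : Function.Injective ψ)
    (hle : ψ.range ≤ Cfsg.Lie.twistedE6 K 2)
    (hcent : ∀ z : GL chevE6.Idx K, (∀ l, Commute z (ψ l)) → ∀ x, Commute z x) :
    ∃ H : Fin 3 → Subgroup (Cfsg.Lie.twistedE6 K 2), (∀ i, Nonempty (H i ≃* L)) ∧
      (∀ i j, i ≠ j → ∀ g : (Cfsg.Lie.twistedE6 K 2), (H i).map (MulAut.conj g).toMonoidHom ≠ H j) := by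
  classical
  have hK2 : Fintype.card K = 2 ^ 2 := hK
  obtain ⟨φ, F⟩ := Frob.exists_frob (K := K) Nat.prime_two.isPrimePow hK2 (by norm_num)
  have hW : (E6.orth F one_lt_two hK2).G1 = Cfsg.Lie.twistedE6 K 2 := E6.G1_eq F one_lt_two hK2
  have hu : Nat.card Kˣ = 3 := by rw [F.card_units]; norm_num
  have : Fact (Nat.Prime 3) := ⟨Nat.prime_three⟩
  obtain ⟨ω, hω⟩ := exists_prime_orderOf_dvd_card' (G := Kˣ) 3 (by rw [hu])
  set T : Fin 3 → GL chevE6.Idx K := fun i => E6.C.T K (TwMax.E6F4.chi (ω ^ i.val)) with hTd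
  set S : Fin 3 → Subgroup (GL chevE6.Idx K) :=
    fun i => ψ.range.map (MulAut.conj (T i)).toMonoidHom
  have hS : ∀ i, S i ≤ Cfsg.Lie.twistedE6 K 2 := fun i => hW ▸
    (Subgroup.map_mono (hW.symm ▸ hle)).trans
      (TwMax.E6F4.T_normalises _ _ (TwMax.E6F4.chi_twist F hK2 _))
  refine ⟨fun i => (S i).subgroupOf _, fun i => ⟨(Subgroup.subgroupOfEquivOfLe (hS i)).trans
    ((ψ.range.equivMapOfInjective _ (MulEquiv.injective _)).symm.trans
      (MonoidHom.ofInjective hψ).symm)⟩, fun i j hij g hg => hij ?_⟩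
  have hG1le : ∀ {x}, x ∈ Cfsg.Lie.twistedE6 K 2 → x ∈ chevE6.group K := fun hx =>
    (E6.orth F one_lt_two hK2).G1_le (hW.symm ▸ hx)
  set n := (T j)⁻¹ * (g : GL chevE6.Idx K) * T i with hn
  have hmap : ψ.range.map (MulAut.conj n).toMonoidHom = ψ.range := by
    have h1 := congrArg (Subgroup.map (Cfsg.Lie.twistedE6 K 2).subtype) hg
    simp only [Subgroup.map_map] at h1
    rw [show (Cfsg.Lie.twistedE6 K 2).subtype.comp (MulAut.conj g).toMonoidHom =
        (MulAut.conj (g : GL chevE6.Idx K)).toMonoidHom.comp (Cfsg.Lie.twistedE6 K 2).subtype from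
          MonoidHom.ext fun x => rfl, ← Subgroup.map_map, Subgroup.map_subgroupOf_eq_of_le (hS i),
      Subgroup.map_subgroupOf_eq_of_le (hS j)] at h1
    have h2 := congrArg (Subgroup.map (MulAut.conj (T j)⁻¹).toMonoidHom) h1
    simp only [S, Subgroup.map_map] at h2
    rw [show ((MulAut.conj (T j)⁻¹).toMonoidHom.comp ((MulAut.conj (g : GL chevE6.Idx K)).toMonoidHom.comp
        (MulAut.conj (T i)).toMonoidHom)) = (MulAut.conj n).toMonoidHom from
          MonoidHom.ext fun x => by simp [hn, mul_assoc],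
      show ((MulAut.conj (T j)⁻¹).toMonoidHom.comp (MulAut.conj (T j)).toMonoidHom) = MonoidHom.id _ from
          MonoidHom.ext fun x => by simp [mul_assoc], Subgroup.map_id] at h2
    exact h2
  let e0 : L ≃* ψ.range := MonoidHom.ofInjective hψ
  let α : MulAut L := e0.trans ((((MulAut.conj n).subgroupMap ψ.range).trans
    (MulEquiv.subgroupCongr hmap)).trans e0.symm)
  have hα : ∀ l, ψ (α l) = n * ψ l * n⁻¹ := fun l => by
    show ((e0 (α l) : ψ.range) : GL chevE6.Idx K) = _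
    simp only [α, MulEquiv.trans_apply, MulEquiv.apply_symm_apply]
    rfl
  have : Finite (Cfsg.Out L) := Nat.finite_of_card_ne_zero (by omega)
  obtain ⟨l₀, hl₀⟩ : α ^ 2 ∈ Cfsg.Inn L := by
    rw [← QuotientGroup.eq_one_iff, QuotientGroup.mk_pow, ← hout]
    exact pow_card_eq_one'
  have hcen : ∀ x, Commute ((ψ l₀)⁻¹ * n ^ 2) x := hcent _ fun l => by
    have h : ψ ((α ^ 2) l) = n * (n * ψ l * n⁻¹) * n⁻¹ := by rw [pow_two, MulAut.mul_apply, hα, hα]
    rw [← hl₀, MulAut.conj_apply, map_mul, map_mul, map_inv] at h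
    show _ * ψ l = ψ l * _
    rw [pow_two]
    calc (ψ l₀)⁻¹ * (n * n) * ψ l = (ψ l₀)⁻¹ * (n * (n * ψ l * n⁻¹) * n⁻¹) * (n * n) := by group
      _ = _ := by rw [← h]; group
  set c := (ω ^ j.val)⁻¹ * ω ^ i.val with hc
  have hTi : T j * E6.C.T K (TwMax.E6F4.chi (ω ^ j.val)⁻¹) = 1 := by
    rw [hTd, TwMax.T_mul, ← TwMax.E6F4.chi_mul, mul_inv_cancel, TwMax.E6F4.chi_one, TwMax.T_one]
  set g' := (T i)⁻¹ * (g : GL chevE6.Idx K) * T i with hg'
  have hg'm : g' ∈ chevE6.group K := by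
    have h := ChevAut.T_conj_mem E6.C (TwMax.E6F4.chi (ω ^ i.val))⁻¹ (hG1le g.2)
    have e : E6.C.T K (TwMax.E6F4.chi (ω ^ i.val))⁻¹ = (T i)⁻¹ :=
      eq_inv_of_mul_eq_one_left (by rw [hTd, TwMax.T_mul, inv_mul_cancel, TwMax.T_one])
    rw [e, inv_inv] at h
    exact h
  have hn2 : n = E6.C.T K (TwMax.E6F4.chi c) * g' := by
    have e : E6.C.T K (TwMax.E6F4.chi c) = (T j)⁻¹ * T i := by
      rw [hc, TwMax.E6F4.chi_mul, ← TwMax.T_mul, inv_eq_of_mul_eq_one_right hTi]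
    rw [e, hn, hg']; group
  rw [hn2] at hcen
  have h1 := param_eq_one F hK2 hg'm (hG1le (hle ⟨l₀, rfl⟩)) hcen
  rw [hc, inv_mul_eq_one] at h1
  exact (Fin.ext (pow_injOn_Iio_orderOf (by rw [hω]; exact j.2) (by rw [hω]; exact i.2) h1)).symm

end Cfsg.Agent.Lib.E6Fi22
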